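import Groth.Agent.Synt15.Bridge
import Groth.Agent.CAlgH.CIOpen
import Groth.Agent.CAlgH.KoszulH1
import Groth.Agent.CAlgH.KoszulRegular
import Groth.Agent.VarietyLib.SmoothStalk
import Mathlib.RingTheory.Ideal.Cotangent
import Mathlib.RingTheory.LocalProperties.FinitePresentation
import Mathlib.RingTheory.LocalProperties.Projective

/-! The conormal module of a syntomic algebra is finite projective. -/

set_option autoImplicit false
set_option linter.style.haveILetI false
set_option linter.unusedSectionVars false

universe u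

open RingTheory.Sequence

namespace Groth.Agent.Synt15

section Localization

variable {P A : Type u} [CommRing P] [CommRing A] [Algebra P A] (T : Submonoid P) [IsLocalization T A] (I : Ideal P)

/-- The map on cotangent modules to a localization. -/
noncomputable def locCot : I.Cotangent →ₗ[P] (I.map (algebraMap P A)).Cotangent :=
  Ideal.mapCotangent I (I.map (algebraMap P A)) (Algebra.ofId P A) Ideal.le_comap_map

theorem isLocalizedModule_locCot : IsLocalizedModule T (locCot (A := A) I) := by
  refine ⟨fun t => ?_, fun y => ?_, fun {x₁ x₂} h => ?_⟩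
  · refine (Module.End.isUnit_iff _).mpr ⟨fun v w hvw => ?_, fun v => ?_⟩
    · have : algebraMap P A t • v = algebraMap P A t • w := by
        rw [algebraMap_smul, algebraMap_smul]; simpa using hvw
      exact (IsLocalization.map_units A t).smul_left_cancel.mp this
    · refine ⟨((IsLocalization.map_units A t).unit⁻¹ : Aˣ).1 • v, ?_⟩
      simp only [Module.algebraMap_end_apply]
      rw [← algebraMap_smul A (t : P), smul_smul, IsUnit.mul_val_inv, one_smul]
  · obtain ⟨⟨j, hj⟩, rfl⟩ := (I.map (algebraMap P A)).toCotangent_surjective y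
    obtain ⟨⟨⟨i, hi⟩, t⟩, hit⟩ := (IsLocalization.mem_map_algebraMap_iff T A).1 hj
    refine ⟨⟨I.toCotangent ⟨i, hi⟩, t⟩, ?_⟩
    show (t : P) • ((I.map (algebraMap P A)).toCotangent ⟨j, hj⟩) = locCot (A := A) I (I.toCotangent ⟨i, hi⟩)
    rw [locCot, Ideal.mapCotangent_toCotangent, ← algebraMap_smul A (t : P), ← map_smul]
    refine congrArg _ (Subtype.ext ?_)
    show algebraMap P A t * j = algebraMap P A i
    rw [mul_comm]; exact hit
  · obtain ⟨⟨a, ha⟩, rfl⟩ := I.toCotangent_surjective x₁
    obtain ⟨⟨b, hb⟩, rfl⟩ := I.toCotangent_surjective x₂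
    rw [locCot, Ideal.mapCotangent_toCotangent, Ideal.mapCotangent_toCotangent, Ideal.toCotangent_eq] at h
    have h' : algebraMap P A (a - b) ∈ (I ^ 2).map (algebraMap P A) := by
      rw [map_sub, Ideal.map_pow]; exact h
    obtain ⟨t, ht, hab⟩ := (IsLocalization.algebraMap_mem_map_algebraMap_iff T A _ _).1 h'
    refine ⟨⟨t, ht⟩, ?_⟩
    show t • I.toCotangent ⟨a, ha⟩ = t • I.toCotangent ⟨b, hb⟩
    rw [← map_smul, ← map_smul, Ideal.toCotangent_eq]
    show t * a - t * b ∈ I ^ 2
    rw [← mul_sub]; exact hab

theorem isLocalizedModule_of_surjective {S N N' : Type u} [CommRing S] [Algebra P S] [AddCommGroup N] [AddCommGroup N']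
    [Module P N] [Module P N'] [Module S N] [Module S N'] [IsScalarTower P S N] [IsScalarTower P S N']
    (f : N →ₗ[S] N') (h : IsLocalizedModule T (f.restrictScalars P)) :
    IsLocalizedModule (T.map (algebraMap P S)) f := by
  refine ⟨?_, fun y => ?_, fun {x₁ x₂} he => ?_⟩
  · rintro ⟨_, t, ht, rfl⟩
    refine (Module.End.isUnit_iff _).mpr ?_
    have := (Module.End.isUnit_iff _).mp (h.map_units ⟨t, ht⟩)
    convert this using 1
    ext v
    simp
  · obtain ⟨⟨n, t⟩, hnt⟩ := h.surj y
    exact ⟨⟨n, ⟨algebraMap P S t, t, t.2, rfl⟩⟩, (algebraMap_smul S (t : P) y).trans hnt⟩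
  · obtain ⟨t, ht⟩ := h.exists_of_eq he
    exact ⟨⟨algebraMap P S t, t, t.2, rfl⟩, (algebraMap_smul S (t : P) x₁).trans
      (ht.trans (algebraMap_smul S (t : P) x₂).symm)⟩

theorem isLocalization_quotient_map :
    @IsLocalization (P ⧸ I) _ (T.map (Ideal.Quotient.mk I)) (A ⧸ I.map (algebraMap P A)) _
      (Ideal.quotientMap (I.map (algebraMap P A)) (algebraMap P A) Ideal.le_comap_map).toAlgebra := by
  let θ := Ideal.quotientMap (I.map (algebraMap P A)) (algebraMap P A) (Ideal.le_comap_map (I := I))
  letI := θ.toAlgebra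
  rw [isLocalization_iff]
  refine ⟨?_, fun z => ?_, fun {x y} h => ?_⟩
  · rintro ⟨_, t, ht, rfl⟩
    exact (IsLocalization.map_units A (⟨t, ht⟩ : T)).map (Ideal.Quotient.mk _)
  · obtain ⟨a, rfl⟩ := Ideal.Quotient.mk_surjective z
    obtain ⟨⟨x, t⟩, h⟩ := IsLocalization.surj T a
    exact ⟨⟨Ideal.Quotient.mk I x, ⟨_, t, t.2, rfl⟩⟩, congrArg (Ideal.Quotient.mk _) h⟩
  · obtain ⟨a, rfl⟩ := Ideal.Quotient.mk_surjective x
    obtain ⟨b, rfl⟩ := Ideal.Quotient.mk_surjective y
    have h' : algebraMap P A (a - b) ∈ I.map (algebraMap P A) := by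
      rw [map_sub]; exact Ideal.Quotient.eq.1 h
    obtain ⟨t, ht, hab⟩ := (IsLocalization.algebraMap_mem_map_algebraMap_iff T A _ _).1 h'
    refine ⟨⟨_, t, ht, rfl⟩, ?_⟩
    show Ideal.Quotient.mk I t * Ideal.Quotient.mk I a = Ideal.Quotient.mk I t * Ideal.Quotient.mk I b
    rw [← map_mul, ← map_mul, Ideal.Quotient.eq, ← mul_sub]
    exact hab

end Localization

attribute [local instance] CommAlg6.isLocalRing_fibLocRing

variable {R P : Type u} [CommRing R] [CommRing P] [Algebra R P] [Algebra.Smooth R P]

theorem isRegularLocalRing_fib_of_smooth (Q : Ideal P) [Q.IsPrime] : IsRegularLocalRing (EGA4.FibLocRing R P Q) := by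
  obtain ⟨Q', hQ', ⟨e⟩⟩ := CommAlg6.exists_fiber_prime (A := R) Q
  have : IsRegularLocalRing (Localization.AtPrime Q') := VarietyLib.isRegularLocalRing_of_smooth
    (Q.comap (algebraMap R P)).ResidueField ((Q.comap (algebraMap R P)).Fiber P) Q'
  exact IsRegularLocalRing.of_ringEquiv (R := Localization.AtPrime Q') e

/-- Local bases of the conormal module of a syntomic quotient of a smooth algebra. -/
theorem exists_free_cotangent (I : Ideal P) (hI : I.FG) (hS : Synt.IsSyntomic R (P ⧸ I)) (Q : Ideal P) [Q.IsPrime]
    (hQ : I ≤ Q) : ∃ d ∉ Q, Module.Free (Localization.Away d ⧸ I.map (algebraMap P (Localization.Away d)))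
      (I.map (algebraMap P (Localization.Away d))).Cotangent := by
  haveI := hS.1
  haveI : Module.Flat R P := inferInstance
  let π : P →ₐ[R] P ⧸ I := Ideal.Quotient.mkₐ R I
  let q : Ideal (P ⧸ I) := Q.map (Ideal.Quotient.mk I)
  haveI : q.IsPrime := Ideal.map_isPrime_of_surjective Ideal.Quotient.mk_surjective (by rwa [Ideal.mk_ker])
  have hq : q.comap π.toRingHom = Q := by
    show (Q.map (Ideal.Quotient.mk I)).comap (Ideal.Quotient.mk I) = Q
    rw [Ideal.comap_map_of_surjective _ Ideal.Quotient.mk_surjective, ← RingHom.ker_eq_comap_bot, Ideal.mk_ker]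
    exact sup_eq_left.2 hQ
  obtain ⟨φ, hφ, hφk⟩ := CAlgH.CIOpen.exists_fib_surjection π Ideal.Quotient.mk_surjective q
  haveI : IsRegularLocalRing (EGA4.FibLocRing R P (q.comap π.toRingHom)) := isRegularLocalRing_fib_of_smooth _
  haveI := isNoetherianRing_of_surjective _ _ φ hφ
  have hreg := hφk ▸ (CAlgH.CIPresentation.isCompleteIntersection_iff φ hφ).1 (ci_fibre_of_isSyntomic hS q)
  obtain ⟨rs, G, hG, hrsI, hgen, hcolon, -⟩ := CAlgH.CIOpen.exists_regular_generators I hI (q.comap π.toRingHom) (by
    rwa [show RingHom.ker π.toRingHom = I from Ideal.mk_ker] at hreg)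
  rw [hq] at hG
  refine ⟨G, hG, ?_⟩
  let A := Localization.Away G
  let f : Fin rs.length → A := fun i => algebraMap P A (rs.get i)
  have hf : List.ofFn f = rs.map (algebraMap P A) := by
    conv_rhs => rw [← List.ofFn_get rs]
    rw [List.map_ofFn]
    rfl
  have hw : IsWeaklyRegular A (List.ofFn f) := by
    rw [hf]; exact CAlgH.CIOpen.isWeaklyRegular_localization (Submonoid.powers G) (Submonoid.mem_powers G) hcolon
  have hspan : Ideal.span (Set.range f) = I.map (algebraMap P A) := by
    rw [CAlgH.CIOpen.map_eq_of_mul_mem (L := A) (Submonoid.powers G) (Submonoid.mem_powers G) hrsI hgen,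
      Ideal.map_ofList, ← hf, ofList_ofFn]
  let f' : Fin rs.length → I.map (algebraMap P A) := fun i => ⟨f i, hspan.le (Ideal.subset_span ⟨i, rfl⟩)⟩
  obtain ⟨b, -⟩ := CAlgH.KoszulRegular.exists_basis_cotangent f' (CAlgH.KoszulH1.kreg_of_isWeaklyRegular hw) hspan
  exact Module.Free.of_basis b

/-- The conormal module of a syntomic quotient of a smooth algebra is finite projective. -/
theorem projective_cotangent (I : Ideal P) (hI : I.FG) (hS : Synt.IsSyntomic R (P ⧸ I)) :
    Module.Finite (P ⧸ I) I.Cotangent ∧ Module.Projective (P ⧸ I) I.Cotangent := by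
  haveI : Module.Finite P I := Module.Finite.iff_fg.2 hI
  haveI : Module.Finite P I.Cotangent := Module.Finite.of_surjective _ I.toCotangent_surjective
  haveI hfin : Module.Finite (P ⧸ I) I.Cotangent := Module.Finite.of_restrictScalars_finite P (P ⧸ I) I.Cotangent
  refine ⟨hfin, ?_⟩
  let s : Set (P ⧸ I) := {h | ∃ d : P, Ideal.Quotient.mk I d = h ∧
    Module.Free (Localization.Away d ⧸ I.map (algebraMap P (Localization.Away d)))
      (I.map (algebraMap P (Localization.Away d))).Cotangent}
  have hs : Ideal.span s = ⊤ := by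
    by_contra hne
    obtain ⟨M, hM, hle⟩ := Ideal.exists_le_maximal _ hne
    haveI := hM.isPrime
    obtain ⟨d, hd, hfree⟩ := exists_free_cotangent I hI hS (M.comap (Ideal.Quotient.mk I)) (fun x hx => by
      show Ideal.Quotient.mk I x ∈ M
      rw [Ideal.Quotient.eq_zero_iff_mem.2 hx]
      exact zero_mem _)
    exact hd (hle (Ideal.subset_span ⟨d, rfl, hfree⟩))
  have key : ∀ h : s, ∃ (A : Type u) (_ : CommRing A) (_ : Algebra (P ⧸ I) A) (N : Type u) (_ : AddCommGroup N)
      (_ : Module (P ⧸ I) N) (_ : Module A N) (_ : IsScalarTower (P ⧸ I) A N) (φ : I.Cotangent →ₗ[P ⧸ I] N),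
      IsLocalization.Away h.1 A ∧ IsLocalizedModule (.powers h.1) φ ∧ Module.Free A N ∧ Module.Finite A N := by
    rintro ⟨h, d, rfl, hfree⟩
    let A := Localization.Away d
    let J := I.map (algebraMap P A)
    let θ := Ideal.quotientMap J (algebraMap P A) (Ideal.le_comap_map (I := I))
    letI alg : Algebra (P ⧸ I) (A ⧸ J) := θ.toAlgebra
    letI : Module (P ⧸ I) J.Cotangent := Module.compHom _ θ
    haveI : IsScalarTower (P ⧸ I) (A ⧸ J) J.Cotangent := .of_algebraMap_smul fun _ _ => rfl
    haveI : IsScalarTower P (P ⧸ I) J.Cotangent := .of_algebraMap_smul fun r x => by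
      show θ (Ideal.Quotient.mk I r) • x = r • x
      rw [← algebraMap_smul A r x, ← algebraMap_smul (A ⧸ J) (algebraMap P A r) x]
      rfl
    haveI hfinA : Module.Finite (A ⧸ J) J.Cotangent := by
      haveI : Module.Finite A J := Module.Finite.iff_fg.2 (hI.map _)
      haveI : Module.Finite A J.Cotangent := Module.Finite.of_surjective _ J.toCotangent_surjective
      exact Module.Finite.of_restrictScalars_finite A (A ⧸ J) J.Cotangent
    let φ : I.Cotangent →ₗ[P ⧸ I] J.Cotangent :=
      (locCot (A := A) I).extendScalarsOfSurjective Ideal.Quotient.mk_surjective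
    have hpow : (Submonoid.powers d).map (Ideal.Quotient.mk I) = Submonoid.powers (Ideal.Quotient.mk I d) :=
      Submonoid.map_powers _ _
    refine ⟨A ⧸ J, inferInstance, alg, J.Cotangent, inferInstance, inferInstance, inferInstance, inferInstance, φ,
      ?_, ?_, hfree, hfinA⟩
    · show IsLocalization (Submonoid.powers _) (A ⧸ J)
      rw [← hpow]
      exact isLocalization_quotient_map (A := A) (Submonoid.powers d) I
    · rw [← hpow]
      exact isLocalizedModule_of_surjective (S := P ⧸ I) (Submonoid.powers d) φ (by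
        have : φ.restrictScalars P = locCot (A := A) I := LinearMap.ext fun _ => rfl
        rw [this]
        exact isLocalizedModule_locCot (Submonoid.powers d) I)
  choose A cA aA N cN mN mAN tN φ hA hN hfree hfinA using key
  letI := cA; letI := aA; letI := cN; letI := mN; letI := mAN
  haveI := tN; haveI := hA; haveI := hN; haveI := hfree; haveI := hfinA
  haveI : Module.FinitePresentation (P ⧸ I) I.Cotangent :=
    Module.FinitePresentation.of_localizationSpan' (Rₚ := A) s hs φ fun h => Module.finitePresentation_of_projective (A h) (N h)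
  haveI : Module.Flat (P ⧸ I) I.Cotangent :=
    Module.flat_of_isLocalized_span (P ⧸ I) I.Cotangent s hs N φ fun h => by
      haveI : Module.Flat (P ⧸ I) (A h) := IsLocalization.flat _ (Submonoid.powers h.1)
      exact Module.Flat.trans (P ⧸ I) (A h) (N h)
  exact Module.Flat.projective_of_finitePresentation

/-- Projectivity of a localized module does not depend on the chosen localization. -/
theorem projective_congr_localization {S M : Type u} [CommRing S] [AddCommGroup M] [Module S M] (T : Submonoid S)
    (A B : Type u) [CommRing A] [CommRing B] [Algebra S A] [Algebra S B] [IsLocalization T A] [IsLocalization T B]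
    {N N' : Type u} [AddCommGroup N] [AddCommGroup N'] [Module S N] [Module S N'] [Module A N] [Module B N']
    [IsScalarTower S A N] [IsScalarTower S B N'] (f : M →ₗ[S] N) (f' : M →ₗ[S] N') [IsLocalizedModule T f]
    [IsLocalizedModule T f'] [Module.Projective A N] : Module.Projective B N' := by
  set e := (IsLocalization.algEquiv T A B).toRingEquiv
  haveI := RingHomInvPair.of_ringEquiv e
  haveI := RingHomInvPair.of_ringEquiv_symm e
  refine Module.Projective.of_equiv (M := N) (R := A) (σ := e)
    { __ := IsLocalizedModule.linearEquiv T f f'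
      map_smul' := ?_ }
  intro r m
  obtain ⟨r, s, rfl⟩ := IsLocalization.exists_mk'_eq T r
  apply ((Module.End.isUnit_iff _).mp (IsLocalizedModule.map_units f' s)).1
  dsimp [e]
  simp only [← map_smul, ← smul_assoc, IsLocalization.smul_mk'_self, algebraMap_smul]
  rw [AlgEquiv.commutes, algebraMap_smul, map_smul]

/-- The localized conormal module of a presentation, where it is syntomic. -/
theorem projective_localized_cotangent (I : Ideal P) (hI : I.FG) (g : P ⧸ I)
    (hg : Synt.IsSyntomic R (Localization.Away g)) :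
    Module.Finite (Localization.Away g) (LocalizedModule (Submonoid.powers g) I.Cotangent) ∧
      Module.Projective (Localization.Away g) (LocalizedModule (Submonoid.powers g) I.Cotangent) := by
  haveI : Module.Finite P I := Module.Finite.iff_fg.2 hI
  haveI : Module.Finite P I.Cotangent := Module.Finite.of_surjective _ I.toCotangent_surjective
  haveI : Module.Finite (P ⧸ I) I.Cotangent := Module.Finite.of_restrictScalars_finite P (P ⧸ I) I.Cotangent
  refine ⟨Module.Finite.of_isLocalizedModule (Submonoid.powers g)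
    (LocalizedModule.mkLinearMap (Submonoid.powers g) I.Cotangent), ?_⟩
  obtain ⟨d, rfl⟩ := Ideal.Quotient.mk_surjective g
  let A := Localization.Away d
  haveI : Algebra.FormallySmooth P A := Algebra.FormallySmooth.of_isLocalization (Submonoid.powers d)
  haveI : Algebra.FinitePresentation P A := IsLocalization.Away.finitePresentation d
  haveI : Algebra.Smooth P A := ⟨inferInstance, inferInstance⟩
  haveI : Algebra.Smooth R A := Algebra.Smooth.comp R P A
  let J := I.map (algebraMap P A)
  let θ := Ideal.quotientMap J (algebraMap P A) (Ideal.le_comap_map (I := I))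
  letI alg : Algebra (P ⧸ I) (A ⧸ J) := θ.toAlgebra
  letI : Module (P ⧸ I) J.Cotangent := Module.compHom _ θ
  haveI : IsScalarTower (P ⧸ I) (A ⧸ J) J.Cotangent := .of_algebraMap_smul fun _ _ => rfl
  haveI : IsScalarTower P (P ⧸ I) J.Cotangent := .of_algebraMap_smul fun r x => by
    show θ (Ideal.Quotient.mk I r) • x = r • x
    rw [← algebraMap_smul A r x, ← algebraMap_smul (A ⧸ J) (algebraMap P A r) x]
    rfl
  let φ : I.Cotangent →ₗ[P ⧸ I] J.Cotangent :=
    (locCot (A := A) I).extendScalarsOfSurjective Ideal.Quotient.mk_surjective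
  have hpow : (Submonoid.powers d).map (Ideal.Quotient.mk I) = Submonoid.powers (Ideal.Quotient.mk I d) :=
    Submonoid.map_powers _ _
  haveI hloc : IsLocalization (Submonoid.powers (Ideal.Quotient.mk I d)) (A ⧸ J) := by
    rw [← hpow]; exact isLocalization_quotient_map (A := A) (Submonoid.powers d) I
  haveI : IsLocalizedModule (Submonoid.powers (Ideal.Quotient.mk I d)) φ := by
    rw [← hpow]
    exact isLocalizedModule_of_surjective (S := P ⧸ I) (Submonoid.powers d) φ (by
      have : φ.restrictScalars P = locCot (A := A) I := LinearMap.ext fun _ => rfl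
      rw [this]
      exact isLocalizedModule_locCot (Submonoid.powers d) I)
  haveI : IsScalarTower R (P ⧸ I) (A ⧸ J) := IsScalarTower.of_algebraMap_eq fun r => by
    show algebraMap R (A ⧸ J) r = θ (Ideal.Quotient.mk I (algebraMap R P r))
    rw [Ideal.quotientMap_mk, ← IsScalarTower.algebraMap_apply]
    rfl
  let e : Localization.Away (Ideal.Quotient.mk I d) ≃ₐ[R] A ⧸ J :=
    (IsLocalization.algEquiv (Submonoid.powers (Ideal.Quotient.mk I d)) _ (A ⧸ J)).restrictScalars R
  haveI := (projective_cotangent J (hI.map _) (isSyntomic_congr e hg)).2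
  exact projective_congr_localization (Submonoid.powers (Ideal.Quotient.mk I d)) (A ⧸ J)
    (Localization.Away (Ideal.Quotient.mk I d)) φ (LocalizedModule.mkLinearMap _ _)

end Groth.Agent.Synt15
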