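import Groth.Agent.Synt15.SyntAt
import Groth.Agent.CAlgH.CIImmersion
import Groth.Agent.CAlgH.KoszulH1
import Groth.Agent.CAlgH.RegImmStalk
import Groth.Agent.VarietyLib.SmoothStalk

/-! Local complete intersection morphisms which are flat have complete intersection fibres. -/

set_option autoImplicit false
set_option linter.style.haveILetI false
set_option backward.isDefEq.respectTransparency false

universe u

open CategoryTheory CategoryTheory.Limits AlgebraicGeometry IsLocalRing RingTheory.Sequence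

namespace Groth.Agent.Synt15

/-- An `H₁`-regular sequence with flat quotient is `H₁`-regular on the fibres. -/
theorem h1_quotient_of_flat {R L : Type u} [CommRing R] [CommRing L] [Algebra R L] (a : Ideal R) {m : ℕ}
    (f : Fin m → L) (h : CAlgX.IsH1Regular f) [Module.Flat R (L ⧸ Ideal.span (Set.range f))] :
    CAlgX.IsH1Regular fun i => Ideal.Quotient.mk (a.map (algebraMap R L)) (f i) := by
  classical
  intro x hx
  choose v hv using fun i => Ideal.Quotient.mk_surjective (I := a.map (algebraMap R L)) (x i)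
  have hmem : ∑ i, v i * f i ∈ a.map (algebraMap R L) := by
    rw [← Ideal.Quotient.eq_zero_iff_mem, map_sum, ← hx]
    exact Finset.sum_congr rfl fun i _ => by rw [map_mul, hv]
  have hK : ∑ i, v i * f i ∈ Ideal.span (Set.range f) :=
    Ideal.sum_mem _ fun i _ => Ideal.mul_mem_left _ _ (Ideal.subset_span ⟨i, rfl⟩)
  have h1 := CAlgH.CIOpen.mem_map_mul_of_flat_quotient a (Ideal.span (Set.range f)) hK hmem
  rw [← smul_eq_mul] at h1
  obtain ⟨b, hb, hbe⟩ := (Submodule.mem_ideal_smul_span_iff_exists_sum _ f _).1 h1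
  rw [Finsupp.sum_fintype _ _ (by simp)] at hbe
  have hrel : ∑ i, (v i - b i) * f i = 0 := by
    simp only [sub_mul, Finset.sum_sub_distrib, sub_eq_zero]
    simpa [smul_eq_mul] using hbe.symm
  have h2 := CAlgH.KindBasic.comp_mem_span_triv (φ := Ideal.Quotient.mk (a.map (algebraMap R L))) (h _ hrel)
  have h3 : x = fun i => Ideal.Quotient.mk (a.map (algebraMap R L)) (v i - b i) := funext fun i => by
    rw [map_sub, Ideal.Quotient.eq_zero_iff_mem.2 (hb i), sub_zero, hv]
  rw [h3]
  exact h2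

theorem isRegularLocalRing_fiberStalk_of_smooth {P S : Scheme.{u}} (g : P ⟶ S) [Smooth g] (x : P) :
    IsRegularLocalRing (CInt.fiberStalk g x) := by
  haveI : Smooth (g.fiberToSpecResidueField (g.base x)) := MorphismProperty.pullback_snd _ _ ‹_›
  exact VarietyLib.isRegularLocalRing_stalk_of_smooth ↑(S.residueField (g.base x)) _
    (g.fiberToSpecResidueField (g.base x)) (g.asFiber x)

variable {X Y S : Scheme.{u}}

theorem ci_of_koszul_immersion (g : X ⟶ S) [LocallyOfFiniteType g] (f : Y ⟶ X) [Flat (f ≫ g)]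
    (hf : RegImm.IsRegularImmersion .koszul f) (y : Y) [IsRegularLocalRing (CInt.fiberStalk g (f y))] :
    Pi1.IsCompleteIntersection (CInt.fiberStalk (f ≫ g) y) := by
  haveI := hf.1
  obtain ⟨⟨U, hU⟩, hyU, hc, rs, hrs, hker⟩ := hf.2 y
  let L := X.presheaf.stalk (f y)
  let M := Y.presheaf.stalk y
  let R := S.presheaf.stalk (g (f y))
  letI : Algebra R L := (g.stalkMap (f y)).hom.toAlgebra
  letI : Algebra R M := ((f ≫ g).stalkMap y).hom.toAlgebra
  let r : Fin rs.length → L := fun i => (X.presheaf.germ U (f y) hyU).hom (rs.get i)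
  have hr : CAlgX.IsH1Regular r := by
    let := X.presheaf.algebra_section_stalk ⟨f y, hyU⟩
    have := hU.isLocalization_stalk ⟨f y, hyU⟩
    have : Module.Flat Γ(X, U) L := IsLocalization.flat L (hU.primeIdealOf ⟨f y, hyU⟩).asIdeal.primeCompl
    refine CAlgH.KindBasic.h1_map (S := L) (CAlgH.KoszulH1.h1_of_kreg
      ((CAlgH.KoszulRegular.isKoszulRegularSeq_iff _).1 ?_))
    rw [List.ofFn_get]
    exact hrs
  let φ := (f.stalkMap y).hom
  have hφ : Function.Surjective φ := f.stalkMap_surjective y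
  have hrange : Ideal.span (Set.range r) = RingHom.ker φ := by
    show _ = RingHom.ker (f.stalkMap y).hom
    rw [CAlgH.RegImmStalk.ker_stalkMap_eq f y hU hyU, hker, ← CAlgH.KoszulRegular.span_range_get, Ideal.map_span,
      ← Set.range_comp]
    rfl
  have hcomp : φ.comp (algebraMap R L) = algebraMap R M :=
    (congrArg CommRingCat.Hom.hom (Scheme.Hom.stalkMap_comp f g y)).symm
  let φa : L →ₐ[R] M := ⟨φ, fun c => RingHom.congr_fun hcomp c⟩
  have : Module.Flat R M := Flat.stalkMap (f ≫ g) y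
  have : Module.Flat R (L ⧸ Ideal.span (Set.range r)) :=
    Module.Flat.of_linearEquiv ((Ideal.quotientEquivAlgOfEq R (show _ = RingHom.ker φa.toRingHom from hrange)).trans
      (Ideal.quotientKerAlgEquivOfSurjective (f := φa) hφ)).toLinearEquiv
  obtain ⟨eT⟩ := CAlgH.CIScheme.fiberStalk_equiv g (f y)
  obtain ⟨eF⟩ := CAlgH.CIScheme.fiberStalk_equiv (f ≫ g) y
  let mR := maximalIdeal R
  have : IsRegularLocalRing (L ⧸ mR.map (algebraMap R L)) := IsRegularLocalRing.of_ringEquiv (R := CInt.fiberStalk g (f y)) eT.symm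
  have hmp : (mR.map (algebraMap R L)).map φ = mR.map (algebraMap R M) := by rw [Ideal.map_map, hcomp]
  let ψ : L ⧸ mR.map (algebraMap R L) →+* M ⧸ mR.map (algebraMap R M) :=
    Ideal.quotientMap _ φ (Ideal.map_le_iff_le_comap.1 hmp.le)
  have hψ : Function.Surjective ψ := Ideal.quotientMap_surjective hφ
  have hψk : RingHom.ker ψ = (RingHom.ker φ).map (Ideal.Quotient.mk _) := by
    show RingHom.ker (Ideal.Quotient.lift _ _ _) = _
    rw [Ideal.ker_quotient_lift, ← RingHom.comap_ker, Ideal.mk_ker, ← hmp,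
      Ideal.comap_map_of_surjective _ hφ, ← RingHom.ker_eq_comap_bot, Ideal.map_sup, Ideal.map_quotient_self,
      bot_sup_eq]
  have : Nontrivial (M ⧸ mR.map (algebraMap R M)) := eF.toEquiv.nontrivial
  let F := (eF.toRingHom).comp ψ
  have hF : Function.Surjective F := eF.surjective.comp hψ
  have hFk : RingHom.ker F = RingHom.ker ψ := RingHom.ker_comp_of_injective _ eF.injective
  have : IsNoetherianRing (CInt.fiberStalk (f ≫ g) y) := isNoetherianRing_of_surjective _ _ F hF
  rw [CAlgH.CIPresentation.isCompleteIntersection_iff F hF, hFk, hψk]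
  let s : Fin rs.length → L ⧸ mR.map (algebraMap R L) := fun i => Ideal.Quotient.mk _ (r i)
  have hmem : ∀ i, s i ∈ maximalIdeal (L ⧸ mR.map (algebraMap R L)) :=
    fun i => by
      refine IsLocalRing.le_maximalIdeal (RingHom.ker_ne_top F) ?_
      rw [hFk, hψk]
      exact Ideal.mem_map_of_mem _ (hrange.le (Ideal.subset_span ⟨i, rfl⟩))
  have hw : IsWeaklyRegular (L ⧸ mR.map (algebraMap R L)) (List.ofFn s) :=
    CAlgH.KoszulSeq.isWeaklyRegular_of_koszulH1Zero s
      (fun i => by rw [IsLocalRing.jacobson_eq_maximalIdeal ⊥ bot_ne_top]; exact hmem i) _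
      (CAlgH.KoszulH1.koszulH1Zero_of_h1 (h1_quotient_of_flat mR r hr))
  refine ⟨_, CAlgH.RegularIdealLocal.isRegular_of_mem hw fun x hx => ?_, ?_⟩
  · obtain ⟨i, rfl⟩ := List.mem_ofFn.1 hx
    exact hmem i
  · rw [← hrange, CAlgH.RegularIdealLocal.ofList_ofFn, Ideal.map_span]
    exact congrArg _ (Set.range_comp _ r)

/-- A flat morphism of finite presentation which is Koszul everywhere is syntomic. -/
theorem isSyntomicMor_of_isKoszulAt (f : X ⟶ Y) [Flat f] [LocallyOfFinitePresentation f]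
    (h : ∀ x : X, Synt.IsKoszulAt f x) : Synt.IsSyntomicMor f := by
  intro x
  obtain ⟨U, P, i, π, hxU, -, hi, hπ, hfac⟩ := h x
  have hCI : CInt.IsCIMorphism (U.ι ≫ f) := by
    haveI : Flat (i ≫ π) := hfac ▸ inferInstance
    refine ⟨inferInstance, inferInstance, ?_⟩
    rw [← hfac]
    intro y
    haveI := isRegularLocalRing_fiberStalk_of_smooth π (i y)
    exact ci_of_koszul_immersion π i hi y
  obtain ⟨_, ⟨V, hV, rfl⟩, hxV, -⟩ :=
    Y.isBasis_affineOpens.exists_subset_of_mem_open (Set.mem_univ (f x)) isOpen_univ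
  obtain ⟨_, ⟨U₁, hU₁, rfl⟩, hxU₁, hle⟩ :=
    X.isBasis_affineOpens.exists_subset_of_mem_open (show x ∈ ((U ⊓ f ⁻¹ᵁ V : X.Opens) : Set X) from ⟨hxU, hxV⟩)
      (U ⊓ f ⁻¹ᵁ V).2
  have h1 : U₁ ≤ U := fun y hy => (hle hy).1
  have e : U₁ ≤ f ⁻¹ᵁ V := fun y hy => (hle hy).2
  refine ⟨⟨U₁, hU₁⟩, ⟨V, hV⟩, e, hxU₁, (isCIMorphism_resLE_iff f hV hU₁ e).1 (isCIMorphism_of_comp_isOpenImmersion _ (Scheme.Opens.ι V) ?_)⟩
  rw [Scheme.Hom.resLE_comp_ι, ← X.homOfLE_ι h1, Category.assoc]
  exact CAlgH.CIMorphism.isCIMorphism_comp _ _ (isCIMorphism_of_isOpenImmersion _) hCI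

end Groth.Agent.Synt15
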