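import Groth.Agent.Synt15.RelCI
import Groth.Agent.EGA43.FibDepth.FibreDim

/-! Relative global complete intersections in terms of transcendence degrees of fibres. -/

set_option autoImplicit false
set_option linter.unusedSectionVars false
set_option linter.style.haveILetI false

universe u

open MvPolynomial TensorProduct Groth.Agent.EGA43.FibDepth

namespace Groth.Agent.Synt15

attribute [local instance] Algebra.TensorProduct.rightAlgebra

section General

variable {A S : Type u} [CommRing A] [CommRing S] [Algebra A S] [Algebra.FiniteType A S]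

/-- The dimension of a fibre through transcendence degrees. -/
theorem fibre_dim_le_iff (p : Ideal A) [p.IsPrime] (d : ℕ) :
    ringKrullDim (p.Fiber S) ≤ (d : WithBot ℕ∞) ↔
      ∀ q : PrimeSpectrum S, q.asIdeal.comap (algebraMap A S) = p → trd A q ≤ d := by
  constructor
  · intro h q hq
    obtain ⟨Q, rfl⟩ := exists_prime_over (A := A) (p := p) (p.Fiber S) q hq.symm
    have h1 : ringKrullDim (p.Fiber S ⧸ Q.asIdeal) ≤ ringKrullDim (p.Fiber S) :=
      ringKrullDim_le_of_surjective _ Ideal.Quotient.mk_surjective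
    rw [ringKrullDim_quotient_eq_trd (R := S) p Q] at h1
    exact_mod_cast h1.trans h
  · intro h
    refine iSup_le fun l => ?_
    have h1 : ringKrullDim (p.Fiber S ⧸ l.head.asIdeal) ≤ (d : WithBot ℕ∞) := by
      rw [ringKrullDim_quotient_eq_trd (R := S) p l.head]
      exact_mod_cast h _ (comap_algebraMap_eq (R := S) p l.head).symm
    refine le_trans ?_ h1
    rw [ringKrullDim_quotient]
    exact le_iSup_of_le (LTSeries.mk l.length (fun i => ⟨l.toFun i, show (l.head.asIdeal : Set (p.Fiber S)) ⊆ _ from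
      (LTSeries.head_le l i)⟩) fun i j hij => l.strictMono hij) le_rfl

end General

theorem trdegHom_comp_equiv {K L E : Type u} [Field K] [Field L] [Field E] (e : K ≃+* L) (ψ : L →+* E) :
    DimLib.trdegHom (ψ.comp (e : K →+* L)) = DimLib.trdegHom ψ := by
  letI := (e : K →+* L).toAlgebra
  letI := ψ.toAlgebra
  letI := (ψ.comp (e : K →+* L)).toAlgebra
  haveI : IsScalarTower K L E := IsScalarTower.of_algebraMap_eq fun _ => rfl
  haveI : Algebra.IsAlgebraic K L := ⟨fun x => by
    obtain ⟨y, rfl⟩ := e.surjective x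
    exact isAlgebraic_algebraMap y⟩
  have h := trdeg_add_eq K L (A := E)
  rw [trdeg_eq_zero, zero_add] at h
  exact congrArg Cardinal.toNat h.symm

/-- `trd` only depends on the image of the base. -/
theorem trd_of_surjective {A A' S : Type u} [CommRing A] [CommRing A'] [CommRing S] [Algebra A A'] [Algebra A S]
    [Algebra A' S] [IsScalarTower A A' S] (hsur : Function.Surjective (algebraMap A A')) (q : PrimeSpectrum S) :
    trd A q = trd A' q := by
  have hp : (q.asIdeal.comap (algebraMap A' S)).comap (algebraMap A A') = q.asIdeal.comap (algebraMap A S) := by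
    rw [Ideal.comap_comap, ← IsScalarTower.algebraMap_eq]
  rw [trd_eq_trdegHom q (rfl : q.asIdeal.comap (algebraMap A' S) = _), trd_eq_trdegHom q hp]
  let e := RingEquiv.ofBijective _ ((RingHom.surjectiveOnStalks_of_surjective hsur).residueFieldMap_bijective
    ((q.asIdeal.comap (algebraMap A' S)).comap (algebraMap A A')) (q.asIdeal.comap (algebraMap A' S)) rfl)
  rw [← trdegHom_comp_equiv e (Ideal.ResidueField.map (q.asIdeal.comap (algebraMap A' S)) q.asIdeal (algebraMap A' S) rfl)]
  refine congrArg DimLib.trdegHom (Ideal.ResidueField.ringHom_ext (RingHom.ext fun a => ?_))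
  simp only [RingHom.comp_apply, e, RingEquiv.coe_toRingHom, RingEquiv.ofBijective_apply,
    Ideal.ResidueField.map_algebraMap]
  rw [← IsScalarTower.algebraMap_apply A A' S]

variable {R : Type u} [CommRing R] {n c : ℕ} {F : Fin c → MvPolynomial (Fin n) R}

theorem IsRelGCI.le_of_nontrivial (h : Synt.IsRelGCI R n c F) (q : PrimeSpectrum (Synt.RelGCIRing R n c F)) :
    c ≤ n ∧ trd R q ≤ n - c := by
  let p := q.asIdeal.comap (algebraMap R (Synt.RelGCIRing R n c F))
  obtain ⟨Q, hQ⟩ := exists_prime_over (A := R) (p := p) (p.Fiber (Synt.RelGCIRing R n c F)) q rfl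
  have : Nontrivial (p.Fiber (Synt.RelGCIRing R n c F)) := Q.nontrivial
  obtain ⟨h1, h2⟩ := h ⟨p, inferInstance⟩ this
  exact ⟨h1, (fibre_dim_le_iff p _).1 h2.le q rfl⟩

variable (F) in
theorem isRelGCI_iff : Synt.IsRelGCI R n c F ↔
    ∀ q : PrimeSpectrum (Synt.RelGCIRing R n c F), c ≤ n ∧ trd R q ≤ n - c := by
  refine ⟨fun h q => IsRelGCI.le_of_nontrivial h q, fun h p hne => ?_⟩
  let S := Synt.RelGCIRing R n c F
  obtain ⟨M, hM⟩ := Ideal.exists_maximal (p.asIdeal.Fiber S)
  refine ⟨(h (PrimeSpectrum.comap (algebraMap S (p.asIdeal.Fiber S)) ⟨M, hM.isPrime⟩)).1,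
    le_antisymm ((fibre_dim_le_iff p.asIdeal _).2 fun q _ => (h q).2) ?_⟩
  obtain ⟨e⟩ := exists_fibEquiv F p.asIdeal
  haveI := e.symm.toRingEquiv.toEquiv.nontrivial
  rw [ringKrullDim_eq_of_ringEquiv e.toRingEquiv]
  exact le_ringKrullDim_relGCI _

/-- A relative global complete intersection neighbourhood. -/
theorem isRelGCI_away (h : MvPolynomial (Fin n) R)
    (hq : ∀ q : PrimeSpectrum (Synt.RelGCIRing R n c F),
      Ideal.Quotient.mk (Ideal.span (Set.range F)) h ∉ q.asIdeal → c ≤ n ∧ trd R q ≤ n - c) :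
    Synt.IsRelGCI R (n + 1) (c + 1) (awayRel F h) := by
  refine (isRelGCI_iff _).2 fun q => ?_
  obtain ⟨e⟩ := exists_awayEquiv F h
  let g := Ideal.Quotient.mk (Ideal.span (Set.range F)) h
  let φ : Synt.RelGCIRing R n c F →ₐ[R] Synt.RelGCIRing R (n + 1) (c + 1) (awayRel F h) :=
    e.toAlgHom.comp (IsScalarTower.toAlgHom R (Synt.RelGCIRing R n c F) (Localization.Away g))
  have hφ : φ.toRingHom.SurjectiveOnStalks :=
    RingHom.SurjectiveOnStalks.comp (RingHom.surjectiveOnStalks_of_surjective (f := e.toAlgHom.toRingHom) e.surjective)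
      (RingHom.surjectiveOnStalks_of_isLocalization (M := Submonoid.powers g) _)
  have hg : g ∉ (PrimeSpectrum.comap φ.toRingHom q).asIdeal := fun h' => q.isPrime.ne_top
    (Ideal.eq_top_of_isUnit_mem _ h' ((IsLocalization.Away.algebraMap_isUnit g).map e.toAlgHom.toRingHom))
  obtain ⟨h1, h2⟩ := hq _ hg
  rw [← trd_comap_of_surjectiveOnStalks φ hφ q, Nat.add_sub_add_right]
  exact ⟨Nat.add_le_add_right h1 1, h2⟩

/-- The locus where the fibre dimension is at most `d`. -/
def goodLocus (S : Type u) [CommRing S] [Algebra R S] (d : ℕ) : Set (PrimeSpectrum S) :=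
  {q | ∀ q' : PrimeSpectrum S, q'.asIdeal ≤ q.asIdeal →
      q'.asIdeal.comap (algebraMap R S) = q.asIdeal.comap (algebraMap R S) → trd R q' ≤ d}

theorem exists_away_of_isRelGCI_fibre (p : Ideal R) [hp : p.IsPrime] (hcn : c ≤ n)
    (hd : ringKrullDim (p.Fiber (Synt.RelGCIRing R n c F)) ≤ ((n - c : ℕ) : WithBot ℕ∞)) :
    ∃ h : MvPolynomial (Fin n) R,
      IsUnit ((1 : p.ResidueField) ⊗ₜ[R] (Ideal.Quotient.mk (Ideal.span (Set.range F)) h) :
        p.Fiber (Synt.RelGCIRing R n c F)) ∧ Synt.IsRelGCI R (n + 1) (c + 1) (awayRel F h) := by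
  let S := Synt.RelGCIRing R n c F
  have hG : IsOpen (goodLocus (R := R) S (n - c)) := isOpen_trd_le (A := R) (n - c)
  obtain ⟨J, hJ⟩ := (PrimeSpectrum.isClosed_iff_zeroLocus_ideal _).1 hG.isClosed_compl
  let K := J ⊔ p.map (algebraMap R S)
  obtain ⟨x, hx, r, hr, hrx⟩ : ∃ x ∈ K, ∃ r ∉ p, algebraMap R S r = x := by
    by_contra hne
    push Not at hne
    have hdisj : Disjoint (K : Set S) (Submonoid.map (algebraMap R S).toMonoidHom p.primeCompl : Set S) := by
      rw [Set.disjoint_left]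
      rintro _ hx ⟨r, hr, rfl⟩
      exact hne _ hx r hr rfl
    obtain ⟨q, hqp, hKq, hqd⟩ := Ideal.exists_le_prime_disjoint K _ hdisj
    have hqp' : q.comap (algebraMap R S) = p := by
      refine le_antisymm (fun a ha => ?_) (fun a ha => hKq (Ideal.mem_sup_right (Ideal.mem_map_of_mem _ ha)))
      by_contra hap
      exact Set.disjoint_left.1 hqd ha ⟨a, hap, rfl⟩
    have hmem : (⟨q, hqp⟩ : PrimeSpectrum S) ∈ (goodLocus (R := R) S (n - c))ᶜ := by
      rw [hJ]
      exact le_sup_left.trans hKq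
    exact hmem fun q' _ hq' => (fibre_dim_le_iff p _).1 hd q' (hq'.trans hqp')
  obtain ⟨j, hj, y, hy, hjy⟩ := Submodule.mem_sup.1 hx
  obtain ⟨h, rfl⟩ := Ideal.Quotient.mk_surjective j
  refine ⟨h, ?_, isRelGCI_away h fun q hq => ⟨hcn, ?_⟩⟩
  · let ι : S →ₐ[R] p.Fiber S := Algebra.TensorProduct.includeRight
    have hy0 : ι y = 0 := by
      refine (Ideal.map_le_iff_le_comap.2 ?_ : p.map (algebraMap R S) ≤ RingHom.ker
        ι.toRingHom) hy
      intro a ha
      show ι (algebraMap R S a) = 0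
      exact (ι.commutes a).trans (algebraMap_eq_zero (C := p.Fiber S) ha)
    have hkey : ι (Ideal.Quotient.mk (Ideal.span (Set.range F)) h) = ι (algebraMap R S r) := by
      rw [hrx, ← hjy, map_add, hy0, add_zero]
    have hu : IsUnit (ι (algebraMap R S r)) := by
      have h1 := ι.commutes r
      rw [h1]
      exact isUnit_algebraMap (C := p.Fiber S) hr
    rw [← hkey] at hu
    exact hu
  · have : q ∈ goodLocus (R := R) S (n - c) := by
      by_contra hc
      have : q ∈ (goodLocus (R := R) S (n - c))ᶜ := hc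
      rw [hJ] at this
      exact hq (this hj)
    exact this q le_rfl rfl

theorem exists_away_of_isRelGCI_mod (I : Ideal R)
    (hI : Synt.IsRelGCI (R ⧸ I) n c (fun i => MvPolynomial.map (Ideal.Quotient.mk I) (F i))) :
    ∃ h : MvPolynomial (Fin n) R,
      Ideal.Quotient.mk (I.map (algebraMap R (Synt.RelGCIRing R n c F)))
        (Ideal.Quotient.mk (Ideal.span (Set.range F)) h) = 1 ∧
      Synt.IsRelGCI R (n + 1) (c + 1) (awayRel F h) := by
  let S := Synt.RelGCIRing R n c F
  let S' := Synt.RelGCIRing (R ⧸ I) n c (fun i => MvPolynomial.map (Ideal.Quotient.mk I) (F i))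
  let φ : S →ₐ[R] S' := Ideal.Quotient.liftₐ _
    ((Ideal.Quotient.mkₐ R _).comp (MvPolynomial.mapAlgHom (Ideal.Quotient.mkₐ R I))) fun a ha => by
      refine (Ideal.span_le.2 ?_ : Ideal.span (Set.range F) ≤ RingHom.ker
        ((Ideal.Quotient.mkₐ R (Ideal.span (Set.range fun i => MvPolynomial.map (Ideal.Quotient.mk I) (F i)))).comp
          (MvPolynomial.mapAlgHom (Ideal.Quotient.mkₐ R I))).toRingHom) ha
      rintro _ ⟨i, rfl⟩
      exact Ideal.Quotient.eq_zero_iff_mem.2 (Ideal.subset_span ⟨i, rfl⟩)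
  have hφ : Function.Surjective φ := fun y => by
    obtain ⟨y, rfl⟩ := Ideal.Quotient.mk_surjective y
    obtain ⟨x, rfl⟩ := MvPolynomial.map_surjective (σ := Fin n) (Ideal.Quotient.mk I) Ideal.Quotient.mk_surjective y
    exact ⟨Ideal.Quotient.mk _ x, rfl⟩
  have hker : RingHom.ker φ.toRingHom ≤ I.map (algebraMap R S) := by
    intro x hx
    obtain ⟨x, rfl⟩ := Ideal.Quotient.mk_surjective x
    have h1 : MvPolynomial.map (Ideal.Quotient.mk I) x ∈
        (Ideal.span (Set.range F)).map (MvPolynomial.map (Ideal.Quotient.mk I)) := by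
      rw [Ideal.map_span, ← Set.range_comp]
      exact Ideal.Quotient.eq_zero_iff_mem.1 hx
    rw [← Ideal.mem_comap, Ideal.comap_map_of_surjective _
      (MvPolynomial.map_surjective (σ := Fin n) (Ideal.Quotient.mk I) Ideal.Quotient.mk_surjective), ← RingHom.ker_eq_comap_bot,
      MvPolynomial.ker_map, Ideal.mk_ker] at h1
    obtain ⟨a, ha, b, hb, rfl⟩ := Submodule.mem_sup.1 h1
    rw [map_add, Ideal.Quotient.eq_zero_iff_mem.2 ha, zero_add]
    have h2 := Ideal.mem_map_of_mem (Ideal.Quotient.mk (Ideal.span (Set.range F))) hb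
    rw [Ideal.map_map] at h2
    exact h2
  have hgood : ∀ q : PrimeSpectrum S, I.map (algebraMap R S) ≤ q.asIdeal → c ≤ n ∧ trd R q ≤ n - c := by
    intro q hq
    haveI : (q.asIdeal.map φ.toRingHom).IsPrime :=
      Ideal.map_isPrime_of_surjective hφ (hker.trans hq)
    let q₀ : PrimeSpectrum S' := ⟨q.asIdeal.map φ.toRingHom, inferInstance⟩
    have hq₀ : PrimeSpectrum.comap φ.toRingHom q₀ = q := PrimeSpectrum.ext (by
      show (q.asIdeal.map φ.toRingHom).comap φ.toRingHom = q.asIdeal
      rw [Ideal.comap_map_of_surjective φ.toRingHom hφ, ← RingHom.ker_eq_comap_bot]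
      exact sup_eq_left.2 (hker.trans hq))
    obtain ⟨h1, h2⟩ := IsRelGCI.le_of_nontrivial hI q₀
    rw [← hq₀, trd_comap_of_surjectiveOnStalks φ (RingHom.surjectiveOnStalks_of_surjective hφ) q₀,
      trd_of_surjective (A' := R ⧸ I) Ideal.Quotient.mk_surjective]
    exact ⟨h1, h2⟩
  by_cases hne : I.map (algebraMap R S) = ⊤
  · refine ⟨0, ?_, isRelGCI_away 0 fun q hq => absurd (by simp) hq⟩
    haveI : Subsingleton (S ⧸ I.map (algebraMap R S)) := Ideal.Quotient.subsingleton_iff.2 hne
    exact Subsingleton.elim _ _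
  obtain ⟨m, hm, hIm⟩ := Ideal.exists_le_maximal _ hne
  have hcn : c ≤ n := (hgood ⟨m, hm.isPrime⟩ hIm).1
  have hG : IsOpen (goodLocus (R := R) S (n - c)) := isOpen_trd_le (A := R) (n - c)
  obtain ⟨J, hJ⟩ := (PrimeSpectrum.isClosed_iff_zeroLocus_ideal _).1 hG.isClosed_compl
  have htop : J ⊔ I.map (algebraMap R S) = ⊤ := by
    by_contra h
    obtain ⟨m, hm, hle⟩ := Ideal.exists_le_maximal _ h
    have hmem : (⟨m, hm.isPrime⟩ : PrimeSpectrum S) ∈ (goodLocus (R := R) S (n - c))ᶜ := by
      rw [hJ]; exact le_sup_left.trans hle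
    refine hmem fun q' _ hq' => (hgood q' ?_).2
    refine Ideal.map_le_iff_le_comap.2 ?_
    rw [hq']
    exact Ideal.map_le_iff_le_comap.1 (le_sup_right.trans hle)
  obtain ⟨j, hj, y, hy, hjy⟩ := Submodule.mem_sup.1 (htop.ge (Submodule.mem_top (x := 1)))
  obtain ⟨h, rfl⟩ := Ideal.Quotient.mk_surjective j
  refine ⟨h, ?_, isRelGCI_away h fun q hq => ⟨hcn, ?_⟩⟩
  · rw [← map_one (Ideal.Quotient.mk (I.map (algebraMap R S))), Ideal.Quotient.eq, ← hjy]
    simpa using hy
  · have : q ∈ goodLocus (R := R) S (n - c) := by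
      by_contra hc
      have : q ∈ (goodLocus (R := R) S (n - c))ᶜ := hc
      rw [hJ] at this
      exact hq (this hj)
    exact this q le_rfl rfl

end Groth.Agent.Synt15
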