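import Groth.Agent.Synt15.SyntAt
import Groth.Agent.Synt15.RelDim
import Groth.Agent.EGA43.Chevalley.SetDim

/-! Fibre dimension of relative global complete intersections. -/

set_option autoImplicit false
set_option linter.style.haveILetI false

universe u

open CategoryTheory AlgebraicGeometry TensorProduct Groth.Agent.EGA43.FibDepth

namespace Groth.Agent.Synt15

attribute [local instance] Algebra.TensorProduct.rightAlgebra

variable {R S : Type u} [CommRing R] [CommRing S] [Algebra R S] {n c : ℕ} {F : Fin c → MvPolynomial (Fin n) R}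

theorem trd_le_of_relGCI (hF : Synt.IsRelGCI R n c F) (e : S ≃ₐ[R] Synt.RelGCIRing R n c F) (q : PrimeSpectrum S) :
    trd R q ≤ n - c := by
  haveI : Algebra.FiniteType R S := Algebra.FiniteType.equiv inferInstance e.symm
  let p : PrimeSpectrum R := PrimeSpectrum.comap (algebraMap R S) q
  obtain ⟨eF⟩ := exists_fibEquiv F p.asIdeal
  let E : p.asIdeal.Fiber S ≃ₐ[p.asIdeal.ResidueField]
      Synt.RelGCIRing p.asIdeal.ResidueField n c (fibRel F p.asIdeal) :=
    (Algebra.TensorProduct.congr AlgEquiv.refl e :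
      p.asIdeal.Fiber S ≃ₐ[p.asIdeal.ResidueField] p.asIdeal.Fiber (Synt.RelGCIRing R n c F)).trans eF
  refine (fibre_dim_le_iff p.asIdeal (n - c)).1 ?_ q rfl
  rw [ringKrullDim_eq_of_ringEquiv E.toRingEquiv]
  rcases subsingleton_or_nontrivial (Synt.RelGCIRing p.asIdeal.ResidueField n c (fibRel F p.asIdeal)) with hs | hn
  · rw [ringKrullDim_eq_bot_of_subsingleton]; exact bot_le
  · exact (IsRelGCI.fibre hF p.asIdeal hn).2.le

theorem exists_trd_eq_of_relGCI (hF : Synt.IsRelGCI R n c F) (e : S ≃ₐ[R] Synt.RelGCIRing R n c F)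
    (q : PrimeSpectrum S) : ∃ q' : PrimeSpectrum S, q'.asIdeal ≤ q.asIdeal ∧
      q'.asIdeal.comap (algebraMap R S) = q.asIdeal.comap (algebraMap R S) ∧ trd R q' = n - c := by
  haveI : Algebra.FiniteType R S := Algebra.FiniteType.equiv inferInstance e.symm
  let p := q.asIdeal.comap (algebraMap R S)
  let k := p.ResidueField
  obtain ⟨eF⟩ := exists_fibEquiv F p
  let E : p.Fiber S ≃ₐ[k] Synt.RelGCIRing k n c (fibRel F p) :=
    (Algebra.TensorProduct.congr AlgEquiv.refl e : p.Fiber S ≃ₐ[k] p.Fiber (Synt.RelGCIRing R n c F)).trans eF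
  obtain ⟨Q, hQ⟩ := exists_prime_over (A := R) (p := p) (p.Fiber S) q rfl
  obtain ⟨Q₀, hmin, hle⟩ := Ideal.exists_minimalPrimes_le (I := (⊥ : Ideal (p.Fiber S))) (J := Q.asIdeal) bot_le
  haveI := hmin.1.1
  let φ : MvPolynomial (Fin n) k →+* p.Fiber S := E.symm.toRingEquiv.toRingHom.comp (Ideal.Quotient.mk _)
  have hφ : Function.Surjective φ := E.symm.surjective.comp Ideal.Quotient.mk_surjective
  have hker : RingHom.ker φ = Ideal.span (Set.range (fibRel F p)) := by
    rw [RingHom.ker_comp_of_injective _ E.symm.injective, Ideal.mk_ker]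
  have hP : Q₀.comap φ ∈ (Ideal.span (Set.range (fibRel F p))).minimalPrimes := by
    rw [← hker, RingHom.ker_eq_comap_bot, Ideal.comap_minimalPrimes_eq_of_surjective hφ]
    exact ⟨Q₀, hmin, rfl⟩
  haveI : (Q₀.comap φ).IsPrime := hP.1.1
  obtain ⟨h, d, hh, hd, hhd⟩ := exists_height_dim (Q₀.comap φ)
  have hc : h ≤ c := by
    have := height_le_length (fibRel F p) hP
    rw [hh] at this
    exact_mod_cast this
  let q' : PrimeSpectrum S := PrimeSpectrum.comap (algebraMap S (p.Fiber S)) ⟨Q₀, hmin.1.1⟩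
  refine ⟨q', ?_, (comap_algebraMap_eq (R := S) p (⟨Q₀, hmin.1.1⟩ : PrimeSpectrum (p.Fiber S))).symm, ?_⟩
  · exact (Ideal.comap_mono hle).trans (congrArg PrimeSpectrum.asIdeal hQ).le
  refine le_antisymm (trd_le_of_relGCI hF e q') ?_
  have hsur : Function.Surjective ((Ideal.Quotient.mk Q₀).comp φ) := Ideal.Quotient.mk_surjective.comp hφ
  have hk : RingHom.ker ((Ideal.Quotient.mk Q₀).comp φ) = Q₀.comap φ := by
    rw [← RingHom.comap_ker, Ideal.mk_ker]
  have h1 : ringKrullDim (p.Fiber S ⧸ Q₀) = (d : WithBot ℕ∞) := by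
    rw [← hd]
    exact (ringKrullDim_eq_of_ringEquiv ((Ideal.quotEquivOfEq hk.symm).trans
      (RingHom.quotientKerEquivOfSurjective hsur))).symm
  have h2 := ringKrullDim_quotient_eq_trd (R := S) p (⟨Q₀, hmin.1.1⟩ : PrimeSpectrum (p.Fiber S))
  rw [h1] at h2
  have h3 : d = trd R q' := by exact_mod_cast h2
  omega

theorem fibreDimAt_eq_of_relGCI {X Y : Scheme.{u}} (f : X ⟶ Y) [LocallyOfFiniteType f] {V : Y.Opens}
    (hV : IsAffineOpen V) {U : X.Opens} (hU : IsAffineOpen U) (e : U ≤ f ⁻¹ᵁ V) {R : Type u} [CommRing R]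
    (φ : R ≃+* Γ(Y, V)) {n c : ℕ} {F : Fin c → MvPolynomial (Fin n) R} (hF : Synt.IsRelGCI R n c F)
    (ε : Γ(X, U) ≃+* Synt.RelGCIRing R n c F)
    (hε : ∀ r, ε (f.appLE V U e (φ r)) = algebraMap R (Synt.RelGCIRing R n c F) r) (x : X) (hx : x ∈ U) :
    FlatMor.fibreDimAt f x = ((n - c : ℕ) : WithBot ℕ∞) := by
  letI := (f.appLE V U e).hom.toAlgebra
  letI : Algebra R Γ(Y, V) := φ.toRingHom.toAlgebra
  letI : Algebra R Γ(X, U) := ((f.appLE V U e).hom.comp φ.toRingHom).toAlgebra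
  haveI : IsScalarTower R Γ(Y, V) Γ(X, U) := IsScalarTower.of_algebraMap_eq fun _ => rfl
  let E : Γ(X, U) ≃ₐ[R] Synt.RelGCIRing R n c F := AlgEquiv.ofRingEquiv (f := ε) hε
  have htrd : ∀ (y : X) (hy : y ∈ U), DimLib.trdegHom (f.residueFieldMap y).hom =
      trd R (hU.primeIdealOf ⟨y, hy⟩) := fun y hy => by
    rw [trdegHom_residueFieldMap f hV hU e hy,
      trd_of_surjective (A := R) (A' := Γ(Y, V)) φ.surjective (hU.primeIdealOf ⟨y, hy⟩)]
  obtain ⟨q', hle, hcomap, hq'⟩ := exists_trd_eq_of_relGCI hF E (hU.primeIdealOf ⟨x, hx⟩)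
  let y := hU.fromSpec q'
  have hy : y ∈ U := hU.range_fromSpec.le ⟨_, rfl⟩
  have hqy : hU.primeIdealOf ⟨y, hy⟩ = q' :=
    hU.fromSpec.isOpenEmbedding.injective (hU.fromSpec_primeIdealOf ⟨y, hy⟩)
  have hs : y ⤳ x := by
    have h' := ((PrimeSpectrum.le_iff_specializes _ _).1
      (show q' ≤ hU.primeIdealOf ⟨x, hx⟩ from hle)).map hU.fromSpec.continuous
    rwa [hU.fromSpec_primeIdealOf] at h'
  have hfy : f y = f x := by
    have hp : ∀ z (hz : z ∈ U), (hU.primeIdealOf ⟨z, hz⟩).asIdeal.comap (f.appLE V U e).hom =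
        (hV.primeIdealOf ⟨f z, e hz⟩).asIdeal :=
      fun z hz => comap_primeIdealOf f hV hU e hz
    have h' : hV.primeIdealOf ⟨f y, e hy⟩ = hV.primeIdealOf ⟨f x, e hx⟩ := PrimeSpectrum.ext (by
      rw [← hp y hy, ← hp x hx, hqy]
      refine Ideal.ext fun v => ?_
      obtain ⟨r, rfl⟩ := φ.surjective v
      exact SetLike.ext_iff.1 hcomap r)
    have := congrArg hV.fromSpec h'
    rwa [hV.fromSpec_primeIdealOf, hV.fromSpec_primeIdealOf] at this
  have hub : FlatMor.fibreDimAt f x ≤ ((n - c : ℕ) : WithBot ℕ∞) :=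
    (FlatMorDim.fibreDimAt_le_iff f x _).2 fun w _ hw => by
      rw [htrd w (hw.mem_open U.isOpen hx)]
      exact trd_le_of_relGCI hF E _
  refine le_antisymm hub ?_
  by_contra hlt
  rw [not_le] at hlt
  rcases Nat.eq_zero_or_pos (n - c) with h0 | hpos
  · have h1 := (EGA43.Chevalley.le_fibreDimAt f x).trans_lt hlt
    rw [h0] at h1
    exact absurd (by exact_mod_cast h1 : DimLib.trdegHom (f.residueFieldMap x).hom < 0) (Nat.not_lt_zero _)
  · have hm : FlatMor.fibreDimAt f x ≤ (((n - c) - 1 : ℕ) : WithBot ℕ∞) := by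
      induction hd : FlatMor.fibreDimAt f x using WithBot.recBotCoe with
      | bot => exact bot_le
      | coe a =>
        rw [hd] at hlt
        induction a using ENat.recTopCoe with
        | top => exact absurd hlt (not_lt.2 (WithBot.coe_le_coe.2 le_top))
        | coe a =>
          change (a : WithBot ℕ∞) < _ at hlt
          have : a < n - c := by exact_mod_cast hlt
          exact WithBot.coe_le_coe.2 (Nat.cast_le.2 (show a ≤ n - c - 1 by omega))
    have h2 := (FlatMorDim.fibreDimAt_le_iff f x _).1 hm y hfy hs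
    rw [htrd y hy, hqy, hq'] at h2
    omega

set_option backward.isDefEq.respectTransparency false in
theorem ΓSpec_appLE {R A : CommRingCat.{u}} (φ : R ⟶ A) (h : (⊤ : (Spec A).Opens) ≤ (Spec.map φ) ⁻¹ᵁ ⊤) :
    ((Scheme.ΓSpecIso R).inv ≫ (Spec.map φ).appLE ⊤ ⊤ h) ≫ (Scheme.ΓSpecIso A).hom = φ := by
  rw [Scheme.Hom.appLE]
  simp

end Groth.Agent.Synt15
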