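import Groth.Agent.Synt15.SyntAt
import Groth.Agent.Synt15.FibreDim
import Groth.Agent.CAlgH.KoszulRegular
import Groth.Agent.CAlgH.KindBasic

/-! Syntomic morphisms are Koszul at every point. -/

set_option autoImplicit false
set_option linter.style.haveILetI false
set_option backward.isDefEq.respectTransparency false

universe u

open CategoryTheory CategoryTheory.Limits AlgebraicGeometry

namespace Groth.Agent.Synt15

variable {X Y : Scheme.{u}}

/-- A closed immersion of affine schemes given by a Koszul regular sequence. -/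
theorem isRegularImmersion_SpecMap {P A : CommRingCat.{u}} (φ : P ⟶ A) (hφ : Function.Surjective φ.hom) {c : ℕ}
    (F : Fin c → P) (hF : CAlgH.KoszulRegular.KReg F) (hker : RingHom.ker φ.hom = Ideal.span (Set.range F)) :
    RegImm.IsRegularImmersion .koszul (Spec.map φ) := by
  haveI : IsClosedImmersion (Spec.map φ) := IsClosedImmersion.spec_of_surjective _ hφ
  refine ⟨inferInstance, fun z => ⟨⟨⊤, isAffineOpen_top _⟩, trivial, inferInstance,
    List.ofFn fun i => (Scheme.ΓSpecIso P).inv (F i), ?_, ?_⟩⟩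
  · let ψ := (Scheme.ΓSpecIso P).symm.commRingCatIsoToRingEquiv
    exact (CAlgH.KindBasic.seq_ofFn_iff (k := .koszul) (by decide) _).2
      (CAlgH.KindBasic.SeqF.map (φ := ψ.toRingHom) (RingHom.Flat.of_bijective ψ.bijective) hF)
  · have h : (Spec.map φ).app ⊤ = (Scheme.ΓSpecIso P).hom ≫ φ ≫ (Scheme.ΓSpecIso A).inv := by
      rw [Scheme.ΓSpecIso_inv_naturality, Iso.hom_inv_id_assoc]
    refine (congrArg (fun m => RingHom.ker m.hom) h).trans ?_
    rw [← Category.assoc, CommRingCat.hom_comp, RingHom.ker_comp_of_injective _ (ConcreteCategory.bijective_of_isIso _).1,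
      CommRingCat.hom_comp, ← RingHom.comap_ker, hker]
    show Ideal.comap (Scheme.ΓSpecIso P).commRingCatIsoToRingEquiv (Ideal.span (Set.range F)) = _
    rw [ofList_ofFn, ← Ideal.map_symm, Ideal.map_span, ← Set.range_comp]
    rfl

theorem isRegularImmersion_iso_comp {Z Z' W : Scheme.{u}} (e : Z' ⟶ Z) [IsIso e] (i : Z ⟶ W) {k : RegImm.Kind}
    (hi : RegImm.IsRegularImmersion k i) : RegImm.IsRegularImmersion k (e ≫ i) := by
  haveI := hi.1
  refine ⟨inferInstance, fun z => ?_⟩
  obtain ⟨U, hz, hc, rs, hrs, hker⟩ := hi.2 (e z)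
  refine ⟨U, hz, ?_, rs, hrs, ?_⟩
  · rw [morphismRestrict_comp]
    infer_instance
  · rw [Scheme.Hom.comp_app, CommRingCat.hom_comp,
      RingHom.ker_comp_of_injective _ (ConcreteCategory.bijective_of_isIso _).1]
    exact hker

theorem isKoszulAt_of_isSyntomicMor (f : X ⟶ Y) (hf : Synt.IsSyntomicMor f) (x : X) : Synt.IsKoszulAt f x := by
  haveI := ((isSyntomicMor_iff f).1 hf).2.1
  obtain ⟨_, ⟨V, hV, rfl⟩, hxV, -⟩ :=
    Y.isBasis_affineOpens.exists_subset_of_mem_open (Set.mem_univ (f x)) isOpen_univ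
  obtain ⟨U, hU, e, hxU, hs⟩ := exists_syntomic_nhd (hf x) hV hxV
  obtain ⟨g, hxg, n, c, F, hF, ε, hε⟩ := exists_relGCI_basicOpen f hU e hs hxU
  let D : X.Opens := X.basicOpen g
  have hD : IsAffineOpen D := hU.basicOpen g
  have eD : D ≤ f ⁻¹ᵁ (V : Y.Opens) := (X.basicOpen_le g).trans e
  let R : CommRingCat.{u} := Γ(Y, V)
  let P : CommRingCat.{u} := CommRingCat.of (MvPolynomial (Fin n) Γ(Y, V))
  let q : MvPolynomial (Fin n) Γ(Y, V) →+* Γ(X, D) := ε.symm.toRingHom.comp (Ideal.Quotient.mk _)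
  let i : (D : Scheme.{u}) ⟶ Spec P := hD.isoSpec.hom ≫ Spec.map (CommRingCat.ofHom q)
  let π : Spec P ⟶ Y := Spec.map (CommRingCat.ofHom (algebraMap Γ(Y, V) (MvPolynomial (Fin n) Γ(Y, V)))) ≫ hV.fromSpec
  have hq : Function.Surjective q := ε.symm.surjective.comp Ideal.Quotient.mk_surjective
  have hi : RegImm.IsRegularImmersion .koszul (Spec.map (CommRingCat.ofHom q)) :=
    isRegularImmersion_SpecMap _ hq F (kreg hF) (by
      show RingHom.ker q = _
      rw [RingHom.ker_comp_of_injective _ ε.symm.injective, Ideal.mk_ker])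
  haveI : IsClosedImmersion (Spec.map (CommRingCat.ofHom q)) := IsClosedImmersion.spec_of_surjective _ hq
  haveI : Smooth (Spec.map (CommRingCat.ofHom (algebraMap Γ(Y, V) (MvPolynomial (Fin n) Γ(Y, V))))) :=
    (HasRingHomProperty.Spec_iff (P := @Smooth)).2
      ((RingHom.smooth_algebraMap (R := Γ(Y, V)) (S := MvPolynomial (Fin n) Γ(Y, V))).2 ⟨inferInstance, inferInstance⟩)
  refine ⟨D, Spec P, i, π, hxg, inferInstance, ?_, inferInstance, ?_⟩
  · exact isRegularImmersion_iso_comp hD.isoSpec.hom _ hi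
  · have h1 : CommRingCat.ofHom (algebraMap Γ(Y, V) (MvPolynomial (Fin n) Γ(Y, V))) ≫ CommRingCat.ofHom q =
        f.appLE V D eD := by
      ext r
      show ε.symm (Ideal.Quotient.mk _ (algebraMap _ _ r)) = _
      apply ε.injective
      rw [ε.apply_symm_apply]
      exact (RingHom.congr_fun hε r).symm
    show (hD.isoSpec.hom ≫ Spec.map _) ≫ Spec.map _ ≫ hV.fromSpec = D.ι ≫ f
    rw [Category.assoc, ← Spec.map_comp_assoc, h1, IsAffineOpen.SpecMap_appLE_fromSpec f hV hD, IsAffineOpen.isoSpec_hom,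
      IsAffineOpen.toSpecΓ_fromSpec_assoc]

end Groth.Agent.Synt15
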