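import Groth.Agent.Synt15.Local
import Mathlib.RingTheory.RingHom.Flat
import Mathlib.RingTheory.Finiteness.FinitePresentationLocal

/-! Syntomic algebras near a point. -/

set_option autoImplicit false
set_option linter.unusedSectionVars false
set_option linter.style.haveILetI false

universe u

open MvPolynomial TensorProduct Groth.Agent.EGA43.FibDepth

namespace Groth.Agent.Synt15

attribute [local instance] Algebra.TensorProduct.rightAlgebra

/-- The local ring at a prime lying in a principal open set. -/
theorem exists_atPrimeEquiv' {k S : Type u} [CommRing k] [CommRing S] [Algebra k S] {g : S} (q : Ideal S) [hq : q.IsPrime]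
    (hg : g ∉ q) : ∃ (Q : Ideal (Localization.Away g)) (_ : Q.IsPrime),
      Q.comap (algebraMap S (Localization.Away g)) = q ∧
        Nonempty (Localization.AtPrime Q ≃ₐ[k] Localization.AtPrime q) := by
  have hd : Disjoint (Submonoid.powers g : Set S) q := by
    rw [Set.disjoint_left]
    rintro _ ⟨m, rfl⟩ hm
    exact hg (hq.mem_of_pow_mem m hm)
  let Q := q.map (algebraMap S (Localization.Away g))
  have hQ : Q.IsPrime := IsLocalization.isPrime_of_isPrime_disjoint _ _ q hq hd
  have hc : Q.comap (algebraMap S (Localization.Away g)) = q :=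
    IsLocalization.under_map_of_isPrime_disjoint _ _ hq hd
  refine ⟨Q, hQ, hc, ?_⟩
  haveI := IsLocalization.isLocalization_isLocalization_atPrime_isLocalization (Submonoid.powers g)
    (Localization.AtPrime Q) Q
  haveI : IsLocalization.AtPrime (Localization.AtPrime Q) q := by
    unfold IsLocalization.AtPrime; simp only [← hc]; assumption
  exact ⟨(IsLocalization.algEquiv q.primeCompl (Localization.AtPrime Q) (Localization.AtPrime q)).restrictScalars k⟩

variable {R S : Type u} [CommRing R] [CommRing S] [Algebra R S]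

theorem isSyntomic_congr {T : Type u} [CommRing T] [Algebra R T] (e : S ≃ₐ[R] T) (h : Synt.IsSyntomic R S) :
    Synt.IsSyntomic R T :=
  haveI := h.1
  ⟨Module.Flat.of_linearEquiv e.toLinearEquiv.symm, (haveI := h.2.1; Algebra.FinitePresentation.equiv e),
    fun p => isLCIOver_congr (Algebra.TensorProduct.congr AlgEquiv.refl e) (h.2.2 p)⟩

/-- Fibre local rings do not change on localising. -/
theorem exists_fibre_atPrimeEquiv {B : Type u} [CommRing B] [Algebra R B] [Algebra S B] [IsScalarTower R S B]
    (g : S) [IsLocalization.Away g B] (p : Ideal R) [p.IsPrime]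
    (Q : Ideal (p.Fiber S)) [Q.IsPrime] (Q' : Ideal (p.Fiber B)) [Q'.IsPrime]
    (hQ : (Q'.comap Algebra.TensorProduct.includeRight.toRingHom).comap (algebraMap S B) =
      Q.comap Algebra.TensorProduct.includeRight.toRingHom) :
    Nonempty (Localization.AtPrime Q' ≃ₐ[p.ResidueField] Localization.AtPrime Q) := by
  let κ := p.ResidueField
  let ι : S →ₐ[R] κ ⊗[R] S := Algebra.TensorProduct.includeRight
  let g' : κ ⊗[R] S := ι g
  haveI : IsLocalization ((Submonoid.powers g).map (Algebra.TensorProduct.includeRight (R := R) (A := κ) (B := S)))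
      (Localization.Away g') := by
    rw [Submonoid.map_powers]
    exact (inferInstance : IsLocalization (Submonoid.powers g') (Localization.Away g'))
  let e := IsLocalization.tensorProductEquivOfMapIncludeRight R κ (Submonoid.powers g) B (Localization.Away g')
  have hg : g' ∉ Q := fun h => by
    have h1 : g ∈ Q.comap Algebra.TensorProduct.includeRight.toRingHom := h
    rw [← hQ] at h1
    have h2 : algebraMap S B g ∈ Q'.comap Algebra.TensorProduct.includeRight.toRingHom := h1
    exact (Ideal.IsPrime.comap Algebra.TensorProduct.includeRight.toRingHom (hK := ‹Q'.IsPrime›)).ne_top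
      (Ideal.eq_top_of_isUnit_mem _ h2 (IsLocalization.Away.algebraMap_isUnit g))
  obtain ⟨Qg, _, hQg, ⟨e₁⟩⟩ := exists_atPrimeEquiv (k := κ) Q hg
  haveI : (Qg.comap e.toRingEquiv.toRingHom).IsPrime := inferInstance
  have hkey : Qg.comap e.toRingEquiv.toRingHom = Q' := by
    have h0 : PrimeSpectrum.comap (algebraMap B (p.Fiber B)) (⟨Qg.comap e.toRingEquiv.toRingHom, inferInstance⟩ : PrimeSpectrum (p.Fiber B)) =
        PrimeSpectrum.comap (algebraMap B (p.Fiber B)) (⟨Q', inferInstance⟩ : PrimeSpectrum (p.Fiber B)) := by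
      apply PrimeSpectrum.localization_comap_injective B (Submonoid.powers g)
      refine PrimeSpectrum.ext (Ideal.ext fun a => ?_)
      show e ((1 : κ) ⊗ₜ[R] algebraMap S B a) ∈ Qg ↔ a ∈ (Q'.comap Algebra.TensorProduct.includeRight.toRingHom).comap (algebraMap S B)
      rw [hQ, IsLocalization.tensorProductEquivOfMapIncludeRight_tmul, ← Ideal.mem_comap, hQg]
      rfl
    have h1 := le_of_comap_le (R := B) p (congrArg PrimeSpectrum.asIdeal h0).le
    have h2 := le_of_comap_le (R := B) p (congrArg PrimeSpectrum.asIdeal h0).ge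
    exact le_antisymm h1 h2
  let e₂ : Localization.AtPrime Q' ≃ₐ[κ] Localization.AtPrime Qg :=
    IsLocalization.algEquivOfAlgEquiv (M := Q'.primeCompl) (T := Qg.primeCompl) (Localization.AtPrime Q')
      (Localization.AtPrime Qg) e (by
        subst hkey
        ext x
        refine ⟨fun ⟨y, hy, hyx⟩ => hyx ▸ hy, fun hx => ⟨e.symm x, fun h => hx ?_, e.apply_symm_apply x⟩⟩
        have h' : e (e.symm x) ∈ Qg := h
        rwa [e.apply_symm_apply] at h')
  exact ⟨e₂.trans e₁⟩

variable (R) in
/-- Around a point with flat local ring and complete intersection fibre, a presented algebra is a relative global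
complete intersection. -/
theorem exists_relGCI_nhd [Algebra.FinitePresentation R S] (q : Ideal S) [hq : q.IsPrime] (p : Ideal R) [p.IsPrime]
    (hqp : q.comap (algebraMap R S) = p) (hflat : Module.Flat R (Localization.AtPrime q))
    (Q : Ideal (p.Fiber S)) [Q.IsPrime] (hQ : Q.comap Algebra.TensorProduct.includeRight.toRingHom = q)
    (hCI : Synt.IsCIOver p.ResidueField (Localization.AtPrime Q)) :
    ∃ g ∉ q, ∃ (n c : ℕ) (F : Fin c → MvPolynomial (Fin n) R), Synt.IsRelGCI R n c F ∧
      Nonempty (Localization.Away g ≃ₐ[R] Synt.RelGCIRing R n c F) := by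
  obtain ⟨n, π, hπ, hker⟩ := Algebra.FinitePresentation.out (R := R) (A := S)
  obtain ⟨m, G, hG⟩ := Submodule.fg_iff_exists_fin_generating_family.1 hker
  exact exists_relGCI_nhd_presented G π hπ hG.symm ⟨q, hq⟩ p hqp hflat Q hQ hCI

/-- The fibre point over a point. -/
theorem exists_fibre_point (q : Ideal S) [hq : q.IsPrime] (p : Ideal R) [p.IsPrime]
    (hqp : q.comap (algebraMap R S) = p) :
    ∃ (Q : Ideal (p.Fiber S)) (_ : Q.IsPrime), Q.comap Algebra.TensorProduct.includeRight.toRingHom = q := by
  obtain ⟨Q, hQ⟩ := exists_prime_over (A := R) (p := p) (p.Fiber S) ⟨q, hq⟩ hqp.symm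
  exact ⟨Q.asIdeal, Q.2, congrArg PrimeSpectrum.asIdeal hQ⟩

theorem isCIOver_fibre_of_isSyntomic_away {g : S} (h : Synt.IsSyntomic R (Localization.Away g))
    (q : Ideal S) [hq : q.IsPrime] (hg : g ∉ q) (p : Ideal R) [p.IsPrime]
    (Q : Ideal (p.Fiber S)) [Q.IsPrime] (hQ : Q.comap Algebra.TensorProduct.includeRight.toRingHom = q)
    (hqp : q.comap (algebraMap R S) = p) :
    Synt.IsCIOver p.ResidueField (Localization.AtPrime Q) := by
  obtain ⟨qg, _, hqg, -⟩ := exists_atPrimeEquiv' (k := R) q hg
  obtain ⟨Q', _, hQ'⟩ := exists_fibre_point (R := R) qg p (by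
    rw [IsScalarTower.algebraMap_eq R S (Localization.Away g), ← Ideal.comap_comap, hqg, hqp])
  obtain ⟨e⟩ := exists_fibre_atPrimeEquiv g p Q Q' (by rw [hQ', hqg, hQ])
  exact isCIOver_congr e (isCIOver_of_isLCIOver (h.2.2 ⟨p, inferInstance⟩) Q')

theorem flat_atPrime_away {g : S} (q : Ideal S) [q.IsPrime] (hg : g ∉ q)
    (h : Module.Flat R (Localization.AtPrime q)) (Q : Ideal (Localization.Away g)) [Q.IsPrime]
    (hQ : Q.comap (algebraMap S (Localization.Away g)) = q) : Module.Flat R (Localization.AtPrime Q) := by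
  subst hQ
  haveI := IsLocalization.isLocalization_isLocalization_atPrime_isLocalization (Submonoid.powers g)
    (Localization.AtPrime Q) Q
  exact Module.Flat.of_linearEquiv ((IsLocalization.algEquiv (Q.comap (algebraMap S (Localization.Away g))).primeCompl
    (Localization.AtPrime Q) (Localization.AtPrime (Q.comap (algebraMap S (Localization.Away g))))).restrictScalars R).toLinearEquiv

theorem flat_atPrime_of_away {g : S} (q : Ideal S) [q.IsPrime] (hg : g ∉ q)
    (h : Module.Flat R (Localization.Away g)) : Module.Flat R (Localization.AtPrime q) := by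
  obtain ⟨qg, _, -, ⟨e⟩⟩ := exists_atPrimeEquiv' (k := R) q hg
  haveI : Module.Flat (Localization.Away g) (Localization.AtPrime qg) := IsLocalization.flat _ qg.primeCompl
  haveI := Module.Flat.trans R (Localization.Away g) (Localization.AtPrime qg)
  exact Module.Flat.of_linearEquiv e.symm.toLinearEquiv

/-- The equivalent conditions at a point. -/
theorem exists_relGCI_of_local (q : Ideal S) [q.IsPrime] (p : Ideal R) [p.IsPrime]
    (hqp : q.comap (algebraMap R S) = p) {g : S} (hg : g ∉ q) (hfp : Algebra.FinitePresentation R (Localization.Away g))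
    (hflat : Module.Flat R (Localization.AtPrime q)) (Q : Ideal (p.Fiber S)) [Q.IsPrime]
    (hQ : Q.comap Algebra.TensorProduct.includeRight.toRingHom = q)
    (hCI : Synt.IsCIOver p.ResidueField (Localization.AtPrime Q)) :
    ∃ g' ∉ q, ∃ (n c : ℕ) (F : Fin c → MvPolynomial (Fin n) R), Synt.IsRelGCI R n c F ∧
      Nonempty (Localization.Away g' ≃ₐ[R] Synt.RelGCIRing R n c F) := by
  let B := Localization.Away g
  obtain ⟨qg, _, hqg, -⟩ := exists_atPrimeEquiv' (k := R) q hg
  have hqgp : qg.comap (algebraMap R B) = p := by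
    rw [IsScalarTower.algebraMap_eq R S B, ← Ideal.comap_comap, hqg, hqp]
  obtain ⟨Q', _, hQ'⟩ := exists_fibre_point (R := R) qg p hqgp
  obtain ⟨e⟩ := exists_fibre_atPrimeEquiv g p Q Q' (by rw [hQ', hqg, hQ])
  obtain ⟨g₁, hg₁, n, c, F, hF, ⟨eF⟩⟩ := exists_relGCI_nhd R qg p hqgp (flat_atPrime_away q hg hflat qg hqg) Q' hQ'
    (isCIOver_congr e.symm hCI)
  obtain ⟨b, ⟨_, m, rfl⟩, rfl⟩ := IsLocalization.exists_mk'_eq (Submonoid.powers g) g₁
  let g₁' := IsLocalization.mk' B b (⟨g ^ m, m, rfl⟩ : Submonoid.powers g)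
  have hass : Associated g₁' (algebraMap S B b) :=
    ⟨(IsLocalization.map_units B (⟨g ^ m, m, rfl⟩ : Submonoid.powers g)).unit,
      IsLocalization.mk'_spec B b (⟨g ^ m, m, rfl⟩ : Submonoid.powers g)⟩
  have hb : b ∉ q := fun hb => hg₁ (by
    refine (Ideal.mul_unit_mem_iff_mem qg (IsLocalization.map_units B (⟨g ^ m, m, rfl⟩ : Submonoid.powers g))).1 ?_
    rw [IsLocalization.mk'_spec]
    rw [← hqg] at hb
    exact hb)
  haveI : IsLocalization.Away (algebraMap S B b) (Localization.Away g₁') :=
    IsLocalization.Away.of_associated hass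
  haveI : IsLocalization.Away (g * b) (Localization.Away g₁') := IsLocalization.Away.mul' B _ g b
  exact ⟨g * b, q.primeCompl.mul_mem hg hb, n, c, F, hF,
    ⟨((IsLocalization.algEquiv (Submonoid.powers (g * b)) (Localization.Away (g * b))
      (Localization.Away g₁')).restrictScalars R).trans eF⟩⟩

theorem isSyntomic_of_span_eq_top (s : Finset S) (hs : Ideal.span (s : Set S) = ⊤)
    (h : ∀ g ∈ s, Synt.IsSyntomic R (Localization.Away g)) : Synt.IsSyntomic R S := by
  haveI hfp : Algebra.FinitePresentation R S :=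
    Algebra.FinitePresentation.of_span_eq_top_target (s : Set S) hs fun g hg => (h g hg).2.1
  refine ⟨?_, hfp, fun p => isLCIOver_iff_forall.2 fun Q hQ => ?_⟩
  · refine Module.flat_of_isLocalized_span S S (s : Set S) hs
      (fun r => Localization.Away r.1) (fun r => Algebra.linearMap S (Localization.Away r.1)) fun r => (h r.1 r.2).1
  · let q := Q.comap Algebra.TensorProduct.includeRight.toRingHom
    obtain ⟨g, hgs, hgq⟩ := Set.not_subset.1 (fun hle : (s : Set S) ⊆ q =>
      (Ideal.IsPrime.comap Algebra.TensorProduct.includeRight.toRingHom (hK := hQ) : q.IsPrime).ne_top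
        (top_le_iff.1 (hs ▸ Ideal.span_le.2 hle)))
    exact isCIOver_fibre_of_isSyntomic_away (h g hgs) q hgq p.asIdeal Q rfl
      (comap_algebraMap_eq (R := S) p.asIdeal (⟨Q, hQ⟩ : PrimeSpectrum (p.asIdeal.Fiber S))).symm

end Groth.Agent.Synt15
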