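import Groth.Agent.Synt15.RelDim
import Groth.Agent.Synt15.Syntomic

/-! Lifting relative global complete intersections along a quotient of the base. -/

set_option autoImplicit false
set_option linter.style.haveILetI false

universe u

open MvPolynomial

namespace Groth.Agent.Synt15

variable {R : Type u} [CommRing R]

theorem exists_relGCI_lift {B : Type u} [CommRing B] [Algebra R B] (I : Ideal R) [Algebra (R ⧸ I) B]
    [IsScalarTower R (R ⧸ I) B] {n c : ℕ} (Fb : Fin c → MvPolynomial (Fin n) (R ⧸ I))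
    (hFb : Synt.IsRelGCI (R ⧸ I) n c Fb) (e : B ≃ₐ[R ⧸ I] Synt.RelGCIRing (R ⧸ I) n c Fb) :
    ∃ (n' c' : ℕ) (F : Fin c' → MvPolynomial (Fin n') R), Synt.IsRelGCI R n' c' F ∧
      Nonempty (B ≃ₐ[R] (Synt.RelGCIRing R n' c' F ⧸ I.map (algebraMap R (Synt.RelGCIRing R n' c' F)))) := by
  choose F hF using fun i => MvPolynomial.map_surjective (σ := Fin n) (Ideal.Quotient.mk I) Ideal.Quotient.mk_surjective (Fb i)
  obtain rfl : Fb = fun i => MvPolynomial.map (Ideal.Quotient.mk I) (F i) := funext fun i => (hF i).symm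
  obtain ⟨h, h1, hG⟩ := exists_away_of_isRelGCI_mod (F := F) I hFb
  obtain ⟨eT⟩ := exists_awayEquiv F h
  let S := Synt.RelGCIRing R n c F
  let S' := Synt.RelGCIRing (R ⧸ I) n c (fun i => MvPolynomial.map (Ideal.Quotient.mk I) (F i))
  let hb : S := Ideal.Quotient.mk _ h
  let φ : S →ₐ[R] S' := Ideal.Quotient.liftₐ _
    ((Ideal.Quotient.mkₐ R _).comp (MvPolynomial.mapAlgHom (Ideal.Quotient.mkₐ R I))) fun a ha => by
      refine (Ideal.span_le.2 ?_ : Ideal.span (Set.range F) ≤ RingHom.ker
        ((Ideal.Quotient.mkₐ R (Ideal.span (Set.range fun i => MvPolynomial.map (Ideal.Quotient.mk I) (F i)))).comp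
          (MvPolynomial.mapAlgHom (Ideal.Quotient.mkₐ R I))).toRingHom) ha
      rintro _ ⟨i, rfl⟩
      exact Ideal.Quotient.eq_zero_iff_mem.2 (Ideal.subset_span ⟨i, rfl⟩)
  have hφ : Function.Surjective φ := fun y => by
    obtain ⟨y, rfl⟩ := Ideal.Quotient.mk_surjective y
    obtain ⟨x, rfl⟩ := MvPolynomial.map_surjective (σ := Fin n) (Ideal.Quotient.mk I) Ideal.Quotient.mk_surjective y
    exact ⟨Ideal.Quotient.mk _ x, rfl⟩
  have hker : RingHom.ker φ.toRingHom ≤ I.map (algebraMap R S) := by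
    intro x hx
    obtain ⟨x, rfl⟩ := Ideal.Quotient.mk_surjective x
    have h1 : MvPolynomial.map (Ideal.Quotient.mk I) x ∈
        (Ideal.span (Set.range F)).map (MvPolynomial.map (Ideal.Quotient.mk I)) := by
      rw [Ideal.map_span, ← Set.range_comp]
      exact Ideal.Quotient.eq_zero_iff_mem.1 hx
    rw [← Ideal.mem_comap, Ideal.comap_map_of_surjective _
      (MvPolynomial.map_surjective (σ := Fin n) (Ideal.Quotient.mk I) Ideal.Quotient.mk_surjective), ← RingHom.ker_eq_comap_bot,
      MvPolynomial.ker_map, Ideal.mk_ker] at h1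
    obtain ⟨a, ha, b, hb, rfl⟩ := Submodule.mem_sup.1 h1
    rw [map_add, Ideal.Quotient.eq_zero_iff_mem.2 ha, zero_add]
    have h2 := Ideal.mem_map_of_mem (Ideal.Quotient.mk (Ideal.span (Set.range F))) hb
    rw [Ideal.map_map] at h2
    exact h2
  have hφI : ∀ x ∈ I.map (algebraMap R S), φ x = 0 := fun x hx => by
    have : I.map (algebraMap R S) ≤ RingHom.ker φ.toRingHom := Ideal.map_le_iff_le_comap.2 fun r hr => by
      show φ (algebraMap R S r) = 0
      rw [φ.commutes, IsScalarTower.algebraMap_apply R (R ⧸ I) S', Ideal.Quotient.algebraMap_eq,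
        Ideal.Quotient.eq_zero_iff_mem.2 hr, map_zero]
    exact this hx
  have hφh : φ hb = 1 := by
    have h2 : hb - 1 ∈ I.map (algebraMap R S) := by
      rw [← Ideal.Quotient.eq, map_one]; exact h1
    rw [← sub_eq_zero, ← map_one φ, ← map_sub]
    exact hφI _ h2
  let ψ : Localization.Away hb →ₐ[R] S' :=
    IsLocalization.liftAlgHom (M := Submonoid.powers hb) (f := φ) (by
      rintro ⟨_, k, rfl⟩
      show IsUnit (φ (hb ^ k))
      rw [map_pow, hφh, one_pow]
      exact isUnit_one)
  have hψa : ∀ x, ψ (algebraMap S _ x) = φ x := fun x => by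
    simp [ψ, IsLocalization.liftAlgHom_apply]
  let Ψ : Synt.RelGCIRing R (n + 1) (c + 1) (awayRel F h) →ₐ[R] B :=
    ((e.symm.restrictScalars R).toAlgHom.comp ψ).comp eT.symm.toAlgHom
  have hΨ : Function.Surjective Ψ := fun y => by
    obtain ⟨x, hx⟩ := hφ (e y)
    refine ⟨eT (algebraMap S _ x), ?_⟩
    show e.symm (ψ (eT.symm (eT (algebraMap S _ x)))) = y
    rw [eT.symm_apply_apply, hψa, hx, e.symm_apply_apply]
  have hk : RingHom.ker Ψ.toRingHom = I.map (algebraMap R (Synt.RelGCIRing R (n + 1) (c + 1) (awayRel F h))) := by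
    refine le_antisymm (fun t ht => ?_) (Ideal.map_le_iff_le_comap.2 fun r hr => ?_)
    · have h0 : ψ (eT.symm t) = 0 := e.symm.injective (ht.trans (map_zero _).symm)
      obtain ⟨s, m, hsm⟩ := IsLocalization.exists_mk'_eq (Submonoid.powers hb) (eT.symm t)
      have h2 : φ s = 0 := by
        rw [← hψa, ← IsLocalization.mk'_spec (Localization.Away hb) s m, hsm, map_mul, h0, zero_mul]
      have h3 : eT.symm t ∈ I.map (algebraMap R (Localization.Away hb)) := by
        rw [← hsm, IsScalarTower.algebraMap_eq R S (Localization.Away hb), ← Ideal.map_map,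
          IsLocalization.mk'_mem_iff]
        exact Ideal.mem_map_of_mem _ (hker h2)
      have h4 := Ideal.mem_map_of_mem eT.toAlgHom.toRingHom h3
      rw [Ideal.map_map] at h4
      rw [show eT.toAlgHom.toRingHom.comp (algebraMap R (Localization.Away hb)) = algebraMap R _ from
        eT.toAlgHom.comp_algebraMap] at h4
      rwa [show eT.toAlgHom.toRingHom (eT.symm t) = t from eT.apply_symm_apply t] at h4
    · show Ψ (algebraMap R _ r) = 0
      rw [Ψ.commutes, IsScalarTower.algebraMap_apply R (R ⧸ I) B, Ideal.Quotient.algebraMap_eq,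
        Ideal.Quotient.eq_zero_iff_mem.2 hr, map_zero]
  exact ⟨n + 1, c + 1, awayRel F h, hG,
    ⟨((Ideal.quotientEquivAlgOfEq R hk.symm).trans (Ideal.quotientKerAlgEquivOfSurjective hΨ)).symm⟩⟩

end Groth.Agent.Synt15
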