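import Groth.Agent.Synt15.Syntomic
import Mathlib.RingTheory.Smooth.Flat

/-! Smooth algebras are syntomic. -/

set_option autoImplicit false

universe u

open TensorProduct

namespace Groth.Agent.Synt15

theorem isSyntomic_of_smooth (R S : Type u) [CommRing R] [CommRing S] [Algebra R S] [Algebra.Smooth R S] :
    Synt.IsSyntomic R S :=
  ⟨inferInstance, inferInstance, fun p => by
    haveI : Algebra.Smooth p.asIdeal.ResidueField (p.asIdeal.Fiber S) :=
      inferInstanceAs (Algebra.Smooth p.asIdeal.ResidueField (p.asIdeal.ResidueField ⊗[R] S))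
    exact isLCIOver_of_smooth _⟩

end Groth.Agent.Synt15
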