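import Groth.Agent.Synt15.KoszulOfCI
import Groth.Agent.Synt15.SmoothSyntomic
import Groth.Agent.CAlgH.KoszulChart
import Groth.Agent.CAlgH.RegImmStalk
import Groth.Agent.FlatMorKoszul.Locus
import Groth.Agent.FlatMorKoszul.Localization

/-! Koszul at a point in factorisation form and in ring form agree. -/

set_option autoImplicit false
set_option linter.style.haveILetI false
set_option backward.isDefEq.respectTransparency false

universe u

open CategoryTheory CategoryTheory.Limits AlgebraicGeometry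
open Groth.Agent.FlatMorKoszul

namespace Groth.Agent.Synt15

theorem isLCI_relGCI {R : Type u} [CommRing R] {n c : ℕ} {F : Fin c → MvPolynomial (Fin n) R}
    (h : Synt.IsRelGCI R n c F) : LCI.IsLCI R (Synt.RelGCIRing R n c F) := by
  refine ⟨inferInstance, n, Ideal.Quotient.mkₐ R _, Ideal.Quotient.mkₐ_surjective R _, ?_⟩
  convert isKoszulRegularIdeal_span (kreg h)
  exact Ideal.Quotient.mkₐ_ker R _

theorem isLCI_of_isSyntomic {R S : Type u} [CommRing R] [CommRing S] [Algebra R S] (h : Synt.IsSyntomic R S) :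
    LCI.IsLCI R S := by
  haveI := h.1
  haveI := h.2.1
  refine isLCI_of_span {g : S | LCI.IsLCI R (Localization.Away g)} ?_ fun g hg => hg
  by_contra hne
  obtain ⟨q, hq, hle⟩ := Ideal.exists_le_maximal _ hne
  let p := q.comap (algebraMap R S)
  obtain ⟨Q, _, hQ⟩ := exists_fibre_point (R := R) q p rfl
  haveI : Module.Flat S (Localization.AtPrime q) := IsLocalization.flat _ q.primeCompl
  obtain ⟨g, hg, n, c, F, hF, ⟨e⟩⟩ := exists_relGCI_nhd R q p rfl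
    (Module.Flat.trans R S (Localization.AtPrime q)) Q hQ
    (isCIOver_of_isLCIOver (h.2.2 ⟨p, inferInstance⟩) Q)
  exact hg (hle (Ideal.subset_span (isLCI_of_equiv e.symm (isLCI_relGCI hF) : g ∈ {g : S | _})))

variable {X Y Z : Scheme.{u}}

theorem isKoszulPt_of_isSyntomicAt (f : X ⟶ Y) {x : X} (h : Synt.IsSyntomicAt f x) : IsKoszulPt f x := by
  obtain ⟨U, V, e, hx, hs⟩ := h
  exact ⟨U.1, V.1, U.2, V.2, e, hx, letI := (f.appLE V.1 U.1 e).hom.toAlgebra; isLCI_of_isSyntomic hs⟩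

theorem isKoszulPt_of_smooth (f : X ⟶ Y) [Smooth f] (x : X) : IsKoszulPt f x := by
  obtain ⟨_, ⟨V, hV, rfl⟩, hxV, -⟩ :=
    Y.isBasis_affineOpens.exists_subset_of_mem_open (Set.mem_univ (f x)) isOpen_univ
  obtain ⟨_, ⟨U, hU, rfl⟩, hxU, hle⟩ :=
    X.isBasis_affineOpens.exists_subset_of_mem_open (show x ∈ f ⁻¹ᵁ V from hxV) (f ⁻¹ᵁ V).2
  refine ⟨U, V, hU, hV, hle, hxU, ?_⟩
  letI := (f.appLE V U hle).hom.toAlgebra
  haveI : Algebra.Smooth Γ(Y, V) Γ(X, U) := HasRingHomProperty.appLE @Smooth f ‹_› ⟨V, hV⟩ ⟨U, hU⟩ hle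
  exact isLCI_of_isSyntomic (isSyntomic_of_smooth _ _)

theorem isKoszulPt_of_isRegularImmersion (i : X ⟶ Y) (hi : RegImm.IsRegularImmersion .koszul i) (x : X) :
    IsKoszulPt i x := by
  obtain ⟨⟨U, hU⟩, hx, hc, rs, hrs, hker⟩ := hi.2 x
  have hW : IsAffineOpen (i ⁻¹ᵁ U) := by
    have : IsAffine U.toScheme := hU
    exact isAffine_of_isAffineHom (i ∣_ U)
  refine ⟨i ⁻¹ᵁ U, U, hW, hU, le_rfl, hx, ?_⟩
  letI := (i.appLE U (i ⁻¹ᵁ U) le_rfl).hom.toAlgebra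
  have halg : algebraMap Γ(Y, U) Γ(X, i ⁻¹ᵁ U) = (i.app U).hom :=
    congrArg CommRingCat.Hom.hom (Scheme.Hom.app_eq_appLE (f := i) (U := U)).symm
  refine isLCI_of_surjective (by rw [halg]; exact CAlgH.RegImmStalk.app_surjective_of_restrict i hU) ?_
  rw [halg, hker, ← List.ofFn_get rs, ofList_ofFn]
  exact isKoszulRegularIdeal_span ((CAlgH.KoszulRegular.isKoszulRegularSeq_iff _).1 (by rw [List.ofFn_get]; exact hrs))

theorem isKoszulPt_comp (f : X ⟶ Y) (g : Y ⟶ Z) {x : X} (hf : IsKoszulPt f x) (hg : IsKoszulPt g (f x)) :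
    IsKoszulPt (f ≫ g) x := by
  obtain ⟨U, V, hU, hV, eU, hxU, hl⟩ := hf
  obtain ⟨W, T, hW, hT, eW, hxW, hl'⟩ := hg
  obtain ⟨b, b₁, hbb, hfb⟩ := exists_basicOpen_le_affine_inter hV hW (f x) ⟨eU hxU, hxW⟩
  obtain ⟨a, hale, hxa⟩ := hU.exists_basicOpen_le (V := f ⁻¹ᵁ Y.basicOpen b) ⟨x, hfb⟩ hxU
  have eD : Y.basicOpen b ≤ g ⁻¹ᵁ T := (hbb ▸ Y.basicOpen_le b₁).trans eW
  refine ⟨X.basicOpen a, T, hU.basicOpen a, hT, hale.trans fun y hy => eD hy, hxa, ?_⟩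
  have h1 := isLCI_basicOpen_source f hU eU a rfl ((X.basicOpen_le a).trans eU) hl
  have h2 := isLCI_basicOpen_base f hV ((X.basicOpen_le a).trans eU) b rfl hale h1
  have h3 := isLCI_basicOpen_source g hW eW b₁ hbb eD hl'
  let _ := (g.appLE T (Y.basicOpen b) eD).hom.toAlgebra
  let _ := (f.appLE (Y.basicOpen b) (X.basicOpen a) hale).hom.toAlgebra
  let _ := ((f ≫ g).appLE T (X.basicOpen a) (hale.trans fun y hy => eD hy)).hom.toAlgebra
  have : IsScalarTower Γ(Z, T) Γ(Y, Y.basicOpen b) Γ(X, X.basicOpen a) := by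
    refine .of_algebraMap_eq' ?_
    show ((f ≫ g).appLE T (X.basicOpen a) _).hom =
      (f.appLE (Y.basicOpen b) (X.basicOpen a) hale).hom.comp (g.appLE T (Y.basicOpen b) eD).hom
    rw [← CommRingCat.hom_comp, Scheme.Hom.appLE_comp_appLE]
  exact isLCI_trans h3 h2

theorem isKoszulPt_of_openImmersion_comp {O : Scheme.{u}} (j : O ⟶ X) [IsOpenImmersion j] (f : X ⟶ Y) {x : O}
    (h : IsKoszulPt (j ≫ f) x) : IsKoszulPt f (j x) := by
  obtain ⟨W, V, hW, hV, eW, hxW, hl⟩ := h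
  have eU : j ''ᵁ W ≤ f ⁻¹ᵁ V := by
    rintro _ ⟨w, hw, rfl⟩
    exact eW hw
  refine ⟨j ''ᵁ W, V, hW.image_of_isOpenImmersion j, hV, eU, ⟨x, hxW, rfl⟩, ?_⟩
  let _ := ((j ≫ f).appLE V W eW).hom.toAlgebra
  let _ := (f.appLE V (j ''ᵁ W) eU).hom.toAlgebra
  let e : Γ(X, j ''ᵁ W) ≃ₐ[Γ(Y, V)] Γ(O, W) :=
    { (j.appIso W).commRingCatIsoToRingEquiv with
      commutes' := fun r => by
        show (f.appLE V (j ''ᵁ W) eU ≫ (j.appIso W).hom) r = (j ≫ f).appLE V W eW r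
        congr 2
        rw [Scheme.Hom.appIso_hom', Scheme.Hom.appLE_comp_appLE] }
  exact isLCI_of_equiv e.symm hl

theorem isKoszulPt_of_isKoszulAt (f : X ⟶ Y) {x : X} (h : Synt.IsKoszulAt f x) : IsKoszulPt f x := by
  obtain ⟨U, P, i, π, hxU, -, hi, hπ, hfac⟩ := h
  have h1 : IsKoszulPt (i ≫ π) ⟨x, hxU⟩ :=
    isKoszulPt_comp i π (isKoszulPt_of_isRegularImmersion i hi _) (isKoszulPt_of_smooth π _)
  rw [hfac] at h1
  exact isKoszulPt_of_openImmersion_comp U.ι f h1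

/-- A closed immersion of affine schemes given by a Koszul regular ideal. -/
theorem isRegularImmersion_SpecMap_of_ideal {P A : CommRingCat.{u}} (φ : P ⟶ A) (hφ : Function.Surjective φ.hom)
    (h : LCI.IsKoszulRegularIdeal (RingHom.ker φ.hom)) :
    RegImm.IsRegularImmersion .koszul (Spec.map φ) := by
  haveI : IsClosedImmersion (Spec.map φ) := IsClosedImmersion.spec_of_surjective _ hφ
  refine ⟨inferInstance, fun z => ?_⟩
  obtain ⟨a, ha, n, F, -, hF, hspan⟩ := (isKoszulRegularIdeal_iff _).1 h (Spec.map φ z)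
    (Ideal.comap_mono (f := φ.hom) bot_le)
  let a' : Γ(Spec P, ⊤) := (Scheme.ΓSpecIso P).inv a
  let D : (Spec P).Opens := (Spec P).basicOpen a'
  have hD : IsAffineOpen D := (isAffineOpen_top _).basicOpen a'
  obtain ⟨hc, hk⟩ := CAlgH.KoszulChart.restrict (Spec.map φ) (isAffineOpen_top _) hD le_top
  refine ⟨⟨D, hD⟩, ?_, hc, ?_⟩
  · show Spec.map φ z ∈ (Spec P).basicOpen a'
    rw [basicOpen_eq_of_affine]
    exact ha
  let ρ : P →+* Γ(Spec P, D) :=
    ((Spec P).presheaf.map (homOfLE (le_top : D ≤ ⊤)).op).hom.comp (Scheme.ΓSpecIso P).inv.hom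
  have hρ : ρ.Flat :=
    (RingHom.Flat.of_bijective (Scheme.ΓSpecIso P).symm.commRingCatIsoToRingEquiv.bijective).comp
      (CAlgH.KoszulChart.flat_restrict (isAffineOpen_top _) hD le_top)
  have hu : IsUnit (ρ a) := RingedSpace.isUnit_res_basicOpen _ a'
  refine ⟨List.ofFn fun k => ρ (F k),
    (CAlgH.KoszulRegular.isKoszulRegularSeq_iff _).2 (kreg_of_flat_isUnit hρ hu hF), ?_⟩
  letI := ρ.toAlgebra
  refine Eq.trans ?_ ((map_eq_span_of_isUnit _ hu hspan).trans (ofList_ofFn _).symm)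
  rw [hk]
  show _ = Ideal.map ρ _
  rw [← Ideal.map_map]
  congr 1
  have h0 : (Spec.map φ).app ⊤ = (Scheme.ΓSpecIso P).hom ≫ φ ≫ (Scheme.ΓSpecIso A).inv := by
    rw [Scheme.ΓSpecIso_inv_naturality, Iso.hom_inv_id_assoc]
  refine (congrArg (fun m => RingHom.ker m.hom) h0).trans ?_
  rw [← Category.assoc, CommRingCat.hom_comp, RingHom.ker_comp_of_injective _ (ConcreteCategory.bijective_of_isIso _).1,
    CommRingCat.hom_comp, ← RingHom.comap_ker]
  exact (Ideal.map_symm (Scheme.ΓSpecIso P).commRingCatIsoToRingEquiv).symm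

theorem isKoszulAt_of_isKoszulPt (f : X ⟶ Y) {x : X} (h : IsKoszulPt f x) : Synt.IsKoszulAt f x := by
  obtain ⟨U, V, hU, hV, e, hxU, hl⟩ := h
  let _ := (f.appLE V U e).hom.toAlgebra
  obtain ⟨-, n, α, hα, hI⟩ := hl
  let P : CommRingCat.{u} := CommRingCat.of (MvPolynomial (Fin n) Γ(Y, V))
  let i : (U : Scheme.{u}) ⟶ Spec P := hU.isoSpec.hom ≫ Spec.map (CommRingCat.ofHom α.toRingHom)
  let π : Spec P ⟶ Y := Spec.map (CommRingCat.ofHom (algebraMap Γ(Y, V) (MvPolynomial (Fin n) Γ(Y, V)))) ≫ hV.fromSpec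
  haveI : IsClosedImmersion (Spec.map (CommRingCat.ofHom α.toRingHom)) := IsClosedImmersion.spec_of_surjective _ hα
  haveI : Smooth (Spec.map (CommRingCat.ofHom (algebraMap Γ(Y, V) (MvPolynomial (Fin n) Γ(Y, V))))) :=
    (HasRingHomProperty.Spec_iff (P := @Smooth)).2
      ((RingHom.smooth_algebraMap (R := Γ(Y, V)) (S := MvPolynomial (Fin n) Γ(Y, V))).2 ⟨inferInstance, inferInstance⟩)
  have hfac : i ≫ π = U.ι ≫ f := by
    have h1 : CommRingCat.ofHom (algebraMap Γ(Y, V) (MvPolynomial (Fin n) Γ(Y, V))) ≫ CommRingCat.ofHom α.toRingHom =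
        f.appLE V U e := CommRingCat.hom_ext α.comp_algebraMap
    show (hU.isoSpec.hom ≫ Spec.map _) ≫ Spec.map _ ≫ hV.fromSpec = U.ι ≫ f
    rw [Category.assoc, ← Spec.map_comp_assoc, h1, IsAffineOpen.SpecMap_appLE_fromSpec f hV hU, IsAffineOpen.isoSpec_hom,
      IsAffineOpen.toSpecΓ_fromSpec_assoc]
  refine ⟨U, Spec P, i, π, hxU, hfac ▸ inferInstance, ?_, inferInstance, hfac⟩
  exact isRegularImmersion_iso_comp hU.isoSpec.hom _ (isRegularImmersion_SpecMap_of_ideal _ hα hI)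

theorem isKoszulAt_iff_isKoszulPt (f : X ⟶ Y) (x : X) : Synt.IsKoszulAt f x ↔ IsKoszulPt f x :=
  ⟨isKoszulPt_of_isKoszulAt f, isKoszulAt_of_isKoszulPt f⟩

theorem isKoszulAt_comp (f : X ⟶ Y) (g : Y ⟶ Z) {x : X} (hf : Synt.IsKoszulAt f x) (hg : Synt.IsKoszulAt g (f x)) :
    Synt.IsKoszulAt (f ≫ g) x :=
  isKoszulAt_of_isKoszulPt _ (isKoszulPt_comp f g (isKoszulPt_of_isKoszulAt f hf) (isKoszulPt_of_isKoszulAt g hg))

theorem locallyOfFiniteType_of_isKoszulPt (f : X ⟶ Y) (h : ∀ x, IsKoszulPt f x) : LocallyOfFiniteType f := by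
  choose U V hU hV e hxU hl using h
  refine (IsZariskiLocalAtSource.iff_of_openCover (X.openCoverOfIsOpenCover _ (TopologicalSpace.IsOpenCover.mk (u := U)
    (eq_top_iff.2 fun x _ => TopologicalSpace.Opens.mem_iSup.2 ⟨x, hxU x⟩)))).2 fun x => ?_
  show LocallyOfFiniteType ((U x).ι ≫ f)
  rw [← IsAffineOpen.toSpecΓ_fromSpec_assoc (hU x), ← IsAffineOpen.SpecMap_appLE_fromSpec f (hV x) (hU x) (e x)]
  haveI : LocallyOfFiniteType (Spec.map (f.appLE (V x) (U x) (e x))) :=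
    (HasRingHomProperty.Spec_iff (P := @LocallyOfFiniteType)).2 (hl x).1
  haveI : IsIso (U x).toSpecΓ := by
    rw [← IsAffineOpen.isoSpec_hom (hU x)]; infer_instance
  infer_instance

theorem isLCI_appLE_of_isKoszulPt (f : X ⟶ Y) (h : ∀ x, IsKoszulPt f x) (U : X.Opens) (V : Y.Opens)
    (hU : IsAffineOpen U) (hV : IsAffineOpen V) (e : U ≤ f ⁻¹ᵁ V) :
    letI := (f.appLE V U e).hom.toAlgebra; LCI.IsLCI Γ(Y, V) Γ(X, U) := by
  haveI := locallyOfFiniteType_of_isKoszulPt f h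
  let _ := (f.appLE V U e).hom.toAlgebra
  have hft : Algebra.FiniteType Γ(Y, V) Γ(X, U) := f.finiteType_appLE hV hU e
  obtain ⟨n, α, hα⟩ := (Algebra.FiniteType.iff_quotient_mvPolynomial'').1 hft
  refine ⟨hft, n, α, hα, (isKoszulRegularIdeal_iff _).2 fun P hP => ?_⟩
  let q : Ideal Γ(X, U) := P.asIdeal.map α.toRingHom
  haveI : q.IsPrime := Ideal.map_isPrime_of_surjective hα hP
  have hq : q.comap α.toRingHom = P.asIdeal := by
    show Ideal.comap α.toRingHom (Ideal.map α.toRingHom P.asIdeal) = _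
    rw [Ideal.comap_map_of_surjective α.toRingHom hα, sup_eq_left, ← RingHom.ker_eq_comap_bot]
    exact hP
  let x := hU.fromSpec ⟨q, inferInstance⟩
  have hx : x ∈ U := hU.range_fromSpec.le ⟨_, rfl⟩
  have hxq : hU.primeIdealOf ⟨x, hx⟩ = (⟨q, inferInstance⟩ : PrimeSpectrum Γ(X, U)) :=
    hU.fromSpec.isOpenEmbedding.injective (hU.fromSpec_primeIdealOf ⟨x, hx⟩)
  have hk := (isKoszulPt_iff f hU hV e hx rfl α hα).1 (h x)
  rw [hxq] at hk
  rwa [hq] at hk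

theorem isKoszulPt_of_isLCI_appLE (f : X ⟶ Y) (h : ∀ (U : X.Opens) (V : Y.Opens) (_ : IsAffineOpen U)
    (_ : IsAffineOpen V) (e : U ≤ f ⁻¹ᵁ V), letI := (f.appLE V U e).hom.toAlgebra; LCI.IsLCI Γ(Y, V) Γ(X, U))
    (x : X) : IsKoszulPt f x := by
  obtain ⟨_, ⟨V, hV, rfl⟩, hxV, -⟩ :=
    Y.isBasis_affineOpens.exists_subset_of_mem_open (Set.mem_univ (f x)) isOpen_univ
  obtain ⟨_, ⟨U, hU, rfl⟩, hxU, hle⟩ :=
    X.isBasis_affineOpens.exists_subset_of_mem_open (show x ∈ f ⁻¹ᵁ V from hxV) (f ⁻¹ᵁ V).2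
  exact ⟨U, V, hU, hV, hle, hxU, h U V hU hV hle⟩

end Groth.Agent.Synt15
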