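import Groth.Agent.Synt15.LCIBridge
import Groth.Agent.SDiv28.SmoothRegImm
import Groth.Agent.CAlgH.KoszulImmersion
import Groth.Agent.CAlgH.KoszulDescentScheme
import Groth.Agent.CAlgH.KoszulH1

/-! Local complete intersection morphisms and smooth morphisms. -/

set_option autoImplicit false
set_option linter.style.haveILetI false
set_option backward.isDefEq.respectTransparency false

universe u

open CategoryTheory CategoryTheory.Limits AlgebraicGeometry
open Groth.Agent.FlatMorKoszul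

namespace Groth.Agent.Synt15

variable {X Y S : Scheme.{u}}

theorem isRegularImmersion_of_closed_section (p : X ⟶ S) [Smooth p] (σ : S ⟶ X) (h : σ ≫ p = 𝟙 S)
    [IsClosedImmersion σ] : RegImm.IsRegularImmersion .koszul σ := by
  refine ⟨inferInstance, fun z => ?_⟩
  obtain ⟨U, hU, hz, rs, hrs, hker⟩ :=
    (SDiv28.SmoothRegImm.isRegularClosedImmersion_section p σ h).2 z
  refine ⟨⟨U, hU⟩, hz, inferInstance, rs, ?_, by rw [← hker, Scheme.Hom.ker_apply]⟩
  show LCI.IsKoszulRegularSeq _ rs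
  rw [← List.ofFn_get rs]
  exact (CAlgH.KoszulRegular.isKoszulRegularSeq_iff _).2
    (CAlgH.KoszulH1.kreg_of_isWeaklyRegular (by rw [List.ofFn_get]; exact hrs.toIsWeaklyRegular))

/-- A section of a smooth morphism is Koszul at every point. -/
theorem isKoszulPt_section (p : X ⟶ S) [Smooth p] (σ : S ⟶ X) [IsImmersion σ] (h : σ ≫ p = 𝟙 S) (s : S) :
    IsKoszulPt σ s := by
  haveI : Smooth (σ.coborderRange.ι ≫ p) := inferInstance
  have h1 : IsKoszulPt σ.liftCoborder s :=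
    isKoszulPt_of_isRegularImmersion _
      (isRegularImmersion_of_closed_section (σ.coborderRange.ι ≫ p) σ.liftCoborder
        (by rw [Scheme.Hom.liftCoborder_ι_assoc, h])) s
  have h2 := isKoszulPt_comp σ.liftCoborder σ.coborderRange.ι h1 (isKoszulPt_of_smooth _ _)
  rwa [Scheme.Hom.liftCoborder_ι] at h2

theorem isKoszulAt_of_isPullback {X' Y' : Scheme.{u}} (f : X ⟶ Y) (g : Y' ⟶ Y) [Flat g]
    (f' : X' ⟶ Y') (g' : X' ⟶ X) (hsq : IsPullback g' f' f g) {x' : X'} (hf : Synt.IsKoszulAt f (g' x')) :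
    Synt.IsKoszulAt f' x' := by
  obtain ⟨U, P, i, π, hxU, hft, hi, hπ, hfac⟩ := hf
  let U' := g' ⁻¹ᵁ U
  have hsU : IsPullback (g' ∣_ U) U'.ι U.ι g' := (isPullback_morphismRestrict g' U).flip.flip
  have h1 : IsPullback (g' ∣_ U) (U'.ι ≫ f') (U.ι ≫ f) g := hsU.paste_vert hsq
  let P' := Limits.pullback π g
  let i' : (U' : Scheme.{u}) ⟶ P' := Limits.pullback.lift ((g' ∣_ U) ≫ i) (U'.ι ≫ f') (by
    rw [Category.assoc, hfac]; exact h1.w)
  have h2 : IsPullback (g' ∣_ U) i' i (Limits.pullback.fst π g) := by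
    refine IsPullback.of_bot ?_ (Limits.pullback.lift_fst _ _ _).symm (IsPullback.of_hasPullback π g)
    rw [hfac]
    convert h1 using 1
    exact Limits.pullback.lift_snd _ _ _
  have : LocallyOfFiniteType (U'.ι ≫ f') := MorphismProperty.of_isPullback h1 hft
  exact ⟨U', P', i', Limits.pullback.snd π g, hxU, this,
    CAlgH.KoszulImmersion.baseChange_flat i _ i' _ h2 hi, inferInstance, Limits.pullback.lift_snd _ _ _⟩

/-- If `f ≫ g` is Koszul at `x` and `g` is smooth then `f` is Koszul at `x`. -/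
theorem isKoszulPt_of_comp_smooth (f : X ⟶ Y) (g : Y ⟶ S) [Smooth g] {x : X} (h : IsKoszulPt (f ≫ g) x) :
    IsKoszulPt f x := by
  let Γ' : X ⟶ pullback (f ≫ g) g := pullback.lift (𝟙 X) f (by simp)
  have h1 : Γ' ≫ pullback.fst (f ≫ g) g = 𝟙 X := pullback.lift_fst _ _ _
  haveI : IsImmersion (Γ' ≫ pullback.fst (f ≫ g) g) := by rw [h1]; infer_instance
  haveI : IsImmersion Γ' := IsImmersion.of_comp Γ' (pullback.fst (f ≫ g) g)
  have h2 : IsKoszulPt Γ' x := isKoszulPt_section (pullback.fst (f ≫ g) g) Γ' h1 x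
  have hpt : pullback.fst (f ≫ g) g (Γ' x) = x := by rw [← Scheme.Hom.comp_apply, h1]; rfl
  have h3 : IsKoszulPt (pullback.snd (f ≫ g) g) (Γ' x) :=
    isKoszulPt_of_isKoszulAt _ (isKoszulAt_of_isPullback (f ≫ g) g _ _ (IsPullback.of_hasPullback _ _)
      (by rw [hpt]; exact isKoszulAt_of_isKoszulPt _ h))
  have h4 := isKoszulPt_comp Γ' _ h2 h3
  rwa [pullback.lift_snd] at h4

/-- An immersion which is Koszul everywhere is a Koszul regular immersion. -/
theorem isRegularImmersion_of_isKoszulPt (i : X ⟶ Y) [IsImmersion i] (h : ∀ x, IsKoszulPt i x) :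
    RegImm.IsRegularImmersion .koszul i := by
  refine ⟨inferInstance, fun z => ?_⟩
  obtain ⟨⟨U, hU⟩, hz, hc⟩ := CAlgH.KoszulDescentScheme.exists_closed_chart i z
  have hW : IsAffineOpen (i ⁻¹ᵁ U) := by
    have : IsAffine U.toScheme := hU
    exact isAffine_of_isAffineHom (i ∣_ U)
  let _ := (i.appLE U (i ⁻¹ᵁ U) le_rfl).hom.toAlgebra
  have hl : LCI.IsLCI Γ(Y, U) Γ(X, i ⁻¹ᵁ U) := isLCI_appLE_of_isKoszulPt i h _ _ hW hU le_rfl
  have halg : algebraMap Γ(Y, U) Γ(X, i ⁻¹ᵁ U) = (i.app U).hom :=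
    congrArg CommRingCat.Hom.hom (Scheme.Hom.app_eq_appLE (f := i) (U := U)).symm
  let e : MvPolynomial (Fin 0) Γ(Y, U) ≃ₐ[Γ(Y, U)] Γ(Y, U) := MvPolynomial.isEmptyAlgEquiv Γ(Y, U) (Fin 0)
  let β : MvPolynomial (Fin 0) Γ(Y, U) →ₐ[Γ(Y, U)] Γ(X, i ⁻¹ᵁ U) := (Algebra.ofId _ _).comp e.toAlgHom
  have hsurj : Function.Surjective (algebraMap Γ(Y, U) Γ(X, i ⁻¹ᵁ U)) := by
    rw [halg]; exact CAlgH.RegImmStalk.app_surjective_of_restrict i hU
  have hβ : Function.Surjective β := hsurj.comp e.surjective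
  obtain ⟨-, m, α, hα, hI⟩ := hl
  have hJ := isKoszulRegularIdeal_comap_equiv e.symm.toRingEquiv (other_presentation α hα β hβ hI)
  have hk : (RingHom.ker β.toRingHom).comap e.symm.toRingEquiv.toRingHom = RingHom.ker (i.app U).hom := by
    ext a
    show algebraMap Γ(Y, U) Γ(X, i ⁻¹ᵁ U) (e (e.symm a)) = 0 ↔ (i.app U).hom a = 0
    rw [e.apply_symm_apply, halg]
  rw [hk] at hJ
  let p := (hU.primeIdealOf ⟨i z, hz⟩).asIdeal
  have hp : RingHom.ker (i.app U).hom ≤ p := by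
    intro a ha
    by_contra hna
    have h1 : z ∈ i ⁻¹ᵁ Y.basicOpen a := (notMem_primeIdealOf_iff hU hz a).1 hna
    rw [Scheme.preimage_basicOpen, show i.app U a = 0 from ha, Scheme.basicOpen_zero] at h1
    exact h1
  obtain ⟨a, ha, n, F, -, hF, hspan⟩ := (isKoszulRegularIdeal_iff _).1 hJ (hU.primeIdealOf ⟨i z, hz⟩) hp
  obtain ⟨hcD, hkD⟩ := CAlgH.KoszulChart.restrict i hU (hU.basicOpen a) (Y.basicOpen_le a)
  let ρ : Γ(Y, U) →+* Γ(Y, Y.basicOpen a) := (Y.presheaf.map (homOfLE (Y.basicOpen_le a)).op).hom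
  have hu : IsUnit (ρ a) := RingedSpace.isUnit_res_basicOpen _ a
  refine ⟨⟨_, hU.basicOpen a⟩, (notMem_primeIdealOf_iff hU hz a).1 ha, hcD, List.ofFn fun k => ρ (F k),
    (CAlgH.KoszulRegular.isKoszulRegularSeq_iff _).2
      (kreg_of_flat_isUnit (CAlgH.KoszulChart.flat_restrict hU (hU.basicOpen a) _) hu hF), ?_⟩
  letI := ρ.toAlgebra
  exact hkD.trans ((map_eq_span_of_isUnit _ hu hspan).trans (ofList_ofFn _).symm)

end Groth.Agent.Synt15
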