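import Groth.Agent.Synt15.RelDim
import Groth.Agent.DimLib.Algebra

/-! Base change and descent of relative global complete intersections. -/

set_option autoImplicit false
set_option linter.style.haveILetI false

universe u

open MvPolynomial TensorProduct Groth.Agent.EGA43.FibDepth

namespace Groth.Agent.Synt15

attribute [local instance] Algebra.TensorProduct.rightAlgebra

theorem ringKrullDim_tensor_field {k K A : Type u} [Field k] [Field K] [Algebra k K] [CommRing A] [Algebra k A]
    [Algebra.FiniteType k A] : ringKrullDim (K ⊗[k] A) = ringKrullDim A := by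
  rcases subsingleton_or_nontrivial A with hA | hA
  · haveI : Subsingleton (K ⊗[k] A) := subsingleton_of_forall_eq 0 fun z => by
      induction z using TensorProduct.induction_on with
      | zero => rfl
      | tmul a b => rw [Subsingleton.elim b 0, tmul_zero]
      | add x y hx hy => rw [hx, hy, add_zero]
    rw [ringKrullDim_eq_bot_of_subsingleton, ringKrullDim_eq_bot_of_subsingleton]
  obtain ⟨s, g, hinj, hfin⟩ := exists_finite_inj_algHom_of_fg k A
  have hA : ringKrullDim A = ringKrullDim (MvPolynomial (Fin s) k) := by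
    letI := g.toRingHom.toAlgebra
    haveI : Algebra.IsIntegral (MvPolynomial (Fin s) k) A := ⟨hfin.to_isIntegral⟩
    exact (DimLib.ringKrullDim_eq_of_isIntegral hinj).symm
  let ψ : K ⊗[k] MvPolynomial (Fin s) k →ₐ[K] K ⊗[k] A := Algebra.TensorProduct.map (AlgHom.id K K) g
  have hψinj : Function.Injective ψ :=
    Module.Flat.lTensor_preserves_injective_linearMap (M := K) g.toLinearMap hinj
  have hψint : ψ.toRingHom.IsIntegral := fun z => by
    induction z using TensorProduct.induction_on with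
    | zero => exact RingHom.isIntegralElem_zero _
    | add x y hx hy => exact RingHom.IsIntegralElem.add _ hx hy
    | tmul a b =>
      rw [show a ⊗ₜ[k] b = (a ⊗ₜ[k] (1 : A)) * ((1 : K) ⊗ₜ[k] b) by
        rw [Algebra.TensorProduct.tmul_mul_tmul, mul_one, one_mul]]
      refine RingHom.IsIntegralElem.mul _ ?_ ?_
      · rw [show a ⊗ₜ[k] (1 : A) = ψ.toRingHom (a ⊗ₜ 1) by simp [ψ]]
        exact RingHom.isIntegralElem_map _
      · obtain ⟨P, hP, hev⟩ := hfin.to_isIntegral b
        refine ⟨P.map (Algebra.TensorProduct.includeRight : _ →ₐ[k] K ⊗[k] MvPolynomial (Fin s) k).toRingHom,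
          hP.map _, ?_⟩
        rw [Polynomial.eval₂_map]
        have hc : ψ.toRingHom.comp (Algebra.TensorProduct.includeRight : _ →ₐ[k] K ⊗[k] MvPolynomial (Fin s) k).toRingHom =
            (Algebra.TensorProduct.includeRight : A →ₐ[k] K ⊗[k] A).toRingHom.comp g.toRingHom :=
          RingHom.ext fun x => by simp [ψ]
        rw [hc]
        refine (Polynomial.hom_eval₂ P g.toRingHom (Algebra.TensorProduct.includeRight : A →ₐ[k] K ⊗[k] A).toRingHom b).symm.trans ?_
        rw [hev, map_zero]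
  have hK : ringKrullDim (K ⊗[k] A) = ringKrullDim (K ⊗[k] MvPolynomial (Fin s) k) := by
    letI := ψ.toRingHom.toAlgebra
    haveI : Algebra.IsIntegral (K ⊗[k] MvPolynomial (Fin s) k) (K ⊗[k] A) := ⟨hψint⟩
    exact (DimLib.ringKrullDim_eq_of_isIntegral hψinj).symm
  rw [hK, hA, ringKrullDim_eq_of_ringEquiv (MvPolynomial.algebraTensorAlgEquiv k K).toRingEquiv,
    ringKrullDim_poly, ringKrullDim_poly]

variable {R R' : Type u} [CommRing R] [CommRing R'] {n c : ℕ}

theorem fibre_map_dim (φ : R →+* R') (F : Fin c → MvPolynomial (Fin n) R) (p' : Ideal R') [p'.IsPrime] :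
    ringKrullDim (Synt.RelGCIRing p'.ResidueField n c (fibRel (fun i => MvPolynomial.map φ (F i)) p')) =
      ringKrullDim (Synt.RelGCIRing (p'.comap φ).ResidueField n c (fibRel F (p'.comap φ))) := by
  let p := p'.comap φ
  let k := p.ResidueField
  let K := p'.ResidueField
  letI : Algebra k K := (Ideal.ResidueField.map p p' φ rfl).toAlgebra
  obtain ⟨eb, -⟩ := exists_baseChangeEquiv (K := K) (fibRel F p)
  have hrel : (fun i => MvPolynomial.map (algebraMap k K) (fibRel F p i)) =
      fibRel (fun i => MvPolynomial.map φ (F i)) p' := by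
    funext i
    show MvPolynomial.map (algebraMap k K) (MvPolynomial.map (algebraMap R k) (F i)) =
      MvPolynomial.map (algebraMap R' K) (MvPolynomial.map φ (F i))
    rw [MvPolynomial.map_map, MvPolynomial.map_map]
    congr 1
    congr 1
    ext r
    exact Ideal.ResidueField.map_algebraMap p p' φ rfl r
  rw [← hrel]
  exact (ringKrullDim_eq_of_ringEquiv eb.toRingEquiv).symm.trans
    (ringKrullDim_tensor_field (k := k) (K := K) (A := Synt.RelGCIRing k n c (fibRel F p)))

theorem nontrivial_of_dim {A B : Type u} [CommRing A] [CommRing B] (h : ringKrullDim A = ringKrullDim B)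
    [Nontrivial A] : Nontrivial B := by
  rcases subsingleton_or_nontrivial B with hB | hB
  · exact absurd (h.trans ringKrullDim_eq_bot_of_subsingleton)
      (ne_of_gt (lt_of_lt_of_le (WithBot.bot_lt_coe _) ringKrullDim_nonneg_of_nontrivial))
  · exact hB

/-- Relative global complete intersections are stable under base change. -/
theorem isRelGCI_map (φ : R →+* R') {F : Fin c → MvPolynomial (Fin n) R} (h : Synt.IsRelGCI R n c F) :
    Synt.IsRelGCI R' n c fun i => MvPolynomial.map φ (F i) := fun p' hne => by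
  obtain ⟨e'⟩ := exists_fibEquiv (fun i => MvPolynomial.map φ (F i)) p'.asIdeal
  haveI hne' := e'.symm.toRingEquiv.toEquiv.nontrivial
  haveI hne₀ := nontrivial_of_dim (fibre_map_dim φ F p'.asIdeal)
  obtain ⟨h1, h2⟩ := IsRelGCI.fibre h (p'.asIdeal.comap φ) hne₀
  exact ⟨h1, (ringKrullDim_eq_of_ringEquiv e'.toRingEquiv).trans ((fibre_map_dim φ F p'.asIdeal).trans h2)⟩

theorem map_awayRel (φ : R →+* R') (F : Fin c → MvPolynomial (Fin n) R) (h : MvPolynomial (Fin n) R) :
    (fun i => MvPolynomial.map φ (awayRel F h i)) = awayRel (fun i => MvPolynomial.map φ (F i)) (MvPolynomial.map φ h) := by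
  funext i
  induction i using Fin.lastCases with
  | last => simp [MvPolynomial.map_rename]
  | cast j => simp [MvPolynomial.map_rename]

/-- The fibre dimension bound at a prime of a principal open. -/
theorem le_of_isRelGCI_away {F : Fin c → MvPolynomial (Fin n) R} {h : MvPolynomial (Fin n) R}
    (hG : Synt.IsRelGCI R (n + 1) (c + 1) (awayRel F h)) (q : PrimeSpectrum (Synt.RelGCIRing R n c F))
    (hq : Ideal.Quotient.mk (Ideal.span (Set.range F)) h ∉ q.asIdeal) : c ≤ n ∧ trd R q ≤ n - c := by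
  obtain ⟨e⟩ := exists_awayEquiv F h
  let g := Ideal.Quotient.mk (Ideal.span (Set.range F)) h
  let φ : Synt.RelGCIRing R n c F →ₐ[R] Synt.RelGCIRing R (n + 1) (c + 1) (awayRel F h) :=
    e.toAlgHom.comp (IsScalarTower.toAlgHom R (Synt.RelGCIRing R n c F) (Localization.Away g))
  have hφ : φ.toRingHom.SurjectiveOnStalks :=
    RingHom.SurjectiveOnStalks.comp (RingHom.surjectiveOnStalks_of_surjective (f := e.toAlgHom.toRingHom) e.surjective)
      (RingHom.surjectiveOnStalks_of_isLocalization (M := Submonoid.powers g) _)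
  obtain ⟨Q, hQ⟩ : q ∈ Set.range (PrimeSpectrum.comap (algebraMap (Synt.RelGCIRing R n c F) (Localization.Away g))) := by
    rw [PrimeSpectrum.localization_away_comap_range (Localization.Away g) g]
    exact hq
  let Q' : PrimeSpectrum (Synt.RelGCIRing R (n + 1) (c + 1) (awayRel F h)) :=
    PrimeSpectrum.comap e.symm.toAlgHom.toRingHom Q
  have hQ' : PrimeSpectrum.comap φ.toRingHom Q' = q := by
    rw [← hQ]
    refine PrimeSpectrum.ext (Ideal.ext fun x => ?_)
    show e.symm (e (algebraMap _ (Localization.Away g) x)) ∈ Q.asIdeal ↔ algebraMap _ (Localization.Away g) x ∈ Q.asIdeal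
    rw [e.symm_apply_apply]
  obtain ⟨h1, h2⟩ := (isRelGCI_iff _).1 hG Q'
  rw [← trd_comap_of_surjectiveOnStalks φ hφ Q', hQ', Nat.add_sub_add_right] at h2
  exact ⟨by omega, h2⟩

/-- Descent to a finitely generated subring. -/
theorem exists_descent {F : Fin c → MvPolynomial (Fin n) R} (hF : Synt.IsRelGCI R n c F) :
    ∃ (R₀ : Subalgebra ℤ R) (F₀ : Fin c → MvPolynomial (Fin n) R₀), Algebra.FiniteType ℤ R₀ ∧
      (∀ i, MvPolynomial.map (algebraMap R₀ R) (F₀ i) = F i) ∧ Synt.IsRelGCI R₀ n c F₀ := by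
  classical
  let s₀ : Finset R := Finset.univ.biUnion fun i => (F i).support.image fun m => (F i).coeff m
  let R₀ := Algebra.adjoin ℤ (s₀ : Set R)
  have hmem : ∀ (T : Subalgebra ℤ R) (P : MvPolynomial (Fin n) R), (∀ m ∈ P.support, P.coeff m ∈ T) →
      ∃ P₀ : MvPolynomial (Fin n) T, MvPolynomial.map (algebraMap T R) P₀ = P := fun T P hP => by
    refine RingHom.mem_range.1 ((MvPolynomial.mem_range_map_iff_coeffs_subset).2 ?_)
    intro a ha
    obtain ⟨m, hm, rfl⟩ := MvPolynomial.mem_coeffs_iff.1 ha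
    exact ⟨⟨_, hP m hm⟩, rfl⟩
  choose F₀ hF₀ using fun i => hmem R₀ (F i) fun m hm => Algebra.subset_adjoin
    (Finset.mem_biUnion.2 ⟨i, Finset.mem_univ _, Finset.mem_image.2 ⟨m, hm, rfl⟩⟩)
  let ι : R₀ →+* R := algebraMap R₀ R
  have hFι : F = fun i => MvPolynomial.map ι (F₀ i) := funext fun i => (hF₀ i).symm
  let H : Set (MvPolynomial (Fin n) R₀) := {h | Synt.IsRelGCI R₀ (n + 1) (c + 1) (awayRel F₀ h)}
  let S := Synt.RelGCIRing R n c F
  let S₀ := Synt.RelGCIRing R₀ n c F₀
  have hle : Ideal.span (Set.range F₀) ≤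
      RingHom.ker ((Ideal.Quotient.mk (Ideal.span (Set.range F))).comp (MvPolynomial.map ι)) :=
    Ideal.span_le.2 (by
      rintro _ ⟨i, rfl⟩
      show Ideal.Quotient.mk _ (MvPolynomial.map ι (F₀ i)) = 0
      rw [hF₀]
      exact Ideal.Quotient.eq_zero_iff_mem.2 (Ideal.subset_span ⟨i, rfl⟩))
  let ψ : S₀ →+* S := Ideal.Quotient.lift _ _ hle
  have hspan : Ideal.span (Set.range F) ⊔ Ideal.span (MvPolynomial.map ι '' H) = ⊤ := by
    by_contra hne
    obtain ⟨M, hM, hle'⟩ := Ideal.exists_le_maximal _ hne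
    haveI := hM.isPrime
    have hFM : Ideal.span (Set.range F) ≤ M := le_sup_left.trans hle'
    haveI : (M.map (Ideal.Quotient.mk (Ideal.span (Set.range F)))).IsPrime :=
      Ideal.map_isPrime_of_surjective Ideal.Quotient.mk_surjective (by rwa [Ideal.mk_ker])
    let Q : PrimeSpectrum S := ⟨M.map (Ideal.Quotient.mk (Ideal.span (Set.range F))), inferInstance⟩
    let q₀ : PrimeSpectrum S₀ := PrimeSpectrum.comap ψ Q
    let p := Q.asIdeal.comap (algebraMap R S)
    obtain ⟨Qf, -⟩ := exists_prime_over (A := R) (p := p) (p.Fiber S) Q rfl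
    haveI hne' : Nontrivial (p.Fiber S) := Qf.nontrivial
    obtain ⟨hcn, hdim⟩ := hF ⟨p, inferInstance⟩ hne'
    have hd0 : ringKrullDim ((p.comap ι).Fiber S₀) ≤ ((n - c : ℕ) : WithBot ℕ∞) := by
      obtain ⟨e⟩ := exists_fibEquiv F p
      obtain ⟨e₀⟩ := exists_fibEquiv F₀ (p.comap ι)
      have h1 := fibre_map_dim ι F₀ p
      rw [← hFι] at h1
      exact le_of_eq ((ringKrullDim_eq_of_ringEquiv e₀.toRingEquiv).trans (h1.symm.trans
        ((ringKrullDim_eq_of_ringEquiv e.toRingEquiv).symm.trans hdim)))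
    have hp₀ : q₀.asIdeal.comap (algebraMap R₀ S₀) = p.comap ι := by
      ext r
      show ψ (algebraMap R₀ S₀ r) ∈ Q.asIdeal ↔ algebraMap R S (ι r) ∈ Q.asIdeal
      rw [show ψ (algebraMap R₀ S₀ r) = algebraMap R S (ι r) from by
        show Ideal.Quotient.mk _ (MvPolynomial.map ι (C r)) = _
        rw [MvPolynomial.map_C]; rfl]
    have hgood : q₀ ∈ goodLocus (R := R₀) S₀ (n - c) := fun q' _ hq' =>
      (fibre_dim_le_iff _ _).1 hd0 q' (hq'.trans hp₀)
    obtain ⟨_, ⟨_, ⟨g, rfl⟩, rfl⟩, hg, hgsub⟩ := PrimeSpectrum.isBasis_basic_opens.exists_subset_of_mem_open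
      hgood (isOpen_trd_le (A := R₀) (R := S₀) (n - c))
    obtain ⟨h, rfl⟩ := Ideal.Quotient.mk_surjective g
    have hH : h ∈ H := isRelGCI_away h fun q hq => ⟨hcn, hgsub (a := q) hq q le_rfl rfl⟩
    apply hg
    show ψ (Ideal.Quotient.mk _ h) ∈ Q.asIdeal
    exact Ideal.mem_map_of_mem _ (hle' (Ideal.mem_sup_right (Ideal.subset_span ⟨h, hH, rfl⟩)))
  obtain ⟨x, hx, y, hy, hxy⟩ := Submodule.mem_sup.1 (hspan.ge (Submodule.mem_top : (1 : MvPolynomial (Fin n) R) ∈ ⊤))
  obtain ⟨b, hb⟩ := Ideal.mem_span_range_iff_exists_fun.1 hx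
  obtain ⟨k, a, z, hz⟩ := Submodule.mem_span_set'.1 hy
  choose h₀ hh₀ hzh using fun i => (z i).2
  let s₁ : Finset R := s₀ ∪ (Finset.univ.biUnion fun i => (b i).support.image fun m => (b i).coeff m) ∪
    (Finset.univ.biUnion fun i => (a i).support.image fun m => (a i).coeff m)
  let R₁ := Algebra.adjoin ℤ (s₁ : Set R)
  have hR : R₀ ≤ R₁ := Algebra.adjoin_mono fun w hw => Finset.mem_union_left _ (Finset.mem_union_left _ hw)
  let j : R₀ →+* R₁ := (Subalgebra.inclusion hR).toRingHom
  let κ : R₁ →+* R := algebraMap R₁ R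
  have hκj : κ.comp j = ι := RingHom.ext fun r => rfl
  choose b₁ hb₁ using fun i => hmem R₁ (b i) fun m hm => Algebra.subset_adjoin
    (Finset.mem_union_left _ (Finset.mem_union_right _ (Finset.mem_biUnion.2 ⟨i, Finset.mem_univ _, Finset.mem_image.2 ⟨m, hm, rfl⟩⟩)))
  choose a₁ ha₁ using fun i => hmem R₁ (a i) fun m hm => Algebra.subset_adjoin
    (Finset.mem_union_right _ (Finset.mem_biUnion.2 ⟨i, Finset.mem_univ _, Finset.mem_image.2 ⟨m, hm, rfl⟩⟩))
  let F₁ : Fin c → MvPolynomial (Fin n) R₁ := fun i => MvPolynomial.map j (F₀ i)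
  have hF₁ : ∀ i, MvPolynomial.map κ (F₁ i) = F i := fun i => by
    show MvPolynomial.map κ (MvPolynomial.map j (F₀ i)) = _
    rw [MvPolynomial.map_map, hκj]
    exact hF₀ i
  have hone : ∑ i, b₁ i * F₁ i + ∑ i, a₁ i * MvPolynomial.map j (h₀ i) = 1 := by
    refine MvPolynomial.map_injective κ Subtype.val_injective ?_
    simp only [map_add, map_sum, map_mul, map_one, hF₁, MvPolynomial.map_map, hκj, show ∀ i, MvPolynomial.map κ (b₁ i) = b i from hb₁,
      show ∀ i, MvPolynomial.map κ (a₁ i) = a i from ha₁]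
    rw [hb, ← hxy, ← hz]
    simp [hzh]
  refine ⟨R₁, F₁, (Subalgebra.fg_iff_finiteType R₁).1 (Subalgebra.fg_adjoin_finset s₁), hF₁, (isRelGCI_iff F₁).2 fun q => ?_⟩
  obtain ⟨i, hi⟩ : ∃ i, Ideal.Quotient.mk (Ideal.span (Set.range F₁)) (MvPolynomial.map j (h₀ i)) ∉ q.asIdeal := by
    by_contra hall
    push Not at hall
    refine q.isPrime.ne_top ((Ideal.eq_top_iff_one _).2 ?_)
    rw [← map_one (Ideal.Quotient.mk (Ideal.span (Set.range F₁))), ← hone, map_add, map_sum, map_sum]
    refine add_mem (sum_mem fun i _ => ?_) (sum_mem fun i _ => ?_)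
    · rw [map_mul, Ideal.Quotient.eq_zero_iff_mem.2 (Ideal.subset_span ⟨i, rfl⟩ : F₁ i ∈ Ideal.span (Set.range F₁)), mul_zero]
      exact zero_mem _
    · rw [map_mul]
      exact Ideal.mul_mem_left _ _ (hall i)
  refine le_of_isRelGCI_away ?_ q hi
  have := isRelGCI_map j (hh₀ i : Synt.IsRelGCI R₀ (n + 1) (c + 1) (awayRel F₀ (h₀ i)))
  rwa [map_awayRel] at this

end Groth.Agent.Synt15
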