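import Groth.Agent.Synt15.Syntomic
import Groth.Agent.CommAlg6.FibreLocal
import Groth.Agent.CAlgH.CIOpenScheme
import Groth.Agent.CAlgH.CIMorphism
import Groth.Prelude.Def_CInt

/-! Syntomic algebras and morphisms via complete intersection fibre local rings. -/

set_option autoImplicit false
set_option linter.style.haveILetI false

universe u

open TensorProduct CategoryTheory CategoryTheory.Limits AlgebraicGeometry IsLocalRing

namespace Groth.Agent.Synt15

attribute [local instance] CommAlg6.isLocalRing_fibLocRing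

section Algebra

variable {R S : Type u} [CommRing R] [CommRing S] [Algebra R S]

theorem essFiniteType_atPrime {k T : Type u} [CommRing k] [CommRing T] [Algebra k T] [Algebra.FiniteType k T]
    (Q : Ideal T) [Q.IsPrime] : Algebra.EssFiniteType k (Localization.AtPrime Q) :=
  haveI : Algebra.EssFiniteType T (Localization.AtPrime Q) := Algebra.EssFiniteType.of_isLocalization _ Q.primeCompl
  Algebra.EssFiniteType.comp k T (Localization.AtPrime Q)

/-- Complete intersection fibre rings, at a point of the fibre. -/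
theorem isCIOver_fibre_iff [Algebra.FiniteType R S] (p : Ideal R) [p.IsPrime] (Q : Ideal (p.Fiber S)) [Q.IsPrime] :
    Synt.IsCIOver p.ResidueField (Localization.AtPrime Q) ↔
      Pi1.IsCompleteIntersection (EGA4.FibLocRing R S
        (Q.comap (Algebra.TensorProduct.includeRight : S →ₐ[R] p.Fiber S))) := by
  haveI : Algebra.EssFiniteType p.ResidueField (Localization.AtPrime Q) := essFiniteType_atPrime Q
  obtain ⟨-, ⟨e⟩⟩ := CommAlg6.fiber_localization_equiv p Q
  haveI : IsNoetherianRing (Localization.AtPrime Q) :=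
    Algebra.EssFiniteType.isNoetherianRing p.ResidueField (Localization.AtPrime Q)
  haveI := isNoetherianRing_of_ringEquiv _ e
  rw [isCIOver_iff, CAlgH.AvramovCI.isCompleteIntersection_iff_of_equiv e]

theorem ci_fibre_of_isSyntomic (h : Synt.IsSyntomic R S) (q : Ideal S) [q.IsPrime] :
    Pi1.IsCompleteIntersection (EGA4.FibLocRing R S q) := by
  haveI := h.2.1
  let p := q.comap (algebraMap R S)
  obtain ⟨Q, _, hQ⟩ := exists_fibre_point (R := R) q p rfl
  have h1 := (isCIOver_fibre_iff p Q).1 (isCIOver_of_isLCIOver (h.2.2 ⟨p, inferInstance⟩) Q)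
  have hQ' : Q.comap (Algebra.TensorProduct.includeRight : S →ₐ[R] p.Fiber S) = q := hQ
  obtain ⟨e⟩ := CommAlg6.fibLocRing_congr (A := R) _ q hQ'
  obtain ⟨-, ⟨e'⟩⟩ := CommAlg6.fiber_localization_equiv p Q
  haveI : IsNoetherianRing (Localization.AtPrime Q) :=
    haveI : Algebra.EssFiniteType p.ResidueField (Localization.AtPrime Q) := essFiniteType_atPrime Q
    Algebra.EssFiniteType.isNoetherianRing p.ResidueField (Localization.AtPrime Q)
  haveI := isNoetherianRing_of_ringEquiv _ e'
  haveI := isNoetherianRing_of_ringEquiv _ e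
  exact (CAlgH.AvramovCI.isCompleteIntersection_iff_of_equiv e).1 h1

/-- A flat algebra of finite presentation with complete intersection fibre local rings is syntomic. -/
theorem isSyntomic_of_ci (hflat : Module.Flat R S) (hfp : Algebra.FinitePresentation R S)
    (h : ∀ (q : Ideal S) [q.IsPrime], Pi1.IsCompleteIntersection (EGA4.FibLocRing R S q)) :
    Synt.IsSyntomic R S :=
  ⟨hflat, hfp, fun p => isLCIOver_iff_forall.2 fun Q _ => (isCIOver_fibre_iff p.asIdeal Q).2 (h _)⟩

end Algebra

section Scheme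

variable {X S : Scheme.{u}} (f : X ⟶ S)

/-- A complete intersection morphism is syntomic on every pair of affine opens. -/
theorem isSyntomic_appLE (hf : CInt.IsCIMorphism f) (U : X.affineOpens) (V : S.affineOpens)
    (e : U.1 ≤ f ⁻¹ᵁ V.1) :
    letI := (f.appLE V.1 U.1 e).hom.toAlgebra
    Synt.IsSyntomic Γ(S, V.1) Γ(X, U.1) := by
  obtain ⟨_, _, hci⟩ := hf
  letI := (f.appLE V.1 U.1 e).hom.toAlgebra
  refine isSyntomic_of_ci (HasRingHomProperty.appLE @Flat f inferInstance V U e)
    (HasRingHomProperty.appLE @LocallyOfFinitePresentation f inferInstance V U e) fun q _ => ?_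
  let y : X := U.2.fromSpec ⟨q, inferInstance⟩
  have hy : y ∈ U.1 := U.2.range_fromSpec.le ⟨_, rfl⟩
  have hq : U.2.primeIdealOf ⟨y, hy⟩ = (⟨q, inferInstance⟩ : PrimeSpectrum Γ(X, U.1)) :=
    U.2.fromSpec.isOpenEmbedding.injective (U.2.fromSpec_primeIdealOf ⟨y, hy⟩)
  have h1 := (CAlgH.CIOpenScheme.ci_fiberStalk_iff f V.2 U.2 e hy).1 (hci y)
  have h2 : (U.2.primeIdealOf ⟨y, hy⟩).asIdeal = q := congrArg PrimeSpectrum.asIdeal hq
  obtain ⟨ε⟩ := CommAlg6.fibLocRing_congr (A := Γ(S, V.1)) _ q h2
  obtain ⟨ε'⟩ := CAlgH.CIOpenScheme.fiberStalk_equiv_fibLocRing f V.2 U.2 e hy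
  haveI := CAlgH.CIScheme.isNoetherianRing_fiberStalk f y
  haveI := isNoetherianRing_of_ringEquiv _ ε'
  haveI := isNoetherianRing_of_ringEquiv _ ε
  exact (CAlgH.AvramovCI.isCompleteIntersection_iff_of_equiv ε).1 h1

/-- Syntomic morphisms are the same as complete intersection morphisms. -/
theorem isSyntomicMor_iff : Synt.IsSyntomicMor f ↔ CInt.IsCIMorphism f := by
  constructor
  · intro hf
    haveI hflat : Flat f := by
      refine (HasRingHomProperty.iff_exists_appLE
        (RingHom.Flat.stableUnderComposition.stableUnderCompositionWithLocalizationAway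
          RingHom.Flat.holdsForLocalizationAway).1).2 fun x => ?_
      obtain ⟨U, V, e, hx, h⟩ := hf x
      exact ⟨V, U, hx, e, h.1⟩
    haveI hlfp : LocallyOfFinitePresentation f := by
      refine (HasRingHomProperty.iff_exists_appLE
        (RingHom.finitePresentation_stableUnderComposition.stableUnderCompositionWithLocalizationAway
          RingHom.finitePresentation_holdsForLocalizationAway).1).2 fun x => ?_
      obtain ⟨U, V, e, hx, h⟩ := hf x
      exact ⟨V, U, hx, e, h.2.1⟩
    refine ⟨hflat, hlfp, fun x => ?_⟩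
    obtain ⟨U, V, e, hx, h⟩ := hf x
    letI := (f.appLE V.1 U.1 e).hom.toAlgebra
    exact (CAlgH.CIOpenScheme.ci_fiberStalk_iff f V.2 U.2 e hx).2 (ci_fibre_of_isSyntomic h _)
  · intro hf x
    obtain ⟨_, ⟨V, hV, rfl⟩, hxV, -⟩ :=
      S.isBasis_affineOpens.exists_subset_of_mem_open (Set.mem_univ (f x)) isOpen_univ
    obtain ⟨_, ⟨U, hU, rfl⟩, hxU, hle⟩ :=
      X.isBasis_affineOpens.exists_subset_of_mem_open hxV (f ⁻¹ᵁ V).2
    exact ⟨⟨U, hU⟩, ⟨V, hV⟩, hle, hxU, isSyntomic_appLE f hf ⟨U, hU⟩ ⟨V, hV⟩ hle⟩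

/-- Over a field the fibre local rings are the local rings. -/
theorem ci_fiberStalk_iff_field {k : Type u} [Field k] {Z : Scheme.{u}} (g : Z ⟶ Spec (CommRingCat.of k))
    [LocallyOfFiniteType g] (z : Z) :
    Pi1.IsCompleteIntersection (CInt.fiberStalk g z) ↔ Pi1.IsCompleteIntersection (Z.presheaf.stalk z) := by
  let pt := g z
  let q := PrimeSpectrum.asIdeal (R := k) pt
  let e : (Spec (CommRingCat.of k)).presheaf.stalk pt ≃+* Localization.AtPrime q :=
    (IsLocalization.algEquiv q.primeCompl ((Spec.structureSheaf k).presheaf.stalk pt) _).toRingEquiv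
  haveI hn : IsNoetherianRing ((Spec (CommRingCat.of k)).presheaf.stalk pt) :=
    isNoetherianRing_of_ringEquiv _ e.symm
  haveI : IsRegularLocalRing ((Spec (CommRingCat.of k)).presheaf.stalk pt) :=
    IsRegularLocalRing.of_ringEquiv (R := Localization.AtPrime q) e.symm
  haveI : IsNoetherianRing ((Spec (CommRingCat.of k)).presheaf.stalk (g z)) := hn
  haveI : Flat g := inferInstance
  rw [CAlgH.CIScheme.isCompleteIntersection_stalk_iff g z]
  exact ⟨fun h => ⟨CAlgH.CIHom.isCompleteIntersection_of_regularLocal, h⟩, fun h => h.2⟩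

end Scheme

end Groth.Agent.Synt15
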