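import Groth.Agent.Synt15.Bridge

/-! Schemes locally of finite type over a field: complete intersection local rings. -/

set_option autoImplicit false
set_option linter.style.haveILetI false

universe u

open CategoryTheory CategoryTheory.Limits AlgebraicGeometry IsLocalRing

namespace Groth.Agent.Synt15

variable {k : Type u} [Field k] {X : Scheme.{u}} (p : X ⟶ Spec (CommRingCat.of k))

/-- The algebra map to sections over an open. -/
noncomputable abbrev secMap (U : X.Opens) : k →+* Γ(X, U) :=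
  ((Scheme.ΓSpecIso (CommRingCat.of k)).inv ≫ p.appLE ⊤ U le_top).hom

theorem secMap_germ (U : X.Opens) (x : X) (hx : x ∈ U) :
    (Scheme.ΓSpecIso (CommRingCat.of k)).inv ≫ p.appLE ⊤ ⊤ le_top ≫ X.presheaf.germ ⊤ x trivial =
      ((Scheme.ΓSpecIso (CommRingCat.of k)).inv ≫ p.appLE ⊤ U le_top) ≫ X.presheaf.germ U x hx := by
  rw [Category.assoc]
  congr 1
  rw [← p.appLE_map (V := ⊤) (V' := U) le_top (homOfLE le_top).op, Category.assoc,
    TopCat.Presheaf.germ_res]

variable [LocallyOfFiniteType p]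

theorem finiteType_secMap {U : X.Opens} (hU : IsAffineOpen U) :
    letI := (secMap p U).toAlgebra
    Algebra.FiniteType k Γ(X, U) := by
  have h := HasRingHomProperty.appLE @LocallyOfFiniteType p inferInstance ⟨⊤, isAffineOpen_top _⟩ ⟨U, hU⟩ le_top
  exact (RingHom.finiteType_respectsIso.2 (p.appLE ⊤ U le_top).hom
    (Scheme.ΓSpecIso (CommRingCat.of k)).symm.commRingCatIsoToRingEquiv h : RingHom.FiniteType _)

/-- The stalk at a point of an affine open, as an algebra over the field. -/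
theorem stalk_algebra_data {U : X.Opens} (hU : IsAffineOpen U) {x : X} (hx : x ∈ U) :
    letI := (secMap p U).toAlgebra
    letI := ((Scheme.ΓSpecIso (CommRingCat.of k)).inv ≫ p.appLE ⊤ ⊤ le_top ≫
      X.presheaf.germ ⊤ x trivial).hom.toAlgebra
    Algebra.EssFiniteType k (X.presheaf.stalk x) ∧
      Nonempty (X.presheaf.stalk x ≃ₐ[k] Localization.AtPrime (hU.primeIdealOf ⟨x, hx⟩).asIdeal) := by
  letI := (secMap p U).toAlgebra
  letI : Algebra k (X.presheaf.stalk x) := ((Scheme.ΓSpecIso (CommRingCat.of k)).inv ≫ p.appLE ⊤ ⊤ le_top ≫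
    X.presheaf.germ ⊤ x trivial).hom.toAlgebra
  letI := X.presheaf.algebra_section_stalk ⟨x, hx⟩
  have := hU.isLocalization_stalk ⟨x, hx⟩
  haveI : IsScalarTower k Γ(X, U) (X.presheaf.stalk x) :=
    IsScalarTower.of_algebraMap_eq' (congrArg CommRingCat.Hom.hom (secMap_germ p U x hx))
  let q := (hU.primeIdealOf ⟨x, hx⟩).asIdeal
  let E : X.presheaf.stalk x ≃ₐ[k] Localization.AtPrime q :=
    (IsLocalization.algEquiv q.primeCompl (X.presheaf.stalk x) (Localization.AtPrime q)).restrictScalars k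
  haveI := finiteType_secMap p hU
  haveI : Algebra.EssFiniteType k (Localization.AtPrime q) := essFiniteType_atPrime q
  exact ⟨Algebra.EssFiniteType.of_surjective E.symm.toAlgHom E.symm.surjective, ⟨E⟩⟩

theorem isCIOver_stalk_iff (x : X) :
    letI := ((Scheme.ΓSpecIso (CommRingCat.of k)).inv ≫ p.appLE ⊤ ⊤ le_top ≫
      X.presheaf.germ ⊤ x trivial).hom.toAlgebra
    Synt.IsCIOver k (X.presheaf.stalk x) ↔ Pi1.IsCompleteIntersection (X.presheaf.stalk x) := by
  obtain ⟨_, ⟨U, hU, rfl⟩, hx, -⟩ :=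
    X.isBasis_affineOpens.exists_subset_of_mem_open (Set.mem_univ x) isOpen_univ
  letI : Algebra k (X.presheaf.stalk x) := ((Scheme.ΓSpecIso (CommRingCat.of k)).inv ≫ p.appLE ⊤ ⊤ le_top ≫
    X.presheaf.germ ⊤ x trivial).hom.toAlgebra
  haveI := (stalk_algebra_data p hU hx).1
  exact isCIOver_iff _

theorem isLCIOver_sections_iff {U : X.Opens} (hU : IsAffineOpen U) :
    letI := (secMap p U).toAlgebra
    Synt.IsLCIOver k Γ(X, U) ↔ ∀ x ∈ U, Pi1.IsCompleteIntersection (X.presheaf.stalk x) := by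
  letI := (secMap p U).toAlgebra
  haveI := finiteType_secMap p hU
  rw [isLCIOver_iff_forall]
  constructor
  · intro h x hx
    obtain ⟨-, ⟨E⟩⟩ := stalk_algebra_data p hU hx
    letI : Algebra k (X.presheaf.stalk x) := ((Scheme.ΓSpecIso (CommRingCat.of k)).inv ≫ p.appLE ⊤ ⊤ le_top ≫
      X.presheaf.germ ⊤ x trivial).hom.toAlgebra
    exact (isCIOver_stalk_iff p x).1 (isCIOver_congr E.symm (h _))
  · intro h q _
    let x : X := hU.fromSpec ⟨q, inferInstance⟩
    have hx : x ∈ U := hU.range_fromSpec.le ⟨_, rfl⟩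
    have hq : hU.primeIdealOf ⟨x, hx⟩ = (⟨q, inferInstance⟩ : PrimeSpectrum Γ(X, U)) :=
      hU.fromSpec.isOpenEmbedding.injective (hU.fromSpec_primeIdealOf ⟨x, hx⟩)
    obtain ⟨-, ⟨E⟩⟩ := stalk_algebra_data p hU hx
    letI : Algebra k (X.presheaf.stalk x) := ((Scheme.ΓSpecIso (CommRingCat.of k)).inv ≫ p.appLE ⊤ ⊤ le_top ≫
      X.presheaf.germ ⊤ x trivial).hom.toAlgebra
    have h1 := isCIOver_congr E ((isCIOver_stalk_iff p x).2 (h x hx))
    have h2 : ∀ (q' : PrimeSpectrum Γ(X, U)), q' = ⟨q, inferInstance⟩ →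
        Synt.IsCIOver k (Localization.AtPrime q'.asIdeal) → Synt.IsCIOver k (Localization.AtPrime q) := by
      rintro _ rfl h; exact h
    exact h2 _ hq h1

/-- Syntomic over a field, stalkwise. -/
theorem isSyntomicMor_field_iff :
    Synt.IsSyntomicMor p ↔ ∀ x : X, Pi1.IsCompleteIntersection (X.presheaf.stalk x) := by
  rw [isSyntomicMor_iff]
  constructor
  · exact fun h x => (ci_fiberStalk_iff_field p x).1 (h.2.2 x)
  · intro h
    haveI : LocallyOfFinitePresentation p := inferInstance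
    exact ⟨inferInstance, inferInstance, fun x => (ci_fiberStalk_iff_field p x).2 (h x)⟩

/-- Basic opens of an affine open, as algebras over the field. -/
theorem exists_basicOpen_equiv {U : X.Opens} (hU : IsAffineOpen U) (g : Γ(X, U)) :
    letI := (secMap p U).toAlgebra
    letI := (secMap p (X.basicOpen g)).toAlgebra
    Nonempty (Localization.Away g ≃ₐ[k] Γ(X, X.basicOpen g)) := by
  letI := (secMap p U).toAlgebra
  letI := (secMap p (X.basicOpen g)).toAlgebra
  letI : Algebra Γ(X, U) Γ(X, X.basicOpen g) := (X.presheaf.map (homOfLE (X.basicOpen_le g)).op).hom.toAlgebra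
  haveI : IsLocalization.Away g Γ(X, X.basicOpen g) := hU.isLocalization_basicOpen g
  haveI : IsScalarTower k Γ(X, U) Γ(X, X.basicOpen g) := IsScalarTower.of_algebraMap_eq' (by
    refine congrArg CommRingCat.Hom.hom (?_ : _ = ((Scheme.ΓSpecIso (CommRingCat.of k)).inv ≫ p.appLE ⊤ U le_top) ≫
      X.presheaf.map (homOfLE (X.basicOpen_le g)).op)
    rw [Category.assoc, Scheme.Hom.appLE_map])
  exact ⟨(IsLocalization.algEquiv (Submonoid.powers g) (Localization.Away g) _).restrictScalars k⟩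

set_option backward.isDefEq.respectTransparency false in
theorem mem_basicOpen_iff {Z : Scheme.{u}} {U : Z.Opens} (hU : IsAffineOpen U) (g : Γ(Z, U)) {y : Z} (hy : y ∈ U) :
    y ∈ Z.basicOpen g ↔ g ∉ (hU.primeIdealOf ⟨y, hy⟩).asIdeal := by
  rw [← PrimeSpectrum.mem_basicOpen, IsAffineOpen.primeIdealOf, ← hU.fromSpec_preimage_basicOpen,
    Scheme.Hom.mem_preimage, ← Scheme.Hom.comp_apply, IsAffineOpen.isoSpec_hom,
    IsAffineOpen.toSpecΓ_fromSpec]
  rfl

end Groth.Agent.Synt15
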