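import Groth.Agent.Synt15.FieldCI
import Groth.Agent.CAlgH.RegularSmooth
import Groth.Agent.EGA41Lib.CMParameters

/-! Local complete intersections over a field. -/

set_option autoImplicit false
set_option linter.unusedSectionVars false
set_option linter.style.haveILetI false

universe u

open MvPolynomial IsLocalRing RingTheory.Sequence

namespace Groth.Agent.Synt15

variable {k : Type u} [Field k]

local notation "CMLocal" => _root_.LocCoh.IsCohenMacaulayLocalRing
local notation "CM" => _root_.LocCoh.IsCohenMacaulayModule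

/-- A complete intersection local ring is Cohen–Macaulay. -/
theorem cmLocal_of_isCIOver {A : Type u} [CommRing A] [IsLocalRing A] [Algebra k A] (h : Synt.IsCIOver k A) :
    CMLocal A := by
  obtain ⟨R, _, _, _, -, rs, hm, hrs, ⟨e⟩⟩ := h
  have := CAlgH3.isCohenMacaulayLocalRing_of_regular R
  have : Nontrivial (R ⧸ Ideal.ofList rs) := e.toRingEquiv.symm.toEquiv.nontrivial
  have : IsLocalRing (R ⧸ Ideal.ofList rs) := .of_surjective' _ Ideal.Quotient.mk_surjective
  have hCM : CM R R := (CAlgH3.isCohenMacaulayLocalRing_iff R).1 inferInstance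
  have h1 := ((EGA41Lib.cm_regular_sequence rs R hCM hm).1 hrs.toIsWeaklyRegular).2
  rw [show (Ideal.ofList rs • (⊤ : Submodule R R)) = Ideal.ofList rs by rw [smul_eq_mul, Ideal.mul_top],
    ← CAlgH3.isCohenMacaulayLocalRing_quotient_iff] at h1
  exact CAlgH3.isCohenMacaulayLocalRing_of_ringEquiv e.symm.toRingEquiv

/-- The local ring at a prime lying in a principal open set. -/
theorem exists_atPrimeEquiv {S : Type u} [CommRing S] [Algebra k S] {g : S} (q : Ideal S) [hq : q.IsPrime]
    (hg : g ∉ q) : ∃ (Q : Ideal (Localization.Away g)) (_ : Q.IsPrime),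
      Q.comap (algebraMap S (Localization.Away g)) = q ∧
        Nonempty (Localization.AtPrime Q ≃ₐ[k] Localization.AtPrime q) := by
  have hd : Disjoint (Submonoid.powers g : Set S) q := by
    rw [Set.disjoint_left]
    rintro _ ⟨m, rfl⟩ hm
    exact hg (hq.mem_of_pow_mem m hm)
  let Q := q.map (algebraMap S (Localization.Away g))
  have hQ : Q.IsPrime := IsLocalization.isPrime_of_isPrime_disjoint _ _ q hq hd
  have hc : Q.comap (algebraMap S (Localization.Away g)) = q :=
    IsLocalization.under_map_of_isPrime_disjoint _ _ hq hd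
  refine ⟨Q, hQ, hc, ?_⟩
  haveI := IsLocalization.isLocalization_isLocalization_atPrime_isLocalization (Submonoid.powers g)
    (Localization.AtPrime Q) Q
  haveI : IsLocalization.AtPrime (Localization.AtPrime Q) q := by
    unfold IsLocalization.AtPrime; simp only [← hc]; assumption
  exact ⟨(IsLocalization.algEquiv q.primeCompl (Localization.AtPrime Q) (Localization.AtPrime q)).restrictScalars k⟩

theorem isCIOver_atPrime_of_away {S : Type u} [CommRing S] [Algebra k S] {g : S} (q : Ideal S) [q.IsPrime]
    (hg : g ∉ q) (h : ∀ (Q : Ideal (Localization.Away g)) [Q.IsPrime], Synt.IsCIOver k (Localization.AtPrime Q)) :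
    Synt.IsCIOver k (Localization.AtPrime q) := by
  obtain ⟨Q, _, -, ⟨e⟩⟩ := exists_atPrimeEquiv (k := k) q hg
  exact isCIOver_congr e (h Q)

theorem isCIOver_of_isLCIOver {S : Type u} [CommRing S] [Algebra k S] (h : Synt.IsLCIOver k S) (q : Ideal S)
    [q.IsPrime] : Synt.IsCIOver k (Localization.AtPrime q) := by
  obtain ⟨g, hg, hG⟩ := h.2 ⟨q, inferInstance⟩
  exact isCIOver_atPrime_of_away q hg fun Q => isCIOver_of_isGlobalCI hG Q

theorem isLCIOver_of_forall_maximal {S : Type u} [CommRing S] [Algebra k S] [Algebra.FiniteType k S]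
    (h : ∀ m : MaximalSpectrum S, Synt.IsCIOver k (Localization.AtPrime m.asIdeal)) : Synt.IsLCIOver k S := by
  refine ⟨inferInstance, fun p => ?_⟩
  obtain ⟨m, hm, hpm⟩ := p.asIdeal.exists_le_maximal p.2.ne_top
  obtain ⟨g, hg, hG⟩ := exists_isGlobalCI_of_isCIOver m (h ⟨m, hm⟩)
  exact ⟨g, fun hgp => hg (hpm hgp), hG⟩

theorem isLCIOver_iff_forall {S : Type u} [CommRing S] [Algebra k S] [Algebra.FiniteType k S] :
    Synt.IsLCIOver k S ↔ ∀ (q : Ideal S) [q.IsPrime], Synt.IsCIOver k (Localization.AtPrime q) :=
  ⟨fun h q _ => isCIOver_of_isLCIOver h q, fun h => isLCIOver_of_forall_maximal fun m => h m.asIdeal⟩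

theorem isLCIOver_of_isGlobalCI {S : Type u} [CommRing S] [Algebra k S] [Algebra.FiniteType k S]
    (h : Synt.IsGlobalCI k S) : Synt.IsLCIOver k S :=
  isLCIOver_iff_forall.2 fun q _ => isCIOver_of_isGlobalCI h q

theorem isLCIOver_congr {S T : Type u} [CommRing S] [Algebra k S] [CommRing T] [Algebra k T] (e : S ≃ₐ[k] T)
    (h : Synt.IsLCIOver k S) : Synt.IsLCIOver k T := by
  obtain ⟨hf, hc⟩ := h
  refine ⟨Algebra.FiniteType.equiv hf e, fun p => ?_⟩
  obtain ⟨g, hg, hG⟩ := hc (p.comap e.toRingEquiv.toRingHom)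
  exact ⟨e g, hg, isGlobalCI_congr (IsLocalization.algEquivOfAlgEquiv (M := Submonoid.powers g)
    (T := Submonoid.powers (e g)) (Localization.Away g) (Localization.Away (e g)) e (Submonoid.map_powers _ g)) hG⟩

theorem isLCIOver_localizationAway {S : Type u} [CommRing S] [Algebra k S] (h : Synt.IsLCIOver k S) (g : S) :
    Synt.IsLCIOver k (Localization.Away g) := by
  haveI := h.1
  haveI : Algebra.FiniteType k (Localization.Away g) := Algebra.FiniteType.trans (S := S) inferInstance
    (IsLocalization.finiteType_of_monoid_fg (Submonoid.powers g) (Localization.Away g))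
  refine isLCIOver_iff_forall.2 fun Q hQ => ?_
  let q := Q.comap (algebraMap S (Localization.Away g))
  haveI := IsLocalization.isLocalization_isLocalization_atPrime_isLocalization (Submonoid.powers g)
    (Localization.AtPrime Q) Q
  exact isCIOver_congr ((IsLocalization.algEquiv q.primeCompl (Localization.AtPrime q)
    (Localization.AtPrime Q)).restrictScalars k) (isCIOver_of_isLCIOver h q)

theorem isLCIOver_of_smooth (S : Type u) [CommRing S] [Algebra k S] [Algebra.Smooth k S] : Synt.IsLCIOver k S := by
  haveI : IsRegularRing S := CAlgH.isRegularRing_of_smooth k S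
  refine isLCIOver_iff_forall.2 fun q _ => ?_
  haveI : IsRegularLocalRing (Localization.AtPrime q) := IsRegularRing.isRegularLocalRing_localization q
  exact isCIOver_of_regular _

/-- Codimension count for a point of a quotient of a polynomial ring. -/
theorem localMap_dims {n : ℕ} (I : Ideal (MvPolynomial (Fin n) k)) (q : Ideal (MvPolynomial (Fin n) k ⧸ I))
    [q.IsPrime] {c : ℕ} (hc : (c : ℕ∞) + q.height = (q.comap (Ideal.Quotient.mk I)).height) :
    ringKrullDim (Localization.AtPrime (q.comap (Ideal.Quotient.mk I))) =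
      ringKrullDim (Localization.AtPrime (q.comap (Ideal.Quotient.mk I)) ⧸
        I.map (algebraMap _ (Localization.AtPrime (q.comap (Ideal.Quotient.mk I))))) + (c : WithBot ℕ∞) := by
  obtain ⟨f, hf, hfk⟩ := exists_localMap (Ideal.Quotient.mkₐ k I) (Ideal.Quotient.mkₐ_surjective k I) q
  rw [show RingHom.ker (Ideal.Quotient.mkₐ k I).toRingHom = I from Ideal.Quotient.mkₐ_ker k I] at hfk
  rw [IsLocalization.AtPrime.ringKrullDim_eq_height (q.comap (Ideal.Quotient.mk I)), ← hc]
  have he : ringKrullDim (Localization.AtPrime (q.comap (Ideal.Quotient.mk I)) ⧸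
        I.map (algebraMap _ (Localization.AtPrime (q.comap (Ideal.Quotient.mk I))))) =
      ringKrullDim (Localization.AtPrime q) :=
    ringKrullDim_eq_of_ringEquiv ((Ideal.quotEquivOfEq hfk.symm).trans (RingHom.quotientKerEquivOfSurjective hf))
  rw [he, IsLocalization.AtPrime.ringKrullDim_eq_height q (Localization.AtPrime q), add_comm (c : ℕ∞)]
  rfl

end Groth.Agent.Synt15
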