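import Groth.Agent.Synt15.FieldLCI
import Groth.Agent.Disc12.RelCI
import Groth.Agent.CAlgH.CIOpen
import Groth.Agent.CAlgH.KoszulH1

/-! Relative global complete intersections: flatness and regularity of the presentation. -/

set_option autoImplicit false
set_option linter.unusedSectionVars false
set_option linter.style.haveILetI false

universe u

open MvPolynomial TensorProduct RingTheory.Sequence

namespace Groth.Agent.Synt15

/-- Over a field, the relations of a presentation of the expected dimension form a regular sequence. -/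
theorem isRegular_of_presentation {k : Type u} [Field k] {n c : ℕ} (hc : c ≤ n) (f : Fin c → MvPolynomial (Fin n) k)
    {A : Type u} [CommRing A] [Algebra k A] (π : MvPolynomial (Fin n) k →ₐ[k] A) (hπ : Function.Surjective π)
    (hker : RingHom.ker π.toRingHom = Ideal.span (Set.range f))
    (hd : ringKrullDim A ≤ ((n - c : ℕ) : WithBot ℕ∞)) (qA : Ideal A) [qA.IsPrime] :
    IsRegular (Localization.AtPrime (qA.comap π.toRingHom))
      ((List.ofFn f).map (algebraMap _ (Localization.AtPrime (qA.comap π.toRingHom)))) := by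
  haveI : IsNoetherianRing A := isNoetherianRing_of_surjective _ _ π.toRingHom hπ
  obtain ⟨g, hg, hgk⟩ := exists_localMap π hπ qA
  obtain ⟨h', d, hh', hdq, hhd⟩ := exists_height_dim (qA.comap π.toRingHom)
  obtain ⟨a, ha⟩ := ENat.ne_top_iff_exists.1 (Ideal.height_ne_top_of_isPrime (I := qA))
  let ψ : MvPolynomial (Fin n) k →+* A ⧸ qA := (Ideal.Quotient.mk qA).comp π.toRingHom
  have hψ : Function.Surjective ψ := Ideal.Quotient.mk_surjective.comp hπ
  have hψk : RingHom.ker ψ = qA.comap π.toRingHom := by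
    ext x; exact Ideal.Quotient.eq_zero_iff_mem
  have he : ringKrullDim (MvPolynomial (Fin n) k ⧸ qA.comap π.toRingHom) = ringKrullDim (A ⧸ qA) :=
    ringKrullDim_eq_of_ringEquiv ((Ideal.quotEquivOfEq hψk.symm).trans (RingHom.quotientKerEquivOfSurjective hψ))
  have h1 : (qA.height : WithBot ℕ∞) + ringKrullDim (A ⧸ qA) ≤ ((n - c : ℕ) : WithBot ℕ∞) :=
    (CAlgH3.height_add_ringKrullDim_quotient_le qA).trans hd
  rw [← ha, ← he, hdq] at h1
  haveI : IsRegularLocalRing (Localization.AtPrime (qA.comap π.toRingHom)) := isRegularLocalRing_atPrime _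
  have hl : Ideal.ofList ((List.ofFn f).map (algebraMap _ (Localization.AtPrime (qA.comap π.toRingHom)))) =
      RingHom.ker g.toRingHom := by
    rw [hgk, hker, ← Ideal.map_ofList, ofList_ofFn]
  have hd2 : ringKrullDim (Localization.AtPrime (qA.comap π.toRingHom) ⧸
      Ideal.ofList ((List.ofFn f).map (algebraMap _ (Localization.AtPrime (qA.comap π.toRingHom))))) =
      ringKrullDim (Localization.AtPrime qA) :=
    ringKrullDim_eq_of_ringEquiv ((Ideal.quotEquivOfEq hl).trans (RingHom.quotientKerEquivOfSurjective hg))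
  refine CAlgH.Avramov.isRegular_of_dim
    (fun x hx => IsLocalRing.le_maximalIdeal (RingHom.ker_ne_top g.toRingHom) (hl ▸ Ideal.subset_span hx)) ?_
  rw [hd2, IsLocalization.AtPrime.ringKrullDim_eq_height qA (Localization.AtPrime qA),
    IsLocalization.AtPrime.ringKrullDim_eq_height (qA.comap π.toRingHom)
      (Localization.AtPrime (qA.comap π.toRingHom)), hh', ← ha, List.length_map, List.length_ofFn]
  norm_cast at h1 ⊢
  have h2 : a + d ≤ n - c := by exact_mod_cast h1
  exact_mod_cast (by omega : a + c ≤ h')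

theorem isRegular_of_dim_le {k : Type u} [Field k] {n c : ℕ} (hc : c ≤ n) (f : Fin c → MvPolynomial (Fin n) k)
    (hd : ringKrullDim (Synt.RelGCIRing k n c f) ≤ ((n - c : ℕ) : WithBot ℕ∞))
    (q : Ideal (MvPolynomial (Fin n) k)) [q.IsPrime] (hq : Ideal.span (Set.range f) ≤ q) :
    IsRegular (Localization.AtPrime q) ((List.ofFn f).map (algebraMap _ (Localization.AtPrime q))) := by
  haveI : (q.map (Ideal.Quotient.mk (Ideal.span (Set.range f)))).IsPrime :=
    Ideal.map_isPrime_of_surjective Ideal.Quotient.mk_surjective (by rw [Ideal.mk_ker]; exact hq)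
  have hcomap : (q.map (Ideal.Quotient.mk (Ideal.span (Set.range f)))).comap
      (Ideal.Quotient.mkₐ k (Ideal.span (Set.range f))).toRingHom = q := by
    show Ideal.comap (Ideal.Quotient.mk _) _ = q
    rw [Ideal.comap_map_of_surjective _ Ideal.Quotient.mk_surjective, ← RingHom.ker_eq_comap_bot, Ideal.mk_ker,
      sup_eq_left.2 hq]
  have key : ∀ (Q : Ideal (MvPolynomial (Fin n) k)) (hQ : Q = q) [Q.IsPrime],
      IsRegular (Localization.AtPrime Q) ((List.ofFn f).map (algebraMap _ (Localization.AtPrime Q))) →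
      IsRegular (Localization.AtPrime q) ((List.ofFn f).map (algebraMap _ (Localization.AtPrime q))) := by
    intro Q hQ _ h; subst hQ; exact h
  exact key _ hcomap (isRegular_of_presentation hc f _ (Ideal.Quotient.mkₐ_surjective k _)
    (Ideal.Quotient.mkₐ_ker k _) hd _)

/-- Base change of `R[x]/(F)` to an algebra. -/
theorem exists_baseChangeEquiv {R K : Type u} [CommRing R] [CommRing K] [Algebra R K] {n c : ℕ}
    (F : Fin c → MvPolynomial (Fin n) R) :
    ∃ e : K ⊗[R] Synt.RelGCIRing R n c F ≃ₐ[K]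
      Synt.RelGCIRing K n c fun i => MvPolynomial.map (algebraMap R K) (F i),
      ∀ x : MvPolynomial (Fin n) R, e (1 ⊗ₜ Ideal.Quotient.mk _ x) =
        Ideal.Quotient.mk _ (MvPolynomial.map (algebraMap R K) x) := by
  let g : Synt.RelGCIRing R n c F →ₐ[R] Synt.RelGCIRing K n c fun i => MvPolynomial.map (algebraMap R K) (F i) :=
    Ideal.Quotient.liftₐ _ ((Ideal.Quotient.mkₐ R _).comp (MvPolynomial.mapAlgHom (Algebra.ofId R K))) fun a ha => by
      refine (Ideal.span_le.2 ?_ : Ideal.span (Set.range F) ≤ RingHom.ker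
        ((Ideal.Quotient.mkₐ R (Ideal.span (Set.range fun i => MvPolynomial.map (algebraMap R K) (F i)))).comp
          (MvPolynomial.mapAlgHom (Algebra.ofId R K))).toRingHom) ha
      rintro _ ⟨i, rfl⟩
      exact Ideal.Quotient.eq_zero_iff_mem.2 (Ideal.subset_span ⟨i, rfl⟩)
  let H₀ : MvPolynomial (Fin n) K →ₐ[K] K ⊗[R] Synt.RelGCIRing R n c F :=
    aeval fun i => (1 : K) ⊗ₜ[R] (Ideal.Quotient.mk (Ideal.span (Set.range F)) (X i) : Synt.RelGCIRing R n c F)
  have hH : ∀ x : MvPolynomial (Fin n) R,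
      H₀ (MvPolynomial.map (algebraMap R K) x) = 1 ⊗ₜ Ideal.Quotient.mk _ x := by
    intro x
    have : (H₀.restrictScalars R).comp (MvPolynomial.mapAlgHom (Algebra.ofId R K)) =
        (Algebra.TensorProduct.includeRight.comp (Ideal.Quotient.mkₐ R _)) :=
      MvPolynomial.algHom_ext fun i => by simp [H₀]
    exact AlgHom.congr_fun this x
  let H : (Synt.RelGCIRing K n c fun i => MvPolynomial.map (algebraMap R K) (F i)) →ₐ[K]
      K ⊗[R] Synt.RelGCIRing R n c F := Ideal.Quotient.liftₐ _ H₀ fun a ha => by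
    refine (Ideal.span_le.2 ?_ : Ideal.span (Set.range fun i => MvPolynomial.map (algebraMap R K) (F i)) ≤
      RingHom.ker H₀.toRingHom) ha
    rintro _ ⟨i, rfl⟩
    show H₀ (MvPolynomial.map (algebraMap R K) (F i)) = 0
    rw [hH, show Ideal.Quotient.mk (Ideal.span (Set.range F)) (F i) = 0 from
      Ideal.Quotient.eq_zero_iff_mem.2 (Ideal.subset_span ⟨i, rfl⟩), tmul_zero]
  refine ⟨AlgEquiv.ofAlgHom (Algebra.TensorProduct.lift (Algebra.ofId K _) g fun _ _ => Commute.all _ _) H ?_ ?_,
    fun x => ?_⟩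
  · refine Ideal.Quotient.algHom_ext K (MvPolynomial.algHom_ext fun i => ?_)
    show Algebra.TensorProduct.lift (Algebra.ofId K _) g (fun _ _ => Commute.all _ _) (H₀ (X i)) = Ideal.Quotient.mk _ (X i)
    simp [H₀, g]
  · refine Algebra.TensorProduct.ext' fun a s => ?_
    obtain ⟨x, rfl⟩ := Ideal.Quotient.mk_surjective s
    show H (Algebra.TensorProduct.lift (Algebra.ofId K _) g (fun _ _ => Commute.all _ _) (a ⊗ₜ Ideal.Quotient.mk _ x)) = _
    rw [Algebra.TensorProduct.lift_tmul, map_mul, Algebra.ofId_apply, AlgHom.commutes]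
    show _ * H₀ (MvPolynomial.map (algebraMap R K) x) = _
    rw [hH, Algebra.TensorProduct.algebraMap_apply, Algebra.TensorProduct.tmul_mul_tmul, mul_one, one_mul]
    rfl
  · show Algebra.TensorProduct.lift (Algebra.ofId K _) g (fun _ _ => Commute.all _ _) (1 ⊗ₜ Ideal.Quotient.mk _ x) = _
    rw [Algebra.TensorProduct.lift_tmul, map_one, one_mul]
    rfl

/-- Elements with only trivial relations give a basis of the conormal module. -/
theorem cotangent_basis_of_h1 {P : Type u} [CommRing P] {c : ℕ} (F : Fin c → P) (h : CAlgX.IsH1Regular F) :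
    LinearIndependent (P ⧸ Ideal.span (Set.range F))
        (fun i : Fin c => (Ideal.span (Set.range F)).toCotangent ⟨F i, Ideal.subset_span (Set.mem_range_self i)⟩) ∧
      Submodule.span (P ⧸ Ideal.span (Set.range F)) (Set.range
        (fun i : Fin c => (Ideal.span (Set.range F)).toCotangent ⟨F i, Ideal.subset_span (Set.mem_range_self i)⟩)) = ⊤ := by
  classical
  let I := Ideal.span (Set.range F)
  let v : Fin c → I := fun i => ⟨F i, Ideal.subset_span (Set.mem_range_self i)⟩
  have hsum : ∀ a : Fin c → P,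
      ∑ i, Ideal.Quotient.mk I (a i) • I.toCotangent (v i) = I.toCotangent (∑ i, a i • v i) := fun a => by
    rw [map_sum]
    refine Finset.sum_congr rfl fun i _ => ?_
    rw [map_smul]
    exact algebraMap_smul _ _ _
  refine ⟨Fintype.linearIndependent_iff.2 fun g hg i => ?_, eq_top_iff.2 fun z _ => ?_⟩
  · choose a ha using fun i => Ideal.Quotient.mk_surjective (g i)
    simp only [← ha] at hg ⊢
    rw [hsum, Ideal.toCotangent_eq_zero] at hg
    have hg' : ∑ i, a i * F i ∈ I ^ 2 := by
      simpa [v, Submodule.coe_sum, smul_eq_mul] using hg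
    have hI2 : I ^ 2 ≤ (Submodule.map (Fintype.linearCombination P F) (Submodule.pi Set.univ fun _ => I)) := by
      rw [pow_two, Ideal.mul_le]
      intro r hr s hs
      rw [Ideal.mem_span_range_iff_exists_fun] at hs
      obtain ⟨b, rfl⟩ := hs
      refine ⟨fun i => r * b i, fun i _ => I.mul_mem_right _ hr, ?_⟩
      simp [Fintype.linearCombination_apply, Finset.mul_sum, mul_assoc]
    obtain ⟨b, hb, hbs⟩ := hI2 hg'
    rw [Fintype.linearCombination_apply] at hbs
    simp only [smul_eq_mul] at hbs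
    have h0 : ∑ i, (a i - b i) * F i = 0 := by
      simp only [sub_mul, Finset.sum_sub_distrib, hbs, sub_self]
    have h1 := h (fun i => a i - b i) h0
    have h2 : (fun i => a i - b i) ∈ Submodule.pi Set.univ fun _ => I := by
      refine (Submodule.span_le.2 ?_) h1
      rintro _ ⟨k, l, rfl⟩ j -
      simp only [Pi.sub_apply, Pi.single_apply]
      refine I.sub_mem ?_ ?_
      · split_ifs
        · exact Ideal.subset_span ⟨l, rfl⟩
        · exact I.zero_mem
      · split_ifs
        · exact Ideal.subset_span ⟨k, rfl⟩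
        · exact I.zero_mem
    refine Ideal.Quotient.eq_zero_iff_mem.2 ?_
    have h3 := h2 i (Set.mem_univ _)
    have h4 := I.add_mem h3 (hb i (Set.mem_univ _))
    simpa using h4
  · obtain ⟨⟨z, hz⟩, rfl⟩ := I.toCotangent_surjective z
    obtain ⟨b, hb⟩ := Ideal.mem_span_range_iff_exists_fun.1 hz
    have : (⟨z, hz⟩ : I) = ∑ i, b i • v i := Subtype.ext (by simp [v, ← hb])
    rw [this, ← hsum]
    exact Submodule.sum_mem _ fun i _ => Submodule.smul_mem _ _ (Submodule.subset_span ⟨i, rfl⟩)

variable {R : Type u} [CommRing R] {n c : ℕ} (F : Fin c → MvPolynomial (Fin n) R)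

/-- The relations read in the fibre at `p`. -/
noncomputable abbrev fibRel (p : Ideal R) [p.IsPrime] : Fin c → MvPolynomial (Fin n) p.ResidueField :=
  fun i => Disc12.fibMap n p (F i)

/-- The fibre of `R[x]/(F)`. -/
theorem exists_fibEquiv (p : Ideal R) [p.IsPrime] :
    Nonempty (p.Fiber (Synt.RelGCIRing R n c F) ≃ₐ[p.ResidueField] Synt.RelGCIRing p.ResidueField n c (fibRel F p)) :=
  let ⟨e, _⟩ := exists_baseChangeEquiv F
  ⟨e⟩

variable {F}

theorem IsRelGCI.fibre (h : Synt.IsRelGCI R n c F) (p : Ideal R) [hp : p.IsPrime]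
    (hne : Nontrivial (Synt.RelGCIRing p.ResidueField n c (fibRel F p))) :
    c ≤ n ∧ ringKrullDim (Synt.RelGCIRing p.ResidueField n c (fibRel F p)) = ((n - c : ℕ) : WithBot ℕ∞) := by
  obtain ⟨e⟩ := exists_fibEquiv F p
  obtain ⟨h1, h2⟩ := h ⟨p, hp⟩ e.toRingEquiv.toEquiv.nontrivial
  exact ⟨h1, (ringKrullDim_eq_of_ringEquiv e.toRingEquiv).symm.trans h2⟩

theorem fibReg (h : Synt.IsRelGCI R n c F) (q : Ideal (MvPolynomial (Fin n) R)) [q.IsPrime]
    (hFq : Ideal.span (Set.range F) ≤ q) : FlatMorSlice.FibReg R q (List.ofFn F) := by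
  obtain ⟨qb, hqb, hcomap⟩ := Disc12.exists_prime_over_mvPolynomial q
  have hpres := Disc12.fibPres (q.under R) q rfl qb hcomap
  have hIf : Ideal.span (Set.range (fibRel F (q.under R))) ≤ qb := Ideal.span_le.2 (by
    rintro _ ⟨i, rfl⟩
    exact (hcomap _).2 (hFq (Ideal.subset_span ⟨i, rfl⟩)))
  obtain ⟨hcn, hd⟩ := IsRelGCI.fibre h (q.under R) (Ideal.Quotient.nontrivial_iff.2 (ne_top_of_le_ne_top hqb.ne_top hIf))
  have hreg := (isRegular_of_dim_le hcn (fibRel F (q.under R)) hd.le qb hIf).toIsWeaklyRegular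
  have hlist : (List.ofFn (fibRel F (q.under R))).map (algebraMap _ (Localization.AtPrime qb)) =
      (List.ofFn F).map ((algebraMap _ (Localization.AtPrime qb)).comp (Disc12.fibMap n (q.under R))) := by
    rw [List.map_ofFn, List.map_ofFn]; rfl
  rw [hlist, LCI15.isWeaklyRegular_iff_colon] at hreg
  intro i hi x hx
  rw [← hpres.mem_map_iff, map_mul, Ideal.map_ofList, List.map_take] at hx
  rw [← hpres.mem_map_iff, Ideal.map_ofList, List.map_take]
  refine hreg i (by simpa using hi) _ ?_
  rw [List.getElem_map]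
  exact hx

theorem exists_nhd_regular (h : Synt.IsRelGCI R n c F) (q : Ideal (MvPolynomial (Fin n) R)) [hq : q.IsPrime]
    (hFq : Ideal.span (Set.range F) ≤ q) (j : ℕ) :
    ∃ d ∉ q, (∀ (i : ℕ) (hi : i < ((List.ofFn F).take j).length) (x : MvPolynomial (Fin n) R),
        ((List.ofFn F).take j)[i] * x ∈ Ideal.ofList (((List.ofFn F).take j).take i) →
          ∃ k : ℕ, d ^ k * x ∈ Ideal.ofList (((List.ofFn F).take j).take i)) ∧
      ∀ (r : Ideal (MvPolynomial (Fin n) R)) [r.IsPrime], d ∉ r → Module.Flat R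
        (LocalizedModule r.primeCompl (MvPolynomial (Fin n) R ⧸ Ideal.ofList ((List.ofFn F).take j))) := by
  haveI : Module.Flat (MvPolynomial (Fin n) R) (LocalizedModule q.primeCompl (MvPolynomial (Fin n) R)) := inferInstance
  refine FlatMorSlice.exists_regular_sequence (A := R) ⟨q, hq⟩
    (Module.Flat.trans R (MvPolynomial (Fin n) R) (LocalizedModule q.primeCompl (MvPolynomial (Fin n) R))) _ ?_
  intro i hi x hx
  simp only [List.length_take, lt_min_iff] at hi
  rw [List.take_take, min_eq_left hi.1.le] at hx ⊢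
  rw [List.getElem_take] at hx
  exact fibReg h q hFq i hi.2 x hx

theorem isRegular_localization (h : Synt.IsRelGCI R n c F) (q : Ideal (MvPolynomial (Fin n) R)) [q.IsPrime]
    (hFq : Ideal.span (Set.range F) ≤ q) :
    IsRegular (Localization.AtPrime q) ((List.ofFn F).map (algebraMap _ (Localization.AtPrime q))) := by
  obtain ⟨d, hd, hreg, -⟩ := exists_nhd_regular h q hFq c
  rw [List.take_of_length_le (by simp)] at hreg
  refine ⟨CAlgH.CIOpen.isWeaklyRegular_localization (G := d) q.primeCompl hd fun i hi x hx => hreg i hi x hx, ?_⟩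
  rw [smul_eq_mul, Ideal.mul_top, ← Ideal.map_ofList, ofList_ofFn]
  refine fun h2 => (IsLocalRing.maximalIdeal.isMaximal (Localization.AtPrime q)).ne_top (top_le_iff.1 (h2.le.trans ?_))
  rw [← Localization.AtPrime.map_eq_maximalIdeal]
  exact Ideal.map_mono hFq

theorem flat_take (h : Synt.IsRelGCI R n c F) (q : Ideal (MvPolynomial (Fin n) R)) [q.IsPrime]
    (hFq : Ideal.span (Set.range F) ≤ q) (j : ℕ) :
    Module.Flat R (Localization.AtPrime q ⧸
      Ideal.ofList (((List.ofFn F).take j).map (algebraMap _ (Localization.AtPrime q)))) := by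
  obtain ⟨d, hd, -, hfl⟩ := exists_nhd_regular h q hFq j
  rw [← Ideal.map_ofList]
  exact CAlgH.CIOpen.flat_quotient_localization q _ (hfl q hd)

theorem flat_relGCI (h : Synt.IsRelGCI R n c F) : Module.Flat R (Synt.RelGCIRing R n c F) := by
  let P := MvPolynomial (Fin n) R
  let I : Ideal P := Ideal.span (Set.range F)
  refine Module.flat_of_isLocalized_maximal (S := P) (M := P ⧸ I)
    (Mₚ := fun m [m.IsMaximal] => LocalizedModule m.primeCompl (P ⧸ I))
    (f := fun m [m.IsMaximal] => LocalizedModule.mkLinearMap m.primeCompl (P ⧸ I)) fun m hm => ?_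
  by_cases hIm : I ≤ m
  · obtain ⟨d, hd, -, hfl⟩ := exists_nhd_regular h m hIm c
    rw [List.take_of_length_le (by simp), ofList_ofFn] at hfl
    exact hfl m hd
  · obtain ⟨i, hi, him⟩ := SetLike.not_le_iff_exists.1 hIm
    haveI : Subsingleton (LocalizedModule m.primeCompl (P ⧸ I)) := LocalizedModule.subsingleton_iff.2 fun x => by
      obtain ⟨x, rfl⟩ := Ideal.Quotient.mk_surjective x
      exact ⟨i, him, by
        show Ideal.Quotient.mk I (i * x) = 0
        exact Ideal.Quotient.eq_zero_iff_mem.2 (I.mul_mem_right _ hi)⟩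
    exact Module.Flat.of_free

theorem kreg (h : Synt.IsRelGCI R n c F) : CAlgH.KoszulRegular.KReg F := by
  refine CAlgH.KoszulRegular.kreg_of_local F fun q _ hle => CAlgH.KoszulH1.kreg_of_isWeaklyRegular ?_
  have := (isRegular_localization h q hle).toIsWeaklyRegular
  rwa [List.map_ofFn] at this

theorem cotangent_basis (h : Synt.IsRelGCI R n c F) :
    LinearIndependent (Synt.RelGCIRing R n c F)
        (fun i : Fin c => (Ideal.span (Set.range F)).toCotangent ⟨F i, Ideal.subset_span (Set.mem_range_self i)⟩) ∧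
      Submodule.span (Synt.RelGCIRing R n c F) (Set.range
        (fun i : Fin c => (Ideal.span (Set.range F)).toCotangent ⟨F i, Ideal.subset_span (Set.mem_range_self i)⟩)) = ⊤ :=
  cotangent_basis_of_h1 F (CAlgH.KoszulH1.h1_of_kreg (kreg h))

theorem isLCIOver_fibre (h : Synt.IsRelGCI R n c F) (p : Ideal R) [hp : p.IsPrime] :
    Synt.IsLCIOver p.ResidueField (p.Fiber (Synt.RelGCIRing R n c F)) := by
  obtain ⟨e⟩ := exists_fibEquiv F p
  refine isLCIOver_congr e.symm (isLCIOver_of_isGlobalCI ?_)
  rcases subsingleton_or_nontrivial (Synt.RelGCIRing p.ResidueField n c (fibRel F p)) with hs | hs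
  · exact Or.inl hs
  · obtain ⟨hcn, hd⟩ := IsRelGCI.fibre h p hs
    exact isGlobalCI_of_dim_le hcn _ hd.le

theorem isSyntomic_relGCI (h : Synt.IsRelGCI R n c F) : Synt.IsSyntomic R (Synt.RelGCIRing R n c F) :=
  ⟨flat_relGCI h, Algebra.FinitePresentation.quotient (Submodule.fg_span (Set.finite_range F)),
    fun p => isLCIOver_fibre h p.asIdeal⟩

end Groth.Agent.Synt15
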