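import Groth.Agent.Synt15.FieldScheme
import Groth.Agent.Synt15.RelCI

/-! Syntomic at a point and standard syntomic neighbourhoods. -/

set_option autoImplicit false
set_option linter.style.haveILetI false
set_option backward.isDefEq.respectTransparency false

universe u

open CategoryTheory CategoryTheory.Limits AlgebraicGeometry IsLocalRing

namespace Groth.Agent.Synt15

variable {X Y Z S : Scheme.{u}}

theorem isCIMorphism_of_isOpenImmersion (f : X ⟶ Y) [IsOpenImmersion f] : CInt.IsCIMorphism f := by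
  refine ⟨inferInstance, inferInstance, fun x => ?_⟩
  obtain ⟨e⟩ := CAlgH.CIScheme.fiberStalk_equiv f x
  let ε := (asIso (f.stalkMap x)).commRingCatIsoToRingEquiv
  have hm : (maximalIdeal (Y.presheaf.stalk (f x))).map (f.stalkMap x).hom = maximalIdeal (X.presheaf.stalk x) :=
    IsLocalRing.map_maximalIdeal_of_surjective _ ε.surjective
  let e' : IsLocalRing.ResidueField (X.presheaf.stalk x) ≃+* CInt.fiberStalk f x :=
    (Ideal.quotEquivOfEq hm.symm).trans e
  haveI : IsRegularLocalRing (CInt.fiberStalk f x) := IsRegularLocalRing.of_ringEquiv e'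
  exact CAlgH.CIHom.isCompleteIntersection_of_regularLocal

theorem isCIMorphism_of_comp_isOpenImmersion (f : X ⟶ Y) (g : Y ⟶ Z) [IsOpenImmersion g]
    (h : CInt.IsCIMorphism (f ≫ g)) : CInt.IsCIMorphism f := by
  have hsq : IsPullback (𝟙 X) f (f ≫ g) g :=
    IsPullback.of_isLimit' ⟨Category.id_comp _⟩ (PullbackCone.IsLimit.mk _ (fun c => c.fst)
      (fun c => Category.comp_id _) (fun c => by rw [← cancel_mono g, Category.assoc, c.condition])
      (fun c m h1 _ => by simpa using h1))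
  rw [← hsq.isoPullback_hom_snd]
  exact CAlgH.CIMorphism.isCIMorphism_comp _ _ (isCIMorphism_of_isOpenImmersion _)
    (CAlgH.CIMorphism.isCIMorphism_baseChange (f ≫ g) g h)

theorem isSyntomic_appLE_eq (f : X ⟶ S) {V V' : S.Opens} {U U' : X.Opens} (hV : V' = V) (hU : U' = U)
    (e : U ≤ f ⁻¹ᵁ V) (e' : U' ≤ f ⁻¹ᵁ V') :
    (letI := (f.appLE V' U' e').hom.toAlgebra; Synt.IsSyntomic Γ(S, V') Γ(X, U')) ↔
      (letI := (f.appLE V U e).hom.toAlgebra; Synt.IsSyntomic Γ(S, V) Γ(X, U)) := by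
  subst hV hU
  exact Iff.rfl

theorem isCIMorphism_resLE_iff (f : X ⟶ S) {V : S.Opens} (hV : IsAffineOpen V) {U : X.Opens}
    (hU : IsAffineOpen U) (e : U ≤ f ⁻¹ᵁ V) :
    CInt.IsCIMorphism (f.resLE V U e) ↔
      (letI := (f.appLE V U e).hom.toAlgebra; Synt.IsSyntomic Γ(S, V) Γ(X, U)) := by
  haveI : IsAffine V.toScheme := hV
  haveI : IsAffine U.toScheme := hU
  have hle : (⊤ : U.toScheme.Opens) ≤ (f.resLE V U e) ⁻¹ᵁ (⊤ : V.toScheme.Opens) := le_top
  have hV' : V.ι ''ᵁ ⊤ = V := by simp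
  have hU' : U.ι ''ᵁ ⊤ = U := by simp
  have he' : U.ι ''ᵁ ⊤ ≤ f ⁻¹ᵁ (V.ι ''ᵁ ⊤) := by rw [hV', hU']; exact e
  have hkey : (f.resLE V U e).appLE ⊤ ⊤ hle = f.appLE (V.ι ''ᵁ ⊤) (U.ι ''ᵁ ⊤) he' :=
    Scheme.Hom.resLE_appLE f e ⊤ ⊤ hle
  constructor
  · intro h
    refine (isSyntomic_appLE_eq f hV' hU' e he').1 ?_
    rw [← hkey]
    exact isSyntomic_appLE (f.resLE V U e) h ⟨⊤, isAffineOpen_top _⟩ ⟨⊤, isAffineOpen_top _⟩ hle
  · intro h
    refine (isSyntomicMor_iff _).1 fun y => ⟨⟨⊤, isAffineOpen_top _⟩, ⟨⊤, isAffineOpen_top _⟩, hle, trivial, ?_⟩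
    have h' := (isSyntomic_appLE_eq f hV' hU' e he').2 h
    rw [← hkey] at h'
    exact h'

theorem exists_syntomic_nhd {f : X ⟶ S} {x : X} (h : Synt.IsSyntomicAt f x) {V : S.Opens} (hV : IsAffineOpen V)
    (hxV : f x ∈ V) : ∃ (U : X.Opens) (_ : IsAffineOpen U) (e : U ≤ f ⁻¹ᵁ V), x ∈ U ∧
      (letI := (f.appLE V U e).hom.toAlgebra; Synt.IsSyntomic Γ(S, V) Γ(X, U)) := by
  obtain ⟨U₀, V₀, e₀, hx₀, h₀⟩ := h
  have hc₀ := CAlgH.CIMorphism.isCIMorphism_comp _ _ ((isCIMorphism_resLE_iff f V₀.2 U₀.2 e₀).2 h₀)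
    (isCIMorphism_of_isOpenImmersion V₀.1.ι)
  rw [Scheme.Hom.resLE_comp_ι] at hc₀
  obtain ⟨_, ⟨U, hU, rfl⟩, hxU, hle⟩ :=
    X.isBasis_affineOpens.exists_subset_of_mem_open (show x ∈ ((U₀.1 ⊓ f ⁻¹ᵁ V : X.Opens) : Set X) from ⟨hx₀, hxV⟩)
      (U₀.1 ⊓ f ⁻¹ᵁ V).2
  have h1 : U ≤ U₀.1 := fun y hy => (hle hy).1
  have e : U ≤ f ⁻¹ᵁ V := fun y hy => (hle hy).2
  refine ⟨U, hU, e, hxU, (isCIMorphism_resLE_iff f hV hU e).1 (isCIMorphism_of_comp_isOpenImmersion _ V.ι ?_)⟩
  rw [Scheme.Hom.resLE_comp_ι, ← X.homOfLE_ι h1, Category.assoc]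
  exact CAlgH.CIMorphism.isCIMorphism_comp _ _ (isCIMorphism_of_isOpenImmersion _) hc₀

/-- A syntomic morphism of affine schemes is standard syntomic near each point. -/
theorem exists_relGCI_basicOpen (f : X ⟶ S) {V : S.Opens} {U : X.Opens} (hU : IsAffineOpen U)
    (e : U ≤ f ⁻¹ᵁ V) (h : letI := (f.appLE V U e).hom.toAlgebra; Synt.IsSyntomic Γ(S, V) Γ(X, U))
    {x : X} (hx : x ∈ U) : ∃ g : Γ(X, U), x ∈ X.basicOpen g ∧
      ∃ (n c : ℕ) (F : Fin c → MvPolynomial (Fin n) Γ(S, V)), Synt.IsRelGCI Γ(S, V) n c F ∧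
        ∃ ε : Γ(X, X.basicOpen g) ≃+* Synt.RelGCIRing Γ(S, V) n c F,
          ε.toRingHom.comp (f.appLE V (X.basicOpen g) ((X.basicOpen_le g).trans e)).hom = algebraMap _ _ := by
  letI := (f.appLE V U e).hom.toAlgebra
  haveI := h.1
  haveI := h.2.1
  let q := (hU.primeIdealOf ⟨x, hx⟩).asIdeal
  let p := q.comap (algebraMap Γ(S, V) Γ(X, U))
  obtain ⟨Q, _, hQ⟩ := exists_fibre_point (R := Γ(S, V)) q p rfl
  haveI : Module.Flat Γ(X, U) (Localization.AtPrime q) := IsLocalization.flat _ q.primeCompl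
  obtain ⟨g, hg, n, c, F, hF, ⟨eF⟩⟩ := exists_relGCI_nhd Γ(S, V) q p rfl
    (Module.Flat.trans Γ(S, V) Γ(X, U) (Localization.AtPrime q)) Q hQ
    (isCIOver_of_isLCIOver (h.2.2 ⟨p, inferInstance⟩) Q)
  refine ⟨g, (mem_basicOpen_iff hU g hx).2 hg, n, c, F, hF, ?_⟩
  letI : Algebra Γ(X, U) Γ(X, X.basicOpen g) := (X.presheaf.map (homOfLE (X.basicOpen_le g)).op).hom.toAlgebra
  haveI : IsLocalization.Away g Γ(X, X.basicOpen g) := hU.isLocalization_basicOpen g
  let E : Γ(X, X.basicOpen g) ≃ₐ[Γ(X, U)] Localization.Away g :=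
    IsLocalization.algEquiv (Submonoid.powers g) _ _
  refine ⟨E.toRingEquiv.trans eF.toRingEquiv, RingHom.ext fun r => ?_⟩
  show eF (E _) = _
  rw [← eF.commutes r, IsScalarTower.algebraMap_apply Γ(S, V) Γ(X, U) (Localization.Away g), ← E.commutes]
  congr 2
  rw [← Scheme.Hom.appLE_map (e := e) f (homOfLE (X.basicOpen_le g)).op]
  rfl

theorem isSyntomic_of_equiv {R R' A A' : Type u} [CommRing R] [CommRing R'] [CommRing A] [CommRing A'] [Algebra R A]
    [Algebra R' A'] (φ : R ≃+* R') (ψ : A ≃+* A')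
    (hc : ∀ r, ψ (algebraMap R A r) = algebraMap R' A' (φ r)) (hflat : Module.Flat R A)
    (hfp : Algebra.FinitePresentation R A) : Module.Flat R' A' ∧ Algebra.FinitePresentation R' A' := by
  have hc' : algebraMap R' A' = (ψ.toRingHom.comp (algebraMap R A)).comp φ.symm.toRingHom := by
    ext r
    simp [hc]
  refine ⟨RingHom.flat_algebraMap_iff.1 ?_, RingHom.finitePresentation_algebraMap.1 ?_⟩
  · rw [hc']
    exact RingHom.Flat.respectsIso.2 _ _ (RingHom.Flat.respectsIso.1 _ _ (RingHom.flat_algebraMap_iff.2 hflat))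
  · rw [hc']
    exact RingHom.finitePresentation_respectsIso.2 _ _
      (RingHom.finitePresentation_respectsIso.1 _ _ (RingHom.finitePresentation_algebraMap.2 hfp))

attribute [local instance] CommAlg6.isLocalRing_fibLocRing

theorem isSyntomic_of_ringEquiv {R R' A A' : Type u} [CommRing R] [CommRing R'] [CommRing A] [CommRing A']
    [Algebra R A] [Algebra R' A'] (φ : R ≃+* R') (ψ : A ≃+* A')
    (hc : ∀ r, ψ (algebraMap R A r) = algebraMap R' A' (φ r)) (h : Synt.IsSyntomic R A) :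
    Synt.IsSyntomic R' A' := by
  obtain ⟨hflat, hfp⟩ := isSyntomic_of_equiv φ ψ hc h.1 h.2.1
  refine isSyntomic_of_ci hflat hfp fun q' _ => ?_
  let q := q'.comap ψ.toRingHom
  let α : Localization.AtPrime q ≃+* Localization.AtPrime q' :=
    IsLocalization.ringEquivOfRingEquiv (M := q.primeCompl) (T := q'.primeCompl) (Localization.AtPrime q)
      (Localization.AtPrime q') ψ (by
        ext x
        refine ⟨fun ⟨y, hy, hyx⟩ => hyx ▸ hy, fun hx => ⟨ψ.symm x, fun h' => hx ?_, ψ.apply_symm_apply x⟩⟩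
        have h'' : ψ (ψ.symm x) ∈ q' := h'
        rwa [ψ.apply_symm_apply] at h'')
  have hcomp : α.toRingHom.comp (algebraMap R (Localization.AtPrime q)) =
      (algebraMap R' (Localization.AtPrime q')).comp φ.toRingHom := by
    ext r
    show α (algebraMap R (Localization.AtPrime q) r) = algebraMap R' (Localization.AtPrime q') (φ r)
    rw [IsScalarTower.algebraMap_apply R A (Localization.AtPrime q),
      IsScalarTower.algebraMap_apply R' A' (Localization.AtPrime q'), IsLocalization.ringEquivOfRingEquiv_eq, hc]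
  have hp : (q.comap (algebraMap R A)).map φ.toRingHom = q'.comap (algebraMap R' A') := by
    ext r'
    rw [Ideal.mem_map_iff_of_surjective φ.toRingHom φ.surjective]
    refine ⟨?_, fun h' => ⟨φ.symm r', ?_, φ.apply_symm_apply r'⟩⟩
    · rintro ⟨r, hr, rfl⟩
      have h1 : ψ (algebraMap R A r) ∈ q' := hr
      rwa [hc] at h1
    · show ψ (algebraMap R A (φ.symm r')) ∈ q'
      rw [hc, φ.apply_symm_apply]
      exact h'
  let ε : EGA4.FibLocRing R A q ≃+* EGA4.FibLocRing R' A' q' := Ideal.quotientEquiv _ _ α (by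
    rw [← hp, Ideal.map_map, ← hcomp, ← Ideal.map_map]
    rfl)
  haveI : Algebra.FiniteType R A := haveI := h.2.1; inferInstance
  haveI : IsNoetherianRing (EGA4.FibLocRing R A q) := by
    obtain ⟨Q, _, ⟨e⟩⟩ := CommAlg6.exists_fiber_prime (A := R) q
    haveI : Algebra.EssFiniteType (q.comap (algebraMap R A)).ResidueField (Localization.AtPrime Q) :=
      essFiniteType_atPrime Q
    haveI : IsNoetherianRing (Localization.AtPrime Q) :=
      Algebra.EssFiniteType.isNoetherianRing (q.comap (algebraMap R A)).ResidueField (Localization.AtPrime Q)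
    exact isNoetherianRing_of_ringEquiv _ e
  haveI := isNoetherianRing_of_ringEquiv _ ε
  exact (CAlgH.AvramovCI.isCompleteIntersection_iff_of_equiv ε).1 (ci_fibre_of_isSyntomic h q)

/-- Standard syntomic morphisms are complete intersection morphisms. -/
theorem isCIMorphism_of_isStandardSyntomic {f : X ⟶ S} (h : Synt.IsStandardSyntomic f) : CInt.IsCIMorphism f := by
  obtain ⟨R, _, n, c, F, hF, e₁, e₂, hcomm⟩ := h
  let A := Synt.RelGCIRing R n c F
  have hf : f = (e₁.hom ≫ Spec.map (CommRingCat.ofHom (algebraMap R A))) ≫ e₂.inv := by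
    rw [hcomm, Category.assoc, Iso.hom_inv_id, Category.comp_id]
  rw [hf]
  refine CAlgH.CIMorphism.isCIMorphism_comp _ _ (CAlgH.CIMorphism.isCIMorphism_comp _ _
    (isCIMorphism_of_isOpenImmersion _) ?_) (isCIMorphism_of_isOpenImmersion _)
  let g := Spec.map (CommRingCat.ofHom (algebraMap R A))
  have hs : Synt.IsSyntomic R A := isSyntomic_relGCI hF
  refine (isSyntomicMor_iff g).1 fun x =>
    ⟨⟨⊤, isAffineOpen_top _⟩, ⟨⊤, isAffineOpen_top _⟩, le_top, trivial, ?_⟩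
  letI := (g.appLE ⊤ ⊤ le_top).hom.toAlgebra
  refine isSyntomic_of_ringEquiv (Scheme.ΓSpecIso (CommRingCat.of R)).symm.commRingCatIsoToRingEquiv
    (Scheme.ΓSpecIso (CommRingCat.of A)).symm.commRingCatIsoToRingEquiv (fun r => ?_) hs
  show (Scheme.ΓSpecIso (CommRingCat.of A)).inv (CommRingCat.ofHom (algebraMap R A) r) =
    g.appLE ⊤ ⊤ le_top ((Scheme.ΓSpecIso (CommRingCat.of R)).inv r)
  rw [← CommRingCat.comp_apply, ← CommRingCat.comp_apply, Scheme.ΓSpecIso_inv_naturality]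
  simp [g, Scheme.Hom.appLE, Scheme.Hom.appTop]

end Groth.Agent.Synt15
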