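import Groth.Agent.Synt15.CIBase
import Groth.Agent.Synt15.Bridge
import Groth.Agent.CAlgH.CIScheme

/-! Fibre local rings of morphisms of affine schemes; base change. -/

set_option autoImplicit false
set_option linter.style.haveILetI false
set_option backward.isDefEq.respectTransparency false

universe u

open CategoryTheory CategoryTheory.Limits AlgebraicGeometry IsLocalRing

namespace Groth.Agent.Synt15

attribute [local instance] CommAlg6.isLocalRing_fibLocRing

theorem fiberStalk_Spec_equiv (R S : Type u) [CommRing R] [CommRing S] [Algebra R S] (x : PrimeSpectrum S) :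
    Nonempty (CInt.fiberStalk (Spec.map (CommRingCat.ofHom (algebraMap R S))) x ≃+*
      EGA4.FibLocRing R S x.asIdeal) := by
  let f := Spec.map (CommRingCat.ofHom (algebraMap R S))
  let q := x.asIdeal
  let p := q.comap (algebraMap R S)
  let T := (Spec.structureSheaf S).presheaf.stalk x
  let E : T ≃ₐ[S] Localization.AtPrime q := IsLocalization.algEquiv q.primeCompl T _
  obtain ⟨e₁⟩ := CAlgH.CIScheme.fiberStalk_equiv f x
  refine ⟨e₁.symm.trans (Ideal.quotientEquiv _ _ E.toRingEquiv ?_)⟩
  let TR := (Spec.structureSheaf R).presheaf.stalk (PrimeSpectrum.comap (algebraMap R S) x)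
  haveI hloc : IsLocalization.AtPrime TR p :=
    inferInstanceAs (IsLocalization.AtPrime TR (PrimeSpectrum.comap (algebraMap R S) x).asIdeal)
  haveI : IsLocalRing TR := IsLocalization.AtPrime.isLocalRing TR p
  refine Eq.symm ?_
  show ((maximalIdeal TR).map (f.stalkMap x).hom).map E.toRingEquiv.toRingHom = _
  rw [← IsLocalization.AtPrime.map_eq_maximalIdeal p TR, Ideal.map_map, Ideal.map_map]
  refine congrArg (fun φ => Ideal.map φ p) (RingHom.ext fun r => ?_)
  have h1 : (f.stalkMap x).hom (algebraMap R TR r) =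
      algebraMap S T (algebraMap R S r) :=
    ConcreteCategory.congr_hom (AlgebraicGeometry.stalkMap_toStalk (CommRingCat.ofHom (algebraMap R S)) x) r
  rw [IsScalarTower.algebraMap_apply R S (Localization.AtPrime q)]
  show E ((f.stalkMap x).hom (algebraMap R TR r)) = _
  rw [h1, E.commutes]

theorem ci_fiberStalk_Spec_iff (R S : Type u) [CommRing R] [CommRing S] [Algebra R S] [Algebra.FiniteType R S]
    (x : PrimeSpectrum S) :
    Pi1.IsCompleteIntersection (CInt.fiberStalk (Spec.map (CommRingCat.ofHom (algebraMap R S))) x) ↔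
      Pi1.IsCompleteIntersection (EGA4.FibLocRing R S x.asIdeal) := by
  haveI : LocallyOfFiniteType (Spec.map (CommRingCat.ofHom (algebraMap R S))) :=
    (HasRingHomProperty.Spec_iff (P := @LocallyOfFiniteType)).2 (RingHom.finiteType_algebraMap.2 inferInstance)
  obtain ⟨ε⟩ := fiberStalk_Spec_equiv R S x
  haveI := CAlgH.CIScheme.isNoetherianRing_fiberStalk (Spec.map (CommRingCat.ofHom (algebraMap R S))) x
  haveI := isNoetherianRing_of_ringEquiv _ ε
  exact CAlgH.AvramovCI.isCompleteIntersection_iff_of_equiv ε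

/-- Complete intersection fibre local rings are insensitive to base change. -/
theorem ci_fibLocRing_baseChange (R S R' S' : Type u) [CommRing R] [CommRing S] [CommRing R'] [CommRing S']
    [Algebra R S] [Algebra R R'] [Algebra R' S'] [Algebra S S'] [Algebra R S'] [IsScalarTower R R' S']
    [IsScalarTower R S S'] [Algebra.IsPushout R S R' S'] [Algebra.FiniteType R S]
    (q' : Ideal S') [q'.IsPrime] :
    Pi1.IsCompleteIntersection (EGA4.FibLocRing R' S' q') ↔
      Pi1.IsCompleteIntersection (EGA4.FibLocRing R S (q'.comap (algebraMap S S'))) := by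
  haveI hP : Algebra.IsPushout R R' S S' := Algebra.IsPushout.symm inferInstance
  haveI : Algebra.FiniteType R' S' :=
    (show Algebra.FiniteType R' (TensorProduct R R' S) from inferInstance).equiv (Algebra.IsPushout.equiv R R' S S')
  haveI : LocallyOfFiniteType (Spec.map (CommRingCat.ofHom (algebraMap R S))) :=
    (HasRingHomProperty.Spec_iff (P := @LocallyOfFiniteType)).2 (RingHom.finiteType_algebraMap.2 inferInstance)
  have hsq : IsPullback (Spec.map (CommRingCat.ofHom (algebraMap S S'))) (Spec.map (CommRingCat.ofHom (algebraMap R' S')))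
      (Spec.map (CommRingCat.ofHom (algebraMap R S))) (Spec.map (CommRingCat.ofHom (algebraMap R R'))) :=
    isPullback_SpecMap_of_isPushout _ _ _ _ (CommRingCat.isPushout_of_isPushout R S R' S')
  have h := ci_fiberStalk_baseChange (Spec.map (CommRingCat.ofHom (algebraMap R S))) _ _ _ hsq
    (⟨q', inferInstance⟩ : PrimeSpectrum S')
  exact (ci_fiberStalk_Spec_iff R' S' ⟨q', inferInstance⟩).symm.trans
    (h.trans (ci_fiberStalk_Spec_iff R S _))

attribute [local instance] Algebra.TensorProduct.rightAlgebra

open TensorProduct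

theorem ci_fibLocRing_tensor {B N N' C : Type u} [CommRing B] [CommRing N] [CommRing N'] [CommRing C] [Algebra B N]
    [Algebra B N'] [Algebra B C] [Algebra.FiniteType B C] (h : N →ₐ[B] N') (q' : Ideal (N' ⊗[B] C)) [q'.IsPrime] :
    Pi1.IsCompleteIntersection (EGA4.FibLocRing N' (N' ⊗[B] C) q') ↔
      Pi1.IsCompleteIntersection (EGA4.FibLocRing N (N ⊗[B] C)
        (q'.comap (Algebra.TensorProduct.map h (AlgHom.id B C)).toRingHom)) := by
  letI := h.toRingHom.toAlgebra
  letI := (Algebra.TensorProduct.map h (AlgHom.id B C)).toRingHom.toAlgebra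
  haveI : IsScalarTower B N N' := .of_algebraMap_eq fun b => (h.commutes b).symm
  haveI : IsScalarTower N N' (N' ⊗[B] C) := inferInstance
  haveI : IsScalarTower N (N ⊗[B] C) (N' ⊗[B] C) := .of_algebraMap_eq fun n => by
    show h n ⊗ₜ[B] (1 : C) = Algebra.TensorProduct.map h (AlgHom.id B C) (n ⊗ₜ 1)
    rw [Algebra.TensorProduct.map_tmul]; rfl
  haveI : IsScalarTower C (N ⊗[B] C) (N' ⊗[B] C) := .of_algebraMap_eq fun c => by
    show (1 : N') ⊗ₜ[B] c = Algebra.TensorProduct.map h (AlgHom.id B C) (1 ⊗ₜ c)
    rw [Algebra.TensorProduct.map_tmul, map_one]; rfl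
  haveI : IsScalarTower B (N ⊗[B] C) (N' ⊗[B] C) := .of_algebraMap_eq fun b => by
    exact ((Algebra.TensorProduct.map h (AlgHom.id B C)).commutes b).symm
  haveI : Algebra.IsPushout N N' (N ⊗[B] C) (N' ⊗[B] C) :=
    (Algebra.IsPushout.comp_iff (R := B) (S := N) (T := N') (R' := C) (S' := N ⊗[B] C) (T' := N' ⊗[B] C)).1 inferInstance
  haveI : Algebra.IsPushout N (N ⊗[B] C) N' (N' ⊗[B] C) := Algebra.IsPushout.symm inferInstance
  exact ci_fibLocRing_baseChange N (N ⊗[B] C) N' (N' ⊗[B] C) q'

theorem flat_tensor {B N N' C : Type u} [CommRing B] [CommRing N] [CommRing N'] [CommRing C] [Algebra B N]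
    [Algebra B N'] [Algebra B C] (h : N →ₐ[B] N') [Module.Flat N (N ⊗[B] C)] : Module.Flat N' (N' ⊗[B] C) := by
  letI := h.toRingHom.toAlgebra
  haveI : IsScalarTower B N N' := .of_algebraMap_eq fun b => (h.commutes b).symm
  exact Module.Flat.of_linearEquiv (AlgebraTensorModule.cancelBaseChange B N N' N' C).symm

end Groth.Agent.Synt15
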