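import Groth.Agent.Synt15.Syntomic
import Mathlib.RingTheory.AdjoinRoot
import Mathlib.RingTheory.Flat.FaithfullyFlat.Basic

/-! Finite free syntomic algebras. -/

set_option autoImplicit false
set_option linter.unusedSectionVars false
set_option linter.style.haveILetI false

universe u

open MvPolynomial Groth.Agent.EGA43.FibDepth

namespace Groth.Agent.Synt15

variable {A : Type u} [CommRing A]

theorem isRelGCI_of_finite {n : ℕ} (F : Fin n → MvPolynomial (Fin n) A)
    [Module.Finite A (Synt.RelGCIRing A n n F)] : Synt.IsRelGCI A n n F := by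
  refine (isRelGCI_iff F).2 fun q => ⟨le_rfl, ?_⟩
  let p := q.asIdeal.comap (algebraMap A (Synt.RelGCIRing A n n F))
  obtain ⟨e⟩ := exists_fibEquiv F p
  haveI : Module.Finite p.ResidueField (Synt.RelGCIRing p.ResidueField n n (fibRel F p)) :=
    Module.Finite.equiv e.toLinearEquiv
  haveI : IsArtinianRing (Synt.RelGCIRing p.ResidueField n n (fibRel F p)) := IsArtinianRing.of_finite p.ResidueField _
  refine (fibre_dim_le_iff p _).1 ?_ q rfl
  rw [ringKrullDim_eq_of_ringEquiv e.toRingEquiv]
  refine le_trans (Ring.krullDimLE_iff.1 (inferInstance : Ring.KrullDimLE 0 _)) ?_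
  exact_mod_cast Nat.zero_le _

/-- Adjoining a root to a presented algebra. -/
theorem exists_snocEquiv {n c : ℕ} (F : Fin c → MvPolynomial (Fin n) A) (G : Polynomial (MvPolynomial (Fin n) A)) :
    Nonempty (AdjoinRoot (G.map (Ideal.Quotient.mk (Ideal.span (Set.range F)))) ≃ₐ[A]
      Synt.RelGCIRing A (n + 1) (c + 1) (Fin.snoc (fun i => rename Fin.castSucc (F i))
        (G.eval₂ (rename Fin.castSucc).toRingHom (X (Fin.last n))))) := by
  let S := Synt.RelGCIRing A n c F
  let g : Polynomial S := G.map (Ideal.Quotient.mk (Ideal.span (Set.range F)))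
  let F' : Fin (c + 1) → MvPolynomial (Fin (n + 1)) A := Fin.snoc (fun i => rename Fin.castSucc (F i))
    (G.eval₂ (rename Fin.castSucc).toRingHom (X (Fin.last n)))
  let T := Synt.RelGCIRing A (n + 1) (c + 1) F'
  let v : Fin (n + 1) → AdjoinRoot g :=
    Fin.snoc (fun i => algebraMap S (AdjoinRoot g) (Ideal.Quotient.mk _ (X i))) (AdjoinRoot.root g)
  let φ : MvPolynomial (Fin (n + 1)) A →ₐ[A] AdjoinRoot g := aeval v
  have hφr : ∀ p : MvPolynomial (Fin n) A, φ (rename Fin.castSucc p) =
      algebraMap S (AdjoinRoot g) (Ideal.Quotient.mk _ p) := by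
    intro p
    have : φ.comp (rename Fin.castSucc) =
        ((IsScalarTower.toAlgHom A S (AdjoinRoot g)).comp (Ideal.Quotient.mkₐ A _)) :=
      MvPolynomial.algHom_ext fun i => by simp [φ, v, S]
    exact AlgHom.congr_fun this p
  have hφG : φ (G.eval₂ (rename Fin.castSucc).toRingHom (X (Fin.last n))) = 0 := by
    show φ.toRingHom _ = 0
    rw [Polynomial.hom_eval₂]
    have h1 : φ.toRingHom.comp (rename Fin.castSucc).toRingHom =
        (AdjoinRoot.of g).comp (Ideal.Quotient.mk (Ideal.span (Set.range F))) := RingHom.ext fun p => hφr p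
    have h2 : φ.toRingHom (X (Fin.last n)) = AdjoinRoot.root g := by simp [φ, v]
    rw [h1, h2, ← Polynomial.eval₂_map]
    exact AdjoinRoot.eval₂_root g
  have hφ0 : ∀ a ∈ Ideal.span (Set.range F'), φ a = 0 := by
    intro a ha
    refine (Ideal.span_le.2 ?_ : Ideal.span (Set.range F') ≤ RingHom.ker φ.toRingHom) ha
    rintro _ ⟨j, rfl⟩
    show φ (F' j) = 0
    refine Fin.lastCases ?_ (fun i => ?_) j
    · simpa [F'] using hφG
    · simp only [F', Fin.snoc_castSucc, hφr]
      rw [Ideal.Quotient.eq_zero_iff_mem.2 (Ideal.subset_span (Set.mem_range_self i) : F i ∈ Ideal.span (Set.range F)), map_zero]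
  let φ' : T →ₐ[A] AdjoinRoot g := Ideal.Quotient.liftₐ _ φ hφ0
  have hψ0 : ∀ a ∈ Ideal.span (Set.range F), ((Ideal.Quotient.mkₐ A (Ideal.span (Set.range F'))).comp
      (rename Fin.castSucc)) a = 0 := by
    intro a ha
    refine (Ideal.span_le.2 ?_ : Ideal.span (Set.range F) ≤ RingHom.ker
      ((Ideal.Quotient.mkₐ A (Ideal.span (Set.range F'))).comp (rename Fin.castSucc)).toRingHom) ha
    rintro _ ⟨i, rfl⟩
    exact Ideal.Quotient.eq_zero_iff_mem.2 (Ideal.subset_span ⟨i.castSucc, by simp [F']⟩)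
  let ψ₀ : S →ₐ[A] T := Ideal.Quotient.liftₐ _ _ hψ0
  have hψg : g.eval₂ ψ₀.toRingHom (Ideal.Quotient.mk _ (X (Fin.last n))) = 0 := by
    rw [Polynomial.eval₂_map]
    show G.eval₂ ((Ideal.Quotient.mk (Ideal.span (Set.range F'))).comp (rename Fin.castSucc).toRingHom) _ = 0
    rw [← Polynomial.hom_eval₂, Ideal.Quotient.eq_zero_iff_mem]
    exact Ideal.subset_span ⟨Fin.last c, by simp [F']⟩
  let ψ : AdjoinRoot g →ₐ[A] T := AdjoinRoot.liftAlgHom g ψ₀ (Ideal.Quotient.mk _ (X (Fin.last n))) hψg
  refine ⟨AlgEquiv.ofAlgHom ψ φ' ?_ ?_⟩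
  · refine Ideal.Quotient.algHom_ext A (MvPolynomial.algHom_ext fun j => ?_)
    show ψ (φ (X j)) = Ideal.Quotient.mk _ (X j)
    refine Fin.lastCases ?_ (fun i => ?_) j
    · rw [show φ (X (Fin.last n)) = AdjoinRoot.root g by simp [φ, v]]
      simp [ψ]
    · rw [show φ (X (Fin.castSucc i)) = algebraMap S (AdjoinRoot g) (Ideal.Quotient.mk _ (X i)) by simp [φ, v]]
      show ψ (AdjoinRoot.of g _) = _
      rw [show ψ (AdjoinRoot.of g (Ideal.Quotient.mk _ (X i))) = ψ₀ (Ideal.Quotient.mk _ (X i)) by simp [ψ]]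
      show Ideal.Quotient.mk _ (rename Fin.castSucc (X i)) = _
      rw [rename_X]
  · refine AlgHom.ext fun z => ?_
    obtain ⟨z, rfl⟩ := AdjoinRoot.mk_surjective z
    induction z using Polynomial.induction_on with
    | C s =>
      obtain ⟨p, rfl⟩ := Ideal.Quotient.mk_surjective s
      show φ' (ψ (AdjoinRoot.mk g (Polynomial.C (Ideal.Quotient.mk _ p)))) = _
      rw [show ψ (AdjoinRoot.mk g (Polynomial.C (Ideal.Quotient.mk _ p))) = ψ₀ (Ideal.Quotient.mk _ p) by simp [ψ]]
      exact hφr p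
    | add a b ha hb => rw [map_add, map_add, ha, hb, map_add]
    | monomial m s ih =>
      simp only [AlgHom.id_apply] at ih ⊢
      rw [pow_succ, ← mul_assoc, map_mul (AdjoinRoot.mk g), map_mul (φ'.comp ψ), ih]
      congr 1
      show φ' (ψ (AdjoinRoot.root g)) = AdjoinRoot.root g
      rw [show ψ (AdjoinRoot.root g) = Ideal.Quotient.mk _ (X (Fin.last n)) by simp [ψ]]
      show φ (X (Fin.last n)) = _
      simp [φ, v]

/-- A finite free algebra with a square presentation. -/
def IsSquare (B : Type u) [CommRing B] [Algebra A B] : Prop :=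
  Module.Finite A B ∧ Module.Free A B ∧ (Nontrivial A → Nontrivial B) ∧
    ∃ (n : ℕ) (F : Fin n → MvPolynomial (Fin n) A), Nonempty (B ≃ₐ[A] Synt.RelGCIRing A n n F)

theorem isSquare_self : IsSquare (A := A) A := by
  refine ⟨inferInstance, inferInstance, fun h => h, 0, fun i => i.elim0, ⟨?_⟩⟩
  exact ((MvPolynomial.isEmptyAlgEquiv A (Fin 0)).symm.trans
    (AlgEquiv.quotientBot A (MvPolynomial (Fin 0) A)).symm).trans
    (Ideal.quotientEquivAlgOfEq A (by rw [Set.range_eq_empty, Ideal.span_empty]))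

theorem IsSquare.syntomic {B : Type u} [CommRing B] [Algebra A B] (h : IsSquare (A := A) B) :
    Synt.IsSyntomic A B ∧ Module.FaithfullyFlat A B := by
  obtain ⟨h1, h2, h3, n, F, ⟨e⟩⟩ := h
  haveI := Module.Finite.equiv e.toLinearEquiv
  refine ⟨isSyntomic_congr e.symm (isSyntomic_relGCI (isRelGCI_of_finite F)), ?_⟩
  rcases subsingleton_or_nontrivial A with hA | hA
  · exact { submodule_ne_top := fun m hm => (hm.ne_top (Subsingleton.elim _ _)).elim }
  · haveI := h3 hA
    infer_instance

theorem IsSquare.adjoinRoot {B : Type u} [CommRing B] [Algebra A B] (h : IsSquare (A := A) B) {f : Polynomial B}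
    (hf : f.Monic) (hd : Nontrivial B → f.natDegree ≠ 0) : IsSquare (A := A) (AdjoinRoot f) := by
  obtain ⟨h1, h2, h3, n, F, ⟨e⟩⟩ := h
  haveI := hf.free_adjoinRoot
  haveI := hf.finite_adjoinRoot
  refine ⟨Module.Finite.trans B _, Module.Free.trans (R := A) (S := B) (M := AdjoinRoot f), fun hA => ?_, n + 1, ?_⟩
  · haveI := h3 hA
    let b := (AdjoinRoot.powerBasis' hf).basis
    refine ⟨⟨b ⟨0, ?_⟩, 0, b.ne_zero _⟩⟩
    rw [AdjoinRoot.powerBasis'_dim]
    exact Nat.pos_of_ne_zero (hd ‹_›)
  obtain ⟨G, hG⟩ := Polynomial.map_surjective (Ideal.Quotient.mk (Ideal.span (Set.range F))) Ideal.Quotient.mk_surjective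
    (f.map e.toRingEquiv.toRingHom)
  obtain ⟨e'⟩ := exists_snocEquiv F G
  refine ⟨_, ⟨AlgEquiv.trans ?_ e'⟩⟩
  exact ((AdjoinRoot.mapAlgEquiv (R := A) e f _ (by rw [hG]; rfl)))

theorem exists_splitting (d : ℕ) : ∀ (B : Type u) [CommRing B] [Algebra A B], IsSquare (A := A) B →
    ∀ P : Polynomial B, P.Monic → P.natDegree ≤ d →
      ∃ (A' : Type u) (_ : CommRing A') (_ : Algebra A A') (_ : Algebra B A') (_ : IsScalarTower A B A'),
        IsSquare (A := A) A' ∧ ∃ s : Multiset A', P.map (algebraMap B A') =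
          (s.map fun b => Polynomial.X - Polynomial.C b).prod := by
  induction d with
  | zero =>
    intro B _ _ hB P hP hd
    refine ⟨B, inferInstance, inferInstance, inferInstance, inferInstance, hB, 0, ?_⟩
    rw [(Polynomial.eq_one_of_monic_natDegree_zero hP (Nat.le_zero.1 hd))]
    simp
  | succ d ih =>
    intro B _ _ hB P hP hd
    by_cases h0 : P.natDegree = 0
    · exact ih B hB P hP (by omega)
    let C := AdjoinRoot P
    let P' := P.map (algebraMap B C)
    let r := AdjoinRoot.root P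
    have hroot : P'.IsRoot r := AdjoinRoot.isRoot_root P
    have hm : (Polynomial.X - Polynomial.C r).Monic := Polynomial.monic_X_sub_C r
    have hfac := Polynomial.mul_divByMonic_eq_iff_isRoot.2 hroot
    have hQm : (P' /ₘ (Polynomial.X - Polynomial.C r)).Monic :=
      hm.of_mul_monic_left (by rw [hfac]; exact hP.map _)
    have hQd : (P' /ₘ (Polynomial.X - Polynomial.C r)).natDegree ≤ d := by
      rw [Polynomial.natDegree_divByMonic _ hm]
      rcases subsingleton_or_nontrivial C with hC | hC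
      · simp [Subsingleton.elim P' 0]
      · rw [Polynomial.natDegree_X_sub_C, hP.natDegree_map]
        omega
    obtain ⟨A', _, _, _, _, hA', s, hs⟩ := ih C (hB.adjoinRoot hP fun _ => h0) _ hQm hQd
    letI : Algebra B A' := ((algebraMap C A').comp (algebraMap B C)).toAlgebra
    haveI : IsScalarTower A B A' := IsScalarTower.of_algebraMap_eq fun x => by
      show _ = algebraMap C A' (algebraMap B C (algebraMap A B x))
      rw [← IsScalarTower.algebraMap_apply A B C, ← IsScalarTower.algebraMap_apply A C A']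
    refine ⟨A', inferInstance, inferInstance, inferInstance, inferInstance, hA', (algebraMap C A' r) ::ₘ s, ?_⟩
    rw [Multiset.map_cons, Multiset.prod_cons, ← hs]
    show P.map ((algebraMap C A').comp (algebraMap B C)) = _
    rw [← Polynomial.map_map]
    conv_lhs => rw [show P.map (algebraMap B C) = P' from rfl, ← hfac]
    rw [Polynomial.map_mul]
    simp

end Groth.Agent.Synt15
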