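import Groth.Agent.Synt15.Bridge
import Groth.Agent.VarietyLib.SmoothStalk
import Groth.Agent.EGA43.Limit.Basic

/-! Flat morphisms between smooth schemes are syntomic. -/

set_option autoImplicit false
set_option linter.style.haveILetI false
set_option backward.isDefEq.respectTransparency false

universe u

open CategoryTheory CategoryTheory.Limits AlgebraicGeometry IsLocalRing

namespace Groth.Agent.Synt15

theorem isRegularLocalRing_stalk_of_iso {Z W : Scheme.{u}} (e : Z ≅ W)
    (h : ∀ w : W, IsRegularLocalRing (W.presheaf.stalk w)) (z : Z) :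
    IsRegularLocalRing (Z.presheaf.stalk z) := by
  haveI := h (e.hom z)
  exact IsRegularLocalRing.of_ringEquiv (R := W.presheaf.stalk (e.hom z))
    (asIso (e.hom.stalkMap z)).commRingCatIsoToRingEquiv

theorem isSyntomicMor_of_flat_of_smooth_over {X Y S : Scheme.{u}} (p : X ⟶ S) (q : Y ⟶ S) [Smooth p] [Smooth q]
    (f : X ⟶ Y) (hf : f ≫ q = p) [Flat f] : Synt.IsSyntomicMor f := by
  haveI : LocallyOfFinitePresentation (f ≫ q) := hf ▸ inferInstance
  haveI hlfp : LocallyOfFinitePresentation f := EGA43.Limit.locallyOfFinitePresentation_of_comp f q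
  rw [isSyntomicMor_iff]
  refine ⟨‹_›, hlfp, (CAlgH.CIMorphism.forall_fiberStalk_iff f).2 fun y => ?_⟩
  let s : S := q y
  let g : q.fiber s ⟶ Y := q.fiberι s
  have hy : g (q.asFiber y) = y := q.fiberι_asFiber y
  suffices h : ∀ w : ↥(f.fiber (g (q.asFiber y))),
      Pi1.IsCompleteIntersection ((f.fiber (g (q.asFiber y))).presheaf.stalk w) by
    rwa [hy] at h
  refine (CAlgH.CIMorphism.forall_fiber_baseChange_iff f g (q.asFiber y)).1 ?_
  haveI : LocallyOfFiniteType (pullback.snd f g) := MorphismProperty.pullback_snd _ _ inferInstance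
  haveI : Flat (pullback.snd f g) := MorphismProperty.pullback_snd _ _ ‹_›
  haveI : Smooth (q.fiberToSpecResidueField s) := MorphismProperty.pullback_snd _ _ ‹_›
  haveI : Smooth (p.fiberToSpecResidueField s) := MorphismProperty.pullback_snd _ _ ‹_›
  let e : pullback f g ≅ p.fiber s :=
    pullbackRightPullbackFstIso q (S.fromSpecResidueField s) f ≪≫ pullback.congrHom hf rfl
  have hX : ∀ x : ↥(pullback f g), IsRegularLocalRing ((pullback f g).presheaf.stalk x) :=
    isRegularLocalRing_stalk_of_iso e fun w =>
      VarietyLib.isRegularLocalRing_stalk_of_smooth ↑(S.residueField s) _ (p.fiberToSpecResidueField s) w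
  have hY : ∀ z : ↥(q.fiber s), IsRegularLocalRing ((q.fiber s).presheaf.stalk z) := fun z =>
    VarietyLib.isRegularLocalRing_stalk_of_smooth ↑(S.residueField s) _ (q.fiberToSpecResidueField s) z
  have key : ∀ x : ↥(pullback f g), Pi1.IsCompleteIntersection (CInt.fiberStalk (pullback.snd f g) x) := fun x => by
    haveI := hX x
    haveI := hY (pullback.snd f g x)
    exact ((CAlgH.CIScheme.isCompleteIntersection_stalk_iff (pullback.snd f g) x).1
      CAlgH.CIHom.isCompleteIntersection_of_regularLocal).2
  exact (CAlgH.CIMorphism.forall_fiberStalk_iff (pullback.snd f g)).1 key _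

end Groth.Agent.Synt15
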