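import Groth.Agent.Synt15.KoszulCI
import Groth.Agent.FlatMor12.FibreFlat
import Groth.Agent.CAlgH3.MiracleFlat
import Groth.Agent.CAlgH3.RegularCore
import Groth.Agent.Synt15.OverSmooth
import Groth.Prelude.Def_Flat

/-! Universal homeomorphisms between smooth schemes are flat. -/

set_option autoImplicit false
set_option linter.style.haveILetI false
set_option backward.isDefEq.respectTransparency false

universe u

open CategoryTheory CategoryTheory.Limits AlgebraicGeometry IsLocalRing

namespace Groth.Agent.Synt15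

/-- A homeomorphism between regular schemes is flat (miracle flatness). -/
theorem flat_of_homeo_of_regular {X Y : Scheme.{u}} (f : X ⟶ Y) (hh : IsHomeomorph f)
    (hX : ∀ x : X, IsRegularLocalRing (X.presheaf.stalk x))
    (hY : ∀ y : Y, IsRegularLocalRing (Y.presheaf.stalk y)) : Flat f := by
  refine (Flat.iff_flat_stalkMap f).2 fun x => ?_
  haveI := hX x
  haveI := hY (f x)
  haveI := CAlgH3.isCohenMacaulayLocalRing_of_regular (X.presheaf.stalk x)
  letI := (f.stalkMap x).hom.toAlgebra
  haveI : IsLocalHom (algebraMap (Y.presheaf.stalk (f x)) (X.presheaf.stalk x)) :=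
    inferInstanceAs (IsLocalHom (f.stalkMap x).hom)
  refine CAlgH3.flat_of_dim_eq _ (Y.presheaf.stalk (f x)) rfl (X.presheaf.stalk x) ?_
  obtain ⟨e⟩ := CAlgH.CIScheme.fiberStalk_equiv f x
  haveI : Subsingleton ↥(f.fiber (f x)) := ⟨fun a b => by
    apply (f.fiberι (f x)).isEmbedding.injective
    apply hh.bijective.1
    have ha : f.fiberι (f x) a ∈ f ⁻¹' {f x} := (f.range_fiberι (f x)).le ⟨a, rfl⟩
    have hb : f.fiberι (f x) b ∈ f ⁻¹' {f x} := (f.range_fiberι (f x)).le ⟨b, rfl⟩
    exact (Set.mem_singleton_iff.1 ha).trans (Set.mem_singleton_iff.1 hb).symm⟩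
  have h0 : ringKrullDim (X.presheaf.stalk x ⧸ (maximalIdeal (Y.presheaf.stalk (f x))).map (f.stalkMap x).hom) = 0 := by
    rw [ringKrullDim_eq_of_ringEquiv e, ringKrullDim_stalk_eq_coheight]
    refine WithBot.coe_eq_zero.2 (Order.coheight_eq_zero.2 fun z _ => ?_)
    rw [Subsingleton.elim z (f.asFiber x)]
  rw [show algebraMap (Y.presheaf.stalk (f x)) (X.presheaf.stalk x) = (f.stalkMap x).hom from rfl, h0, add_zero,
    ringKrullDim_stalk_eq_coheight, ringKrullDim_stalk_eq_coheight]
  let E : ↥X ≃o ↥Y :=
    { Equiv.ofBijective f hh.bijective with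
      map_rel_iff' := fun {a b} => by
        simp only [Scheme.le_iff_specializes, Equiv.ofBijective_apply]
        exact hh.isEmbedding.isInducing.specializes_iff }
  exact congrArg WithBot.some (Order.coheight_orderIso E x).symm

/-- A universal homeomorphism between smooth schemes over a base is flat. -/
theorem flat_of_isUnivHomeo_of_smooth {X Y S : Scheme.{u}} (f : X ⟶ Y) (q : Y ⟶ S) [Smooth q] [Smooth (f ≫ q)]
    (hf : FlatMor.IsUnivHomeo f) : Flat f := by
  refine FlatMor12.flat_of_fibres f q fun s => ?_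
  refine flat_of_homeo_of_regular _ (hf _ _ _ (IsPullback.of_hasPullback f (q.fiberι s)).flip) ?_ fun z => ?_
  · let e : pullback f (q.fiberι s) ≅ (f ≫ q).fiber s :=
      pullbackRightPullbackFstIso q (S.fromSpecResidueField s) f
    haveI : Smooth ((f ≫ q).fiberToSpecResidueField s) := MorphismProperty.pullback_snd _ _ ‹_›
    exact isRegularLocalRing_stalk_of_iso e fun w =>
      VarietyLib.isRegularLocalRing_stalk_of_smooth ↑(S.residueField s) _ ((f ≫ q).fiberToSpecResidueField s) w
  · haveI : Smooth (q.fiberToSpecResidueField s) := MorphismProperty.pullback_snd _ _ ‹_›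
    exact VarietyLib.isRegularLocalRing_stalk_of_smooth ↑(S.residueField s) _ (q.fiberToSpecResidueField s) z

end Groth.Agent.Synt15
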