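import Groth.Agent.Synt15.Syntomic

/-! Charts of syntomic algebras by regular sequences in polynomial rings. -/

set_option autoImplicit false
set_option linter.unusedSectionVars false
set_option linter.style.haveILetI false

universe u

open MvPolynomial Groth.Agent.EGA43.FibDepth

namespace Groth.Agent.Synt15

variable {A : Type u} [CommRing A]

/-- A principal open of a principal open is a principal open. -/
theorem exists_away_mul {R B : Type u} [CommRing R] [CommRing B] [Algebra R B] {g : B} (q : Ideal B) [q.IsPrime]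
    (hg : g ∉ q) (qg : Ideal (Localization.Away g)) [qg.IsPrime]
    (hqg : qg.comap (algebraMap B (Localization.Away g)) = q) (g₁ : Localization.Away g) (hg₁ : g₁ ∉ qg) :
    ∃ g' ∉ q, Nonempty (Localization.Away g' ≃ₐ[R] Localization.Away g₁) := by
  obtain ⟨b, ⟨_, m, rfl⟩, rfl⟩ := IsLocalization.exists_mk'_eq (Submonoid.powers g) g₁
  let g₁' := IsLocalization.mk' (Localization.Away g) b (⟨g ^ m, m, rfl⟩ : Submonoid.powers g)
  have hass : Associated g₁' (algebraMap B (Localization.Away g) b) :=
    ⟨(IsLocalization.map_units (Localization.Away g) (⟨g ^ m, m, rfl⟩ : Submonoid.powers g)).unit,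
      IsLocalization.mk'_spec (Localization.Away g) b (⟨g ^ m, m, rfl⟩ : Submonoid.powers g)⟩
  have hb : b ∉ q := fun hb => hg₁ (by
    refine (Ideal.mul_unit_mem_iff_mem qg
      (IsLocalization.map_units (Localization.Away g) (⟨g ^ m, m, rfl⟩ : Submonoid.powers g))).1 ?_
    rw [IsLocalization.mk'_spec]
    rw [← hqg] at hb
    exact hb)
  haveI : IsLocalization.Away (algebraMap B (Localization.Away g) b) (Localization.Away g₁') :=
    IsLocalization.Away.of_associated hass
  haveI : IsLocalization.Away (g * b) (Localization.Away g₁') :=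
    IsLocalization.Away.mul' (Localization.Away g) _ g b
  exact ⟨g * b, q.primeCompl.mul_mem hg hb,
    ⟨(IsLocalization.algEquiv (Submonoid.powers (g * b)) (Localization.Away (g * b))
      (Localization.Away g₁')).restrictScalars R⟩⟩

variable {n c : ℕ} {F : Fin c → MvPolynomial (Fin n) A} (d : MvPolynomial (Fin n) A)

/-- `d y - 1`. -/
noncomputable def invRel : MvPolynomial (Fin (n + 1)) A := rename Fin.castSucc d * X (Fin.last n) - 1

/-- The relations `d y - 1, F_1, …, F_c`. -/
noncomputable def chartList (F : Fin c → MvPolynomial (Fin n) A) : List (MvPolynomial (Fin (n + 1)) A) :=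
  invRel d :: (List.ofFn F).map (rename Fin.castSucc)

theorem invRel_mul_eq_zero {z : MvPolynomial (Fin (n + 1)) A} (h : invRel d * z = 0) : z = 0 := by
  have h1 : z = rename Fin.castSucc d * X (Fin.last n) * z := by
    rw [invRel, sub_mul, one_mul, sub_eq_zero] at h
    exact h.symm
  have hk : ∀ k, z = rename Fin.castSucc d ^ k * X (Fin.last n) ^ k * z := by
    intro k
    induction k with
    | zero => simp
    | succ k ih =>
      conv_lhs => rw [ih, h1]
      ring
  refine MvPolynomial.ext _ _ fun m => ?_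
  rw [hk (m (Fin.last n) + 1), coeff_zero, mul_comm (rename Fin.castSucc d ^ _), mul_assoc, X_pow_eq_monomial,
    coeff_monomial_mul', if_neg]
  intro hle
  have := hle (Fin.last n)
  simp at this

/-- Modulo `d y - 1`, every element has the form `y ^ N * w`. -/
theorem exists_form (J : Ideal (MvPolynomial (Fin (n + 1)) A)) (hJ : invRel d ∈ J)
    (z : MvPolynomial (Fin (n + 1)) A) :
    ∃ (N : ℕ) (w : MvPolynomial (Fin n) A), z - X (Fin.last n) ^ N * rename Fin.castSucc w ∈ J := by
  have hone : ∀ k, rename Fin.castSucc d ^ k * X (Fin.last n) ^ k - 1 ∈ J := by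
    intro k
    rw [← mul_pow, ← Ideal.Quotient.eq, map_pow,
      show Ideal.Quotient.mk J (rename Fin.castSucc d * X (Fin.last n)) = 1 by
        rw [← map_one (Ideal.Quotient.mk J), Ideal.Quotient.eq]; exact hJ, one_pow, map_one]
  induction z using MvPolynomial.induction_on with
  | C a => exact ⟨0, C a, by simp⟩
  | add a b ha hb =>
    obtain ⟨N, w, hw⟩ := ha
    obtain ⟨M, v, hv⟩ := hb
    refine ⟨N + M, d ^ M * w + d ^ N * v, ?_⟩
    rw [map_add, map_mul, map_mul, map_pow, map_pow,
      show a + b - X (Fin.last n) ^ (N + M) * (rename Fin.castSucc d ^ M * rename Fin.castSucc w +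
          rename Fin.castSucc d ^ N * rename Fin.castSucc v) =
        (a - X (Fin.last n) ^ N * rename Fin.castSucc w) + (b - X (Fin.last n) ^ M * rename Fin.castSucc v) -
        X (Fin.last n) ^ N * rename Fin.castSucc w * (rename Fin.castSucc d ^ M * X (Fin.last n) ^ M - 1) -
        X (Fin.last n) ^ M * rename Fin.castSucc v * (rename Fin.castSucc d ^ N * X (Fin.last n) ^ N - 1) by ring]
    exact J.sub_mem (J.sub_mem (J.add_mem hw hv) (J.mul_mem_left _ (hone M))) (J.mul_mem_left _ (hone N))
  | mul_X a i ha =>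
    obtain ⟨N, w, hw⟩ := ha
    induction i using Fin.lastCases with
    | last => exact ⟨N + 1, w, by
        rw [show a * X (Fin.last n) - X (Fin.last n) ^ (N + 1) * rename Fin.castSucc w =
          (a - X (Fin.last n) ^ N * rename Fin.castSucc w) * X (Fin.last n) by ring]
        exact J.mul_mem_right _ hw⟩
    | cast j => exact ⟨N, w * X j, by
        rw [map_mul, rename_X,
          show a * X j.castSucc - X (Fin.last n) ^ N * (rename Fin.castSucc w * X j.castSucc) =
            (a - X (Fin.last n) ^ N * rename Fin.castSucc w) * X j.castSucc by ring]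
        exact J.mul_mem_right _ hw⟩

theorem isWeaklyRegular_chartList
    (h : ∀ (i : ℕ) (hi : i < (List.ofFn F).length) (x : MvPolynomial (Fin n) A),
      (List.ofFn F)[i] * x ∈ Ideal.ofList ((List.ofFn F).take i) →
        ∃ k : ℕ, d ^ k * x ∈ Ideal.ofList ((List.ofFn F).take i)) :
    RingTheory.Sequence.IsWeaklyRegular (MvPolynomial (Fin (n + 1)) A) (chartList d F) := by
  rw [LCI15.isWeaklyRegular_iff_colon]
  rintro (_ | i) hi z hz
  · simp only [List.take_zero, Ideal.ofList_nil, Ideal.mem_bot] at hz ⊢
    exact invRel_mul_eq_zero d hz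
  · simp only [chartList, List.take_succ_cons, List.getElem_cons_succ, List.getElem_map] at hz ⊢
    simp only [chartList, List.length_cons, List.length_map, Nat.add_lt_add_iff_right] at hi
    rw [Ideal.ofList_cons, ← List.map_take] at hz ⊢
    let I := Ideal.ofList ((List.ofFn F).take i)
    let J := Ideal.span {invRel d} ⊔ Ideal.ofList (((List.ofFn F).take i).map (rename Fin.castSucc))
    have hJd : invRel d ∈ J := Ideal.mem_sup_left (Ideal.mem_span_singleton_self _)
    have hIJ : ∀ x ∈ I, rename Fin.castSucc x ∈ J := fun x hx => Ideal.mem_sup_right (by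
      have := Ideal.mem_map_of_mem (rename (R := A) Fin.castSucc).toRingHom hx
      rw [Ideal.map_ofList] at this
      exact this)
    obtain ⟨N, w, hzw⟩ := exists_form d J hJd z
    let P' := Localization.Away d
    let ev : MvPolynomial (Fin (n + 1)) A →ₐ[A] P' :=
      aeval (Fin.snoc (fun j => algebraMap (MvPolynomial (Fin n) A) P' (X j)) (IsLocalization.Away.invSelf d) : Fin (n + 1) → P')
    have hevr : ∀ x, ev (rename Fin.castSucc x) = algebraMap _ P' x := by
      intro x
      have : ev.comp (rename Fin.castSucc) = IsScalarTower.toAlgHom A (MvPolynomial (Fin n) A) P' :=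
        MvPolynomial.algHom_ext fun j => by simp [ev]
      exact AlgHom.congr_fun this x
    have hevy : ev (X (Fin.last n)) = IsLocalization.Away.invSelf d := by simp [ev]
    have hevJ : J ≤ (I.map (algebraMap _ P')).comap ev.toRingHom := by
      refine sup_le ((Ideal.span_singleton_le_iff_mem _).2 ?_) (Ideal.span_le.2 fun x hx => ?_)
      · show ev (invRel d) ∈ I.map (algebraMap _ P')
        rw [invRel, map_sub, map_mul, hevr, hevy, IsLocalization.Away.mul_invSelf, map_one, sub_self]
        exact zero_mem _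
      · obtain ⟨y, hy, rfl⟩ := List.mem_map.1 hx
        show ev (rename Fin.castSucc y) ∈ I.map (algebraMap _ P')
        rw [hevr]
        exact Ideal.mem_map_of_mem _ (Ideal.subset_span hy)
    have hFw : rename Fin.castSucc (List.ofFn F)[i] * (X (Fin.last n) ^ N * rename Fin.castSucc w) ∈ J := by
      have h1 := J.sub_mem hz (J.mul_mem_left (rename Fin.castSucc (List.ofFn F)[i]) hzw)
      rwa [← mul_sub, sub_sub_cancel] at h1
    have h2 : algebraMap _ P' ((List.ofFn F)[i] * w) ∈ I.map (algebraMap _ P') := by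
      have h1 : ev _ ∈ I.map (algebraMap _ P') := hevJ hFw
      rw [map_mul, map_mul, map_pow, hevr, hevr, hevy] at h1
      rw [map_mul]
      have hu : IsUnit (IsLocalization.Away.invSelf (S := P') d) :=
        IsUnit.of_mul_eq_one (algebraMap _ P' d) (by rw [mul_comm]; exact IsLocalization.Away.mul_invSelf (S := P') d)
      refine (Ideal.mul_unit_mem_iff_mem _ (hu.pow N)).1 ?_
      rw [show algebraMap (MvPolynomial (Fin n) A) P' (List.ofFn F)[i] * algebraMap _ P' w *
          IsLocalization.Away.invSelf d ^ N = algebraMap (MvPolynomial (Fin n) A) P' (List.ofFn F)[i] *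
          (IsLocalization.Away.invSelf d ^ N * algebraMap _ P' w) by ring]
      exact h1
    rw [IsLocalization.algebraMap_mem_map_algebraMap_iff (Submonoid.powers d) P'] at h2
    obtain ⟨_, ⟨M, rfl⟩, hM⟩ := h2
    obtain ⟨k, hk⟩ := h i hi (d ^ M * w) (by rw [mul_left_comm]; exact hM)
    rw [← mul_assoc, ← pow_add] at hk
    have h3 := hIJ _ hk
    rw [map_mul, map_pow] at h3
    have h4 : rename Fin.castSucc w ∈ J := by
      rw [show rename Fin.castSucc w = X (Fin.last n) ^ (k + M) *
          (rename Fin.castSucc d ^ (k + M) * rename Fin.castSucc w) -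
          rename Fin.castSucc w * (rename Fin.castSucc d ^ (k + M) * X (Fin.last n) ^ (k + M) - 1) by ring]
      refine J.sub_mem (J.mul_mem_left _ h3) (J.mul_mem_left _ ?_)
      rw [← mul_pow, ← Ideal.Quotient.eq, map_pow,
        show Ideal.Quotient.mk J (rename Fin.castSucc d * X (Fin.last n)) = 1 by
          rw [← map_one (Ideal.Quotient.mk J), Ideal.Quotient.eq]; exact hJd, one_pow, map_one]
    have h5 := J.add_mem hzw (J.mul_mem_left (X (Fin.last n) ^ N) h4)
    rwa [sub_add_cancel] at h5

theorem exists_regular_chart {B : Type u} [CommRing B] [Algebra A B] (h : Synt.IsSyntomic A B) (q : PrimeSpectrum B) :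
    ∃ g : B, g ∉ q.asIdeal ∧
      ∃ (n d : ℕ) (P : Fin d → MvPolynomial (Fin n) A),
        RingTheory.Sequence.IsRegular (MvPolynomial (Fin n) A) (List.ofFn P) ∧
        Nonempty (Localization.Away g ≃ₐ[A] (MvPolynomial (Fin n) A ⧸ Ideal.ofList (List.ofFn P))) := by
  haveI := h.2.1
  haveI := h.1
  let p := q.asIdeal.comap (algebraMap A B)
  obtain ⟨Q, _, hQ⟩ := exists_fibre_point (R := A) q.asIdeal p rfl
  have hfl : Module.Flat A (Localization.AtPrime q.asIdeal) := by
    haveI : Module.Flat B (Localization.AtPrime q.asIdeal) := IsLocalization.flat _ q.asIdeal.primeCompl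
    exact Module.Flat.trans A B _
  obtain ⟨g, hg, n, c, F, hF, ⟨e⟩⟩ := exists_relGCI_nhd A q.asIdeal p rfl hfl Q hQ
    (isCIOver_of_isLCIOver (h.2.2 ⟨p, inferInstance⟩) Q)
  obtain ⟨qg, _, hqg, -⟩ := exists_atPrimeEquiv' (k := A) q.asIdeal hg
  let qT : Ideal (Synt.RelGCIRing A n c F) := qg.comap e.symm.toRingEquiv.toRingHom
  let q' : Ideal (MvPolynomial (Fin n) A) := qT.comap (Ideal.Quotient.mk (Ideal.span (Set.range F)))
  have hFq : Ideal.span (Set.range F) ≤ q' := fun x hx => by
    show Ideal.Quotient.mk _ x ∈ qT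
    rw [Ideal.Quotient.eq_zero_iff_mem.2 hx]
    exact zero_mem _
  obtain ⟨d, hd, hreg, -⟩ := exists_nhd_regular hF q' hFq c
  rw [List.take_of_length_le (by simp)] at hreg
  let gT : Synt.RelGCIRing A n c F := Ideal.Quotient.mk _ d
  obtain ⟨g', hg', ⟨e₁⟩⟩ := exists_away_mul (R := A) q.asIdeal hg qg hqg (e.symm gT) hd
  let e₂ : Localization.Away (e.symm gT) ≃ₐ[A] Localization.Away gT :=
    IsLocalization.algEquivOfAlgEquiv (M := Submonoid.powers (e.symm gT)) (T := Submonoid.powers gT)
      (Localization.Away (e.symm gT)) (Localization.Away gT) e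
      ((Submonoid.map_powers _ (e.symm gT)).trans (congrArg Submonoid.powers (e.apply_symm_apply gT)))
  obtain ⟨e₃⟩ := exists_awayEquiv F d
  have hlist : List.ofFn (Fin.cons (invRel d) (fun i => rename Fin.castSucc (F i))) = chartList d F := by
    rw [List.ofFn_succ, chartList, List.map_ofFn]
    simp [Function.comp_def]
  have hideal : Ideal.span (Set.range (awayRel F d)) = Ideal.ofList (chartList d F) := by
    rw [← hlist, ofList_ofFn, Fin.range_snoc, Fin.range_cons]
    rfl
  let e₄ : Localization.Away g' ≃ₐ[A] (MvPolynomial (Fin (n + 1)) A ⧸ Ideal.ofList (chartList d F)) :=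
    ((e₁.trans e₂).trans e₃).trans (Ideal.quotientEquivAlgOfEq A hideal)
  refine ⟨g', hg', n + 1, c + 1, Fin.cons (invRel d) (fun i => rename Fin.castSucc (F i)), ?_⟩
  rw [hlist]
  refine ⟨⟨isWeaklyRegular_chartList d hreg, fun htop => ?_⟩, ⟨e₄⟩⟩
  rw [smul_eq_mul, Ideal.mul_top] at htop
  haveI : Subsingleton (MvPolynomial (Fin (n + 1)) A ⧸ Ideal.ofList (chartList d F)) :=
    Ideal.Quotient.subsingleton_iff.2 htop.symm
  obtain ⟨Q', hQ', -⟩ := exists_atPrimeEquiv' (k := A) q.asIdeal hg'
  exact hQ'.ne_top (Ideal.eq_top_iff_one _ |>.2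
    (by rw [e₄.injective.subsingleton.elim (1 : Localization.Away g') 0]; exact zero_mem _))

end Groth.Agent.Synt15
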