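import Groth.Prelude.Def_RegImm

/-! A presentation of a principal localisation of `R[x]/(F)`. -/

set_option autoImplicit false
set_option linter.unusedSectionVars false

universe u

open MvPolynomial

noncomputable section

namespace Groth.Agent.Synt15

variable {R : Type u} [CommRing R] {n c : ℕ} (F : Fin c → MvPolynomial (Fin n) R) (h : MvPolynomial (Fin n) R)

/-- The relations presenting `(R[x]/(F))_h` as a quotient of `R[x, y]`. -/
abbrev awayRel : Fin (c + 1) → MvPolynomial (Fin (n + 1)) R :=
  Fin.snoc (fun i => rename Fin.castSucc (F i)) (rename Fin.castSucc h * X (Fin.last n) - 1)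

/-- The principal localisation `(R[x]/(F))_h` is `R[x, y]/(F, h y - 1)`. -/
theorem exists_awayEquiv :
    Nonempty (Localization.Away (Ideal.Quotient.mk (Ideal.span (Set.range F)) h) ≃ₐ[R]
      Synt.RelGCIRing R (n + 1) (c + 1) (awayRel F h)) := by
  let S := Synt.RelGCIRing R n c F
  let g : S := Ideal.Quotient.mk (Ideal.span (Set.range F)) h
  let T := Synt.RelGCIRing R (n + 1) (c + 1) (awayRel F h)
  let v : Fin (n + 1) → Localization.Away g :=
    Fin.snoc (fun i => algebraMap S (Localization.Away g) (Ideal.Quotient.mk _ (X i))) (IsLocalization.Away.invSelf g)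
  let φ : MvPolynomial (Fin (n + 1)) R →ₐ[R] Localization.Away g := aeval v
  have hφr : ∀ p : MvPolynomial (Fin n) R, φ (rename Fin.castSucc p) =
      algebraMap S (Localization.Away g) (Ideal.Quotient.mk _ p) := by
    intro p
    have : φ.comp (rename Fin.castSucc) =
        ((IsScalarTower.toAlgHom R S (Localization.Away g)).comp (Ideal.Quotient.mkₐ R _)) :=
      MvPolynomial.algHom_ext fun i => by simp [φ, v, S]
    exact AlgHom.congr_fun this p
  have hφ0 : ∀ a ∈ Ideal.span (Set.range (awayRel F h)), φ a = 0 := by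
    intro a ha
    refine (Ideal.span_le.2 ?_ : Ideal.span (Set.range (awayRel F h)) ≤ RingHom.ker φ.toRingHom) ha
    rintro _ ⟨j, rfl⟩
    show φ (awayRel F h j) = 0
    refine Fin.lastCases ?_ (fun i => ?_) j
    · simp only [awayRel, Fin.snoc_last, map_sub, map_mul, map_one, hφr]
      rw [show φ (X (Fin.last n)) = IsLocalization.Away.invSelf g by simp [φ, v],
        IsLocalization.Away.mul_invSelf, sub_self]
    · simp only [awayRel, Fin.snoc_castSucc, hφr]
      rw [Ideal.Quotient.eq_zero_iff_mem.2 (Ideal.subset_span (Set.mem_range_self i) : F i ∈ Ideal.span (Set.range F)), map_zero]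
  let φ' : T →ₐ[R] Localization.Away g := Ideal.Quotient.liftₐ _ φ hφ0
  have hψ0 : ∀ a ∈ Ideal.span (Set.range F), ((Ideal.Quotient.mkₐ R (Ideal.span (Set.range (awayRel F h)))).comp
      (rename Fin.castSucc)) a = 0 := by
    intro a ha
    refine (Ideal.span_le.2 ?_ : Ideal.span (Set.range F) ≤ RingHom.ker
      ((Ideal.Quotient.mkₐ R (Ideal.span (Set.range (awayRel F h)))).comp (rename Fin.castSucc)).toRingHom) ha
    rintro _ ⟨i, rfl⟩
    show Ideal.Quotient.mk (Ideal.span (Set.range (awayRel F h))) (rename Fin.castSucc (F i)) = 0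
    exact Ideal.Quotient.eq_zero_iff_mem.2 (Ideal.subset_span ⟨i.castSucc, by simp [awayRel]⟩)
  let ψ₀ : S →ₐ[R] T := Ideal.Quotient.liftₐ _ _ hψ0
  have hψ₀ : ∀ p, ψ₀ (Ideal.Quotient.mk _ p) = Ideal.Quotient.mk _ (rename Fin.castSucc p) := fun p => rfl
  have hunit : IsUnit (ψ₀ g) := by
    refine IsUnit.of_mul_eq_one (Ideal.Quotient.mk _ (X (Fin.last n))) ?_
    rw [hψ₀, ← map_mul, ← map_one (Ideal.Quotient.mk (Ideal.span (Set.range (awayRel F h)))), Ideal.Quotient.eq]
    exact Ideal.subset_span ⟨Fin.last c, by simp [awayRel]⟩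
  let ψ : Localization.Away g →ₐ[R] T :=
    IsLocalization.liftAlgHom (M := Submonoid.powers g) (S := Localization.Away g) (f := ψ₀)
      (fun y => by obtain ⟨_, k, rfl⟩ := y; simpa using hunit.pow k)
  have hψa : ∀ s : S, ψ (algebraMap S (Localization.Away g) s) = ψ₀ s := fun s => by
    simp [ψ, IsLocalization.liftAlgHom_apply, IsLocalization.lift_eq]
  refine ⟨AlgEquiv.ofAlgHom ψ φ' ?_ ?_⟩
  · refine Ideal.Quotient.algHom_ext R (MvPolynomial.algHom_ext fun j => ?_)
    show ψ (φ (X j)) = Ideal.Quotient.mk _ (X j)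
    refine Fin.lastCases ?_ (fun i => ?_) j
    · rw [show φ (X (Fin.last n)) = IsLocalization.Away.invSelf g by simp [φ, v]]
      apply (hψa g ▸ hunit : IsUnit (ψ (algebraMap S (Localization.Away g) g))).mul_left_cancel
      rw [← map_mul, IsLocalization.Away.mul_invSelf, map_one, hψa, hψ₀, ← map_mul,
        ← map_one (Ideal.Quotient.mk (Ideal.span (Set.range (awayRel F h)))), eq_comm, Ideal.Quotient.eq]
      exact Ideal.subset_span ⟨Fin.last c, by simp [awayRel]⟩
    · rw [show φ (X (Fin.castSucc i)) = algebraMap S (Localization.Away g) (Ideal.Quotient.mk _ (X i)) by simp [φ, v],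
        hψa, hψ₀, rename_X]
  · refine IsLocalization.algHom_ext (Submonoid.powers g) ?_
    refine Ideal.Quotient.algHom_ext R (MvPolynomial.algHom_ext fun i => ?_)
    show φ' (ψ (algebraMap S (Localization.Away g) (Ideal.Quotient.mk _ (X i)))) = _
    rw [hψa, hψ₀]
    exact hφr (X i)

end Groth.Agent.Synt15
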