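import Groth.Agent.Synt15.RelDim

/-! A flat point with complete intersection fibre has a relative global complete intersection neighbourhood. -/

set_option autoImplicit false
set_option linter.unusedSectionVars false
set_option linter.style.haveILetI false

universe u

open MvPolynomial TensorProduct Groth.Agent.EGA43.FibDepth

namespace Groth.Agent.Synt15

attribute [local instance] Algebra.TensorProduct.rightAlgebra

/-- Localising kills the part of the kernel killed by the inverted element. -/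
theorem exists_awayEquiv_of_kills' {R T S : Type u} [CommRing R] [CommRing T] [Algebra R T] [CommRing S] [Algebra R S]
    (π : T →ₐ[R] S) (hπ : Function.Surjective π) (a : T) (ha : ∀ z, π z = 0 → a * z = 0) :
    Nonempty (Localization.Away a ≃ₐ[R] Localization.Away (π a)) := by
  let ψ : Localization.Away a →ₐ[R] Localization.Away (π a) := IsLocalization.Away.mapₐ _ _ π a
  have hψa : ∀ t, ψ (algebraMap T _ t) = algebraMap S _ (π t) := fun t => by
    simp [ψ, IsLocalization.Away.map]
  refine ⟨AlgEquiv.ofBijective ψ ⟨?_, fun s => ?_⟩⟩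
  · refine (injective_iff_map_eq_zero _).2 fun z hz => ?_
    obtain ⟨t, s, rfl⟩ := IsLocalization.exists_mk'_eq (Submonoid.powers a) z
    have h1 := congrArg ψ (IsLocalization.mk'_spec (Localization.Away a) t s)
    rw [map_mul, hz, zero_mul, hψa] at h1
    obtain ⟨⟨_, m, rfl⟩, hm⟩ := (IsLocalization.map_eq_zero_iff (Submonoid.powers (π a)) _ _).1 h1.symm
    rw [IsLocalization.mk'_eq_zero_iff]
    refine ⟨⟨a ^ (m + 1), m + 1, rfl⟩, ?_⟩
    show a ^ (m + 1) * t = 0
    rw [pow_succ', mul_assoc]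
    exact ha _ (by rw [map_mul, map_pow]; exact hm)
  · obtain ⟨b, ⟨_, m, rfl⟩, rfl⟩ := IsLocalization.exists_mk'_eq (Submonoid.powers (π a)) s
    obtain ⟨t, rfl⟩ := hπ b
    refine ⟨IsLocalization.mk' _ t (⟨a ^ m, m, rfl⟩ : Submonoid.powers a), ?_⟩
    refine IsLocalization.eq_mk'_iff_mul_eq.2 ?_
    have h1 := congrArg ψ (IsLocalization.mk'_spec (Localization.Away a) t (⟨a ^ m, m, rfl⟩ : Submonoid.powers a))
    rw [map_mul, hψa, hψa, map_pow] at h1
    exact h1

variable {R : Type u} [CommRing R] {n : ℕ}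

/-- Elements of an extended ideal, cleared of denominators. -/
theorem exists_scalar_mul_mem_span (p : Ideal R) [p.IsPrime] {ι : Type*} [Finite ι] (G : ι → MvPolynomial (Fin n) R)
    {z : MvPolynomial (Fin n) p.ResidueField} (hz : z ∈ Ideal.span (Set.range fun i => Disc12.fibMap n p (G i))) :
    ∃ s ∉ p, ∃ b ∈ Ideal.span (Set.range G), Disc12.fibMap n p (C s) * z = Disc12.fibMap n p b := by
  cases nonempty_fintype ι
  obtain ⟨a, rfl⟩ := Ideal.mem_span_range_iff_exists_fun.1 hz
  choose s hs b hb using fun i => Disc12.exists_scalar_mul_eq_map p (a i)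
  classical
  refine ⟨∏ i, s i, p.primeCompl.prod_mem fun i _ => hs i,
    ∑ i, C (∏ j ∈ Finset.univ.erase i, s j) * b i * G i,
    Ideal.sum_mem _ fun i _ => Ideal.mul_mem_left _ _ (Ideal.subset_span ⟨i, rfl⟩), ?_⟩
  rw [Finset.mul_sum, map_sum]
  refine Finset.sum_congr rfl fun i hi => ?_
  rw [← Finset.mul_prod_erase _ _ hi, C_mul, map_mul, map_mul, map_mul,
    show Disc12.fibMap n p (b i) = Disc12.fibMap n p (C (s i)) * a i from (hb i).symm]
  ring

variable {m : ℕ}

/-- Lifts of a regular sequence generating the fibre generate the ideal at the point. -/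
theorem exists_local_generators {S : Type u} [CommRing S] [Algebra R S]
    (G : Fin m → MvPolynomial (Fin n) R) (πS : MvPolynomial (Fin n) R →ₐ[R] S) (hπS : Function.Surjective πS)
    (hkS : RingHom.ker πS.toRingHom = Ideal.span (Set.range G))
    (q : PrimeSpectrum S) (p : Ideal R) [p.IsPrime] (hqp : q.asIdeal.comap (algebraMap R S) = p)
    (hflat : Module.Flat R (Localization.AtPrime q.asIdeal))
    (Q : Ideal (p.Fiber S)) [Q.IsPrime]
    (hQ : Q.comap Algebra.TensorProduct.includeRight.toRingHom = q.asIdeal)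
    (hCI : Synt.IsCIOver p.ResidueField (Localization.AtPrime Q)) :
    ∃ (qb : Ideal (MvPolynomial (Fin n) p.ResidueField)) (_ : qb.IsPrime)
      (rs : List (Localization.AtPrime qb)) (f : Fin rs.length → MvPolynomial (Fin n) R),
      RingTheory.Sequence.IsRegular (Localization.AtPrime qb) rs ∧ (∀ i, f i ∈ Ideal.span (Set.range G)) ∧
      (Ideal.span (Set.range G)).map (algebraMap _ (Localization.AtPrime (q.asIdeal.comap πS.toRingHom))) ≤
        (Ideal.span (Set.range f)).map (algebraMap _ (Localization.AtPrime (q.asIdeal.comap πS.toRingHom))) ∧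
      (∀ x, Disc12.fibMap n p x ∈ qb ↔ x ∈ q.asIdeal.comap πS.toRingHom) ∧
      (∀ F' : Ideal (MvPolynomial (Fin n) R), (∀ i, f i ∈ F') →
        Ideal.ofList rs ≤ (F'.map (Disc12.fibMap n p)).map (algebraMap _ (Localization.AtPrime qb))) ∧
      (Q.IsMaximal → qb.IsMaximal) ∧
      ringKrullDim (Localization.AtPrime Q) + (rs.length : WithBot ℕ∞) = ringKrullDim (Localization.AtPrime qb) := by
  classical
  let P := MvPolynomial (Fin n) R
  let κ := p.ResidueField
  let fib := Disc12.fibMap (A := R) n p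
  let I : Ideal P := Ideal.span (Set.range G)
  let q' : Ideal P := q.asIdeal.comap πS.toRingHom
  let e₀ : Synt.RelGCIRing R n m G ≃ₐ[R] S :=
    (Ideal.quotientEquivAlgOfEq R hkS.symm).trans (Ideal.quotientKerAlgEquivOfSurjective hπS)
  -- the point of the fibre
  obtain ⟨eG, heG⟩ := exists_baseChangeEquiv (K := κ) G
  let e : κ ⊗[R] S ≃ₐ[κ] Synt.RelGCIRing κ n m fun i => MvPolynomial.map (algebraMap R κ) (G i) :=
    (Algebra.TensorProduct.congr AlgEquiv.refl e₀.symm).trans eG
  have he : ∀ x : P, e (1 ⊗ₜ πS x) = Ideal.Quotient.mk _ (MvPolynomial.map (algebraMap R κ) x) := fun x => by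
    show eG ((1 : κ) ⊗ₜ e₀.symm (πS x)) = _
    rw [show πS x = e₀ (Ideal.Quotient.mk _ x) from rfl, e₀.symm_apply_apply, heG]
  let π : MvPolynomial (Fin n) κ →ₐ[κ] p.Fiber S :=
    e.symm.toAlgHom.comp (Ideal.Quotient.mkₐ κ _)
  have hπ : Function.Surjective π := e.symm.surjective.comp Ideal.Quotient.mk_surjective
  let qb := Q.comap π.toRingHom
  have hπx : ∀ x : P, π (fib x) = 1 ⊗ₜ πS x := fun x => by
    show e.symm (Ideal.Quotient.mk _ (MvPolynomial.map (algebraMap R κ) x)) = _
    rw [← he, e.symm_apply_apply]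
  have hqb : ∀ x, fib x ∈ qb ↔ x ∈ q' := fun x => by
    show π (fib x) ∈ Q ↔ πS x ∈ q.asIdeal
    rw [hπx, ← hQ]
    rfl
  have hπk : RingHom.ker π.toRingHom = Ideal.span (Set.range fun i => fib (G i)) := by
    ext z
    show e.symm (Ideal.Quotient.mk _ z) = 0 ↔ _
    rw [map_eq_zero_iff _ e.symm.injective, Ideal.Quotient.eq_zero_iff_mem]
    rfl
  haveI : Algebra.FiniteType κ (p.Fiber S) := Algebra.FiniteType.of_surjective π hπ
  have hCmem : ∀ a : R, (C a : P) ∈ q' ↔ a ∈ p := fun a => by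
    rw [← hqp]
    show πS (algebraMap R P a) ∈ q.asIdeal ↔ algebraMap R S a ∈ q.asIdeal
    rw [πS.commutes]
  obtain ⟨l, hl, hlk⟩ := exists_localMap π hπ Q
  haveI : IsRegularLocalRing (Localization.AtPrime qb) := isRegularLocalRing_atPrime qb
  haveI : IsNoetherianRing (Localization.AtPrime Q) := isNoetherianRing_of_surjective _ _ l.toRingHom hl
  obtain ⟨rs, hrs, hrsI⟩ := (CAlgH.CIPresentation.isCompleteIntersection_iff l.toRingHom hl).1
    ((isCIOver_iff _).1 hCI)
  rw [hlk, hπk] at hrsI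
  -- lifts of the generators
  have hC : ∀ s ∉ p, fib (C s) ∉ qb := fun s hs h => hs ((hCmem s).1 ((hqb _).1 h))
  have hlift : ∀ i : Fin rs.length, ∃ b ∈ I, ∃ u : MvPolynomial (Fin n) κ, u ∉ qb ∧
      rs.get i * algebraMap _ (Localization.AtPrime qb) u = algebraMap _ (Localization.AtPrime qb) (fib b) := by
    intro i
    have h1 : rs.get i ∈ (Ideal.span (Set.range fun i => fib (G i))).map (algebraMap _ (Localization.AtPrime qb)) := by
      rw [← hrsI]; exact Ideal.subset_span (List.get_mem _ _)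
    obtain ⟨⟨⟨z, hz⟩, w⟩, hzw⟩ := (IsLocalization.mem_map_algebraMap_iff qb.primeCompl _).1 h1
    obtain ⟨s, hs, b, hb, hsb⟩ := exists_scalar_mul_mem_span p G hz
    refine ⟨b, hb, fib (C s) * w, qb.primeCompl.mul_mem (hC s hs) w.2, ?_⟩
    rw [← hsb, map_mul, map_mul, ← hzw]
    ring
  choose f hfI u hu hfu using hlift
  let J : Ideal P := Ideal.span (Set.range f)
  have hJI : J ≤ I := Ideal.span_le.2 (Set.range_subset_iff.2 hfI)
  have hfib : ∀ {F' : Ideal P}, (∀ i, f i ∈ F') →
      Ideal.ofList rs ≤ (F'.map fib).map (algebraMap _ (Localization.AtPrime qb)) := by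
    intro F' hF'
    refine Ideal.span_le.2 fun a ha => ?_
    obtain ⟨i, rfl⟩ := List.mem_iff_get.1 ha
    show rs.get i ∈ (F'.map fib).map (algebraMap _ (Localization.AtPrime qb))
    rw [← Ideal.mul_unit_mem_iff_mem _ (IsLocalization.map_units (Localization.AtPrime qb) (⟨u i, hu i⟩ : qb.primeCompl)), hfu i]
    exact Ideal.mem_map_of_mem _ (Ideal.mem_map_of_mem _ (hF' i))
  -- Nakayama
  let L := Localization.AtPrime q'
  obtain ⟨l', hl', hlk'⟩ := exists_localMap πS hπS q.asIdeal
  rw [hkS] at hlk'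
  haveI : Module.Flat R (L ⧸ I.map (algebraMap P L)) :=
    Module.Flat.of_linearEquiv (M := Localization.AtPrime q.asIdeal)
      ((Ideal.quotientEquivAlgOfEq R hlk'.symm).trans (Ideal.quotientKerAlgEquivOfSurjective hl')).toLinearEquiv
  have hstep : ∀ x ∈ I, algebraMap P L x ∈ J.map (algebraMap P L) ⊔
      p.map (algebraMap R L) * I.map (algebraMap P L) := by
    intro x hx
    have h1 : algebraMap _ (Localization.AtPrime qb) (fib x) ∈
        (J.map fib).map (algebraMap _ (Localization.AtPrime qb)) := by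
      refine hfib (F' := J) (fun i => Ideal.subset_span ⟨i, rfl⟩) ?_
      rw [hrsI]
      refine Ideal.mem_map_of_mem _ ?_
      rw [show Ideal.span (Set.range fun i => fib (G i)) = I.map fib by rw [Ideal.map_span, ← Set.range_comp]; rfl]
      exact Ideal.mem_map_of_mem _ hx
    rw [IsLocalization.algebraMap_mem_map_algebraMap_iff qb.primeCompl] at h1
    obtain ⟨w, hw, hwx⟩ := h1
    obtain ⟨s, hs, v, hv⟩ := Disc12.exists_scalar_mul_eq_map p w
    have hz : fib (v * x) ∈ Ideal.span (Set.range fun i => fib (f i)) := by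
      rw [show Ideal.span (Set.range fun i => fib (f i)) = J.map fib by rw [Ideal.map_span, ← Set.range_comp]; rfl,
        map_mul, show fib v = fib (C s) * w from hv.symm, mul_assoc]
      exact Ideal.mul_mem_left _ _ hwx
    obtain ⟨t, ht, b, hb, htb⟩ := exists_scalar_mul_mem_span p f hz
    have hd : C t * (v * x) - b ∈ p.map (algebraMap R P) :=
      Disc12.fibMap_ker p _ (by rw [map_sub, map_mul, htb, sub_self])
    have hvq : v ∉ q' := fun h => by
      have h1 : fib (C s) * w ∈ qb := by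
        rw [show fib (C s) * w = fib v from hv]; exact (hqb v).2 h
      exact ((inferInstance : qb.IsPrime).mem_or_mem h1).elim (hC s hs) hw
    have hCt : (C t : P) ∉ q' := fun h => ht ((hCmem t).1 h)
    have hu : IsUnit (algebraMap P L (C t * v)) :=
      IsLocalization.map_units L (⟨C t * v, q'.primeCompl.mul_mem hCt hvq⟩ : q'.primeCompl)
    rw [← Ideal.unit_mul_mem_iff_mem _ hu, ← map_mul]
    have h2 : algebraMap P L (C t * v * x - b) ∈ p.map (algebraMap R L) * I.map (algebraMap P L) := by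
      refine CAlgH.CIOpen.mem_map_mul_of_flat_quotient p (I.map (algebraMap P L)) ?_ ?_
      · exact Ideal.mem_map_of_mem _ (I.sub_mem (I.mul_mem_left _ hx) (hJI hb))
      · rw [IsScalarTower.algebraMap_eq R P L, ← Ideal.map_map]
        exact Ideal.mem_map_of_mem _ (by rw [mul_assoc]; exact hd)
    rw [show C t * v * x = b + (C t * v * x - b) by ring, map_add]
    exact Submodule.add_mem_sup (Ideal.mem_map_of_mem _ hb) h2
  have hIJ : I.map (algebraMap P L) ≤ J.map (algebraMap P L) := by
    refine Submodule.le_of_le_smul_of_le_jacobson_bot ?_ ?_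
      (Ideal.map_le_iff_le_comap.2 hstep : _ ≤ J.map (algebraMap P L) ⊔ p.map (algebraMap R L) • I.map (algebraMap P L))
    · exact Ideal.FG.map (Submodule.fg_span (Set.finite_range G)) _
    · rw [IsLocalRing.jacobson_eq_maximalIdeal ⊥ bot_ne_top, Ideal.map_le_iff_le_comap]
      intro a ha
      rw [Ideal.mem_comap, IsScalarTower.algebraMap_apply R P L]
      refine (IsLocalization.AtPrime.to_map_mem_maximal_iff L q' _).2 ?_
      exact (hCmem a).2 ha
  refine ⟨qb, inferInstance, rs, f, hrs, hfI, hIJ, hqb, fun F' h => hfib h,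
    fun hm => Ideal.comap_isMaximal_of_surjective _ hπ, ?_⟩
  have hQl : ringKrullDim (Localization.AtPrime qb ⧸ Ideal.ofList rs) = ringKrullDim (Localization.AtPrime Q) :=
    ringKrullDim_eq_of_ringEquiv ((Ideal.quotEquivOfEq (by rw [hrsI, ← hπk]; exact hlk.symm)).trans
      (RingHom.quotientKerEquivOfSurjective hl))
  rw [← hQl]
  exact ringKrullDim_add_length_eq_ringKrullDim_of_isRegular rs hrs

/-- The main local statement, for a presented algebra. -/
theorem exists_relGCI_nhd_presented {S : Type u} [CommRing S] [Algebra R S]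
    (G : Fin m → MvPolynomial (Fin n) R) (πS : MvPolynomial (Fin n) R →ₐ[R] S) (hπS : Function.Surjective πS)
    (hkS : RingHom.ker πS.toRingHom = Ideal.span (Set.range G))
    (q : PrimeSpectrum S) (p : Ideal R) [p.IsPrime] (hqp : q.asIdeal.comap (algebraMap R S) = p)
    (hflat : Module.Flat R (Localization.AtPrime q.asIdeal))
    (Q : Ideal (p.Fiber S)) [Q.IsPrime]
    (hQ : Q.comap Algebra.TensorProduct.includeRight.toRingHom = q.asIdeal)
    (hCI : Synt.IsCIOver p.ResidueField (Localization.AtPrime Q)) :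
    ∃ g ∉ q.asIdeal, ∃ (n' c : ℕ) (F : Fin c → MvPolynomial (Fin n') R), Synt.IsRelGCI R n' c F ∧
      Nonempty (Localization.Away g ≃ₐ[R] Synt.RelGCIRing R n' c F) := by
  classical
  let P := MvPolynomial (Fin n) R
  let κ := p.ResidueField
  let fib := Disc12.fibMap (A := R) n p
  let I : Ideal P := Ideal.span (Set.range G)
  let q' : Ideal P := q.asIdeal.comap πS.toRingHom
  obtain ⟨qb, _, rs, f, hrs, hfI, hIJ, hqb, hfib, -, -⟩ :=
    exists_local_generators G πS hπS hkS q p hqp hflat Q hQ hCI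
  have hCmem : ∀ a : R, (C a : P) ∈ q' ↔ a ∈ p := fun a => by
    rw [← hqp]
    show πS (algebraMap R P a) ∈ q.asIdeal ↔ algebraMap R S a ∈ q.asIdeal
    rw [πS.commutes]
  have hC : ∀ s ∉ p, fib (C s) ∉ qb := fun s hs h => hs ((hCmem s).1 ((hqb _).1 h))
  haveI : IsRegularLocalRing (Localization.AtPrime qb) := isRegularLocalRing_atPrime qb
  let J : Ideal P := Ideal.span (Set.range f)
  have hJI : J ≤ I := Ideal.span_le.2 (Set.range_subset_iff.2 hfI)
  let L := Localization.AtPrime q'
  obtain ⟨g₀, hg₀, hg₀m⟩ := exists_mul_mem q'.primeCompl L (Submodule.fg_span (Set.finite_range G)) hIJ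
  -- the complete intersection `P/(f)`
  let T := Synt.RelGCIRing R n rs.length f
  let π₀ : T →ₐ[R] S := Ideal.Quotient.liftₐ J πS fun z hz => hkS.ge (hJI hz)
  have hπ₀ : Function.Surjective π₀ := fun y => by
    obtain ⟨z, rfl⟩ := hπS y
    exact ⟨Ideal.Quotient.mk _ z, rfl⟩
  let q₀ : PrimeSpectrum T := PrimeSpectrum.comap π₀.toRingHom q
  have hq₀p : q₀.asIdeal.comap (algebraMap R T) = p := by
    show Ideal.comap _ (Ideal.comap π₀.toRingHom q.asIdeal) = p
    rw [Ideal.comap_comap]
    exact (congrArg q.asIdeal.comap π₀.comp_algebraMap).trans hqp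
  have hh : rs.length ≤ n := by
    have h1 := ringKrullDim_add_length_eq_ringKrullDim_of_isRegular rs hrs
    obtain ⟨h', d, hh', hd, hhd⟩ := exists_height_dim qb
    rw [IsLocalization.AtPrime.ringKrullDim_eq_height qb (Localization.AtPrime qb), hh'] at h1
    haveI : Nontrivial (Localization.AtPrime qb ⧸ Ideal.ofList rs) :=
      Ideal.Quotient.nontrivial_iff.2 (fun h => hrs.top_ne_smul (by rw [smul_eq_mul, Ideal.mul_top, h]))
    have h2 : (0 : WithBot ℕ∞) ≤ ringKrullDim (Localization.AtPrime qb ⧸ Ideal.ofList rs) :=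
      ringKrullDim_nonneg_of_nontrivial
    have h3 := add_le_add_left h2 (rs.length : WithBot ℕ∞)
    rw [h1, zero_add] at h3
    have : rs.length ≤ h' := by exact_mod_cast h3
    omega
  obtain ⟨eT, heT⟩ := exists_baseChangeEquiv (K := κ) f
  have hgood : q₀ ∈ goodLocus (R := R) T (n - rs.length) := by
    intro q₁ hle hq₁
    obtain ⟨Q₁, rfl⟩ := exists_prime_over (A := R) (p := p) (p.Fiber T) q₁ (hq₁.trans hq₀p).symm
    have htrd := ringKrullDim_quotient_eq_trd (R := T) p Q₁
    let πT : MvPolynomial (Fin n) κ →ₐ[κ] p.Fiber T := eT.symm.toAlgHom.comp (Ideal.Quotient.mkₐ κ _)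
    have hπT : Function.Surjective πT := eT.symm.surjective.comp Ideal.Quotient.mk_surjective
    have hπTx : ∀ x : P, πT (fib x) = 1 ⊗ₜ Ideal.Quotient.mk J x := fun x => by
      show eT.symm (Ideal.Quotient.mk _ (MvPolynomial.map (algebraMap R κ) x)) = _
      rw [← heT, eT.symm_apply_apply]
    let P₁ := Q₁.asIdeal.comap πT.toRingHom
    have hP₁ : ∀ x, fib x ∈ P₁ → fib x ∈ qb := fun x hx => by
      refine (hqb x).2 ?_
      have h1 : Ideal.Quotient.mk J x ∈ (PrimeSpectrum.comap (algebraMap T (p.Fiber T)) Q₁).asIdeal := by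
        show (1 : κ) ⊗ₜ[R] Ideal.Quotient.mk J x ∈ Q₁.asIdeal
        rw [← hπTx]; exact hx
      exact hle h1
    have hP₁q : P₁ ≤ qb := fun z hz => by
      obtain ⟨s, hs, b, hb⟩ := Disc12.exists_scalar_mul_eq_map p z
      have h1 : fib b ∈ P₁ := by rw [show fib b = fib (C s) * z from hb.symm]; exact P₁.mul_mem_left _ hz
      have h2 : fib (C s) * z ∈ qb := by rw [show fib (C s) * z = fib b from hb]; exact hP₁ b h1
      exact ((inferInstance : qb.IsPrime).mem_or_mem h2).resolve_left (hC s hs)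
    have hh₁ : (rs.length : ℕ∞) ≤ P₁.height := by
      refine height_ge_of_regular qb.primeCompl hrs (Set.disjoint_left.2 fun z hz hz' => hz (hP₁q hz')) ?_
      refine (hfib (P₁.comap fib) fun i => ?_).trans (Ideal.map_mono Ideal.map_comap_le)
      show πT (fib (f i)) ∈ Q₁.asIdeal
      rw [hπTx, Ideal.Quotient.eq_zero_iff_mem.2 (Ideal.subset_span ⟨i, rfl⟩ : f i ∈ J), tmul_zero]
      exact zero_mem _
    obtain ⟨h', d, hh', hd, hhd⟩ := exists_height_dim P₁
    let ψ : MvPolynomial (Fin n) κ →+* p.Fiber T ⧸ Q₁.asIdeal := (Ideal.Quotient.mk Q₁.asIdeal).comp πT.toRingHom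
    have hψ : Function.Surjective ψ := Ideal.Quotient.mk_surjective.comp hπT
    have hψk : RingHom.ker ψ = P₁ := by
      ext x; exact Ideal.Quotient.eq_zero_iff_mem
    rw [← ringKrullDim_eq_of_ringEquiv ((Ideal.quotEquivOfEq hψk.symm).trans (RingHom.quotientKerEquivOfSurjective hψ)), hd] at htrd
    have h1 : d = trd R (PrimeSpectrum.comap (algebraMap T (p.Fiber T)) Q₁) := by exact_mod_cast htrd
    rw [hh'] at hh₁
    have h2 : rs.length ≤ h' := by exact_mod_cast hh₁
    omega
  obtain ⟨_, ⟨_, ⟨g₁, rfl⟩, rfl⟩, hg₁, hg₁good⟩ := PrimeSpectrum.isBasis_basic_opens.exists_subset_of_mem_open hgood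
    (isOpen_trd_le (A := R) (R := T) (n - rs.length))
  obtain ⟨g₁', rfl⟩ := Ideal.Quotient.mk_surjective g₁
  let h := g₀ * g₁'
  have hhq : πS h ∉ q.asIdeal := q'.primeCompl.mul_mem hg₀ hg₁
  obtain ⟨e₁⟩ := exists_awayEquiv_of_kills' π₀ hπ₀ (Ideal.Quotient.mk J h) (fun z hz => by
    obtain ⟨z, rfl⟩ := Ideal.Quotient.mk_surjective z
    rw [← map_mul, Ideal.Quotient.eq_zero_iff_mem, show h * z = g₁' * (g₀ * z) by ring]
    exact J.mul_mem_left _ (hg₀m _ (hkS.le hz)))
  obtain ⟨e₂⟩ := exists_awayEquiv f h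
  refine ⟨πS h, hhq, n + 1, rs.length + 1, awayRel f h, ?_, ⟨e₁.symm.trans e₂⟩⟩
  refine isRelGCI_away h fun r hr => ⟨hh, ?_⟩
  exact hg₁good (a := r) (fun h1 => hr (by
    rw [map_mul]; exact Ideal.mul_mem_left _ _ h1)) r le_rfl rfl

end Groth.Agent.Synt15
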