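import Groth.Agent.Synt15.Finite

/-! Finite syntomic algebras over a local ring have square presentations. -/

set_option autoImplicit false
set_option linter.unusedSectionVars false
set_option linter.style.haveILetI false

universe u

open MvPolynomial TensorProduct Groth.Agent.EGA43.FibDepth

namespace Groth.Agent.Synt15

attribute [local instance] Algebra.TensorProduct.rightAlgebra

variable (A B : Type u) [CommRing A] [IsLocalRing A] [CommRing B] [Algebra A B] [Module.Finite A B]

theorem exists_square_presentation (hB : Synt.IsSyntomic A B) :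
    ∃ (n : ℕ) (F : Fin n → MvPolynomial (Fin n) A), Nonempty (B ≃ₐ[A] Synt.RelGCIRing A n n F) := by
  classical
  haveI := hB.2.1
  haveI := hB.1
  obtain ⟨n, πS, hπS, hker⟩ := Algebra.FinitePresentation.out (R := A) (A := B)
  obtain ⟨k, G, hG⟩ := Submodule.fg_iff_exists_fin_generating_family.1 hker
  let P := MvPolynomial (Fin n) A
  let m := IsLocalRing.maximalIdeal A
  let κ := m.ResidueField
  let C := m.Fiber B
  haveI : Module.Finite κ C := inferInstanceAs (Module.Finite κ (κ ⊗[A] B))
  haveI : IsArtinianRing C := IsArtinianRing.of_finite κ C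
  let I : Ideal P := Ideal.span (Set.range G)
  let M : PrimeSpectrum C → PrimeSpectrum B := PrimeSpectrum.comap (algebraMap B C)
  have hMm : ∀ Q, (M Q).asIdeal.comap (algebraMap A B) = m := fun Q => (comap_algebraMap_eq (R := B) m Q).symm
  have hMmax : ∀ Q, (M Q).asIdeal.IsMaximal := fun Q => by
    refine Ideal.isMaximal_of_isIntegral_of_isMaximal_comap (R := A) (M Q).asIdeal ?_
    rw [hMm Q]
    exact IsLocalRing.maximalIdeal.isMaximal A
  let q : PrimeSpectrum C → Ideal P := fun Q => (M Q).asIdeal.comap πS.toRingHom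
  have hqmax : ∀ Q, (q Q).IsMaximal := fun Q => by
    haveI := hMmax Q
    exact Ideal.comap_isMaximal_of_surjective _ hπS
  have hne : Pairwise (Function.onFun IsCoprime q) := by
    intro Q₁ Q₂ hQ
    refine (hqmax Q₁).coprime_of_ne (hqmax Q₂) (fun he => hQ ?_) |> Ideal.isCoprime_iff_sup_eq.2
    have h1 : (M Q₁).asIdeal = (M Q₂).asIdeal := Ideal.comap_injective_of_surjective _ hπS he
    exact PrimeSpectrum.ext (le_antisymm (le_of_comap_le (R := B) m h1.le) (le_of_comap_le (R := B) m h1.ge))
  have hgen : ∀ Q : PrimeSpectrum C, ∃ a : Fin n → P, (∀ i, a i ∈ I) ∧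
      ∀ (q₀ : Ideal P) [q₀.IsPrime], q₀ = q Q →
        I.map (algebraMap P (Localization.AtPrime q₀)) ≤ (Ideal.span (Set.range a)).map (algebraMap P (Localization.AtPrime q₀)) := by
    intro Q
    have hfl : Module.Flat A (Localization.AtPrime (M Q).asIdeal) := by
      haveI : Module.Flat B (Localization.AtPrime (M Q).asIdeal) := IsLocalization.flat _ (M Q).asIdeal.primeCompl
      exact Module.Flat.trans A B _
    obtain ⟨qb, _, rs, f, hrs, hfI, hIJ, -, -, hmax, hdim⟩ := exists_local_generators G πS hπS hG.symm (M Q) m (hMm Q) hfl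
      Q.asIdeal rfl (isCIOver_of_isLCIOver (hB.2.2 ⟨m, inferInstance⟩) Q.asIdeal)
    haveI := hmax inferInstance
    obtain ⟨h', d, hh', hd, hhd⟩ := exists_height_dim qb
    let _ := Ideal.Quotient.field qb
    rw [ringKrullDim_eq_zero_of_field] at hd
    have hd0 : d = 0 := by exact_mod_cast hd.symm
    rw [IsLocalization.AtPrime.ringKrullDim_eq_height qb (Localization.AtPrime qb), hh',
      IsLocalization.AtPrime.ringKrullDim_eq_height Q.asIdeal (Localization.AtPrime Q.asIdeal),
      (Ideal.height_eq_zero_iff (I := Q.asIdeal)).2 ?_] at hdim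
    · have hlen : rs.length = n := by
        have : (0 : ℕ) + rs.length = h' := by exact_mod_cast hdim
        omega
      refine ⟨fun i => f (Fin.cast hlen.symm i), fun i => hfI _, fun q₀ _ hq₀ => ?_⟩
      subst hq₀
      refine hIJ.trans (Ideal.map_mono (Ideal.span_mono ?_))
      rintro _ ⟨i, rfl⟩
      exact ⟨Fin.cast hlen i, by simp⟩
    · haveI : Ring.KrullDimLE 0 C := inferInstance
      exact Q.asIdeal.mem_minimalPrimes_of_krullDimLE_zero
  choose a haI hIa using hgen
  haveI : Fintype (PrimeSpectrum C) := Fintype.ofFinite _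
  have hcrt : ∀ Q, ∃ e : P, ∀ Q', e - (if Q' = Q then 1 else 0) ∈ q Q' := by
    intro Q
    obtain ⟨e, he⟩ := Ideal.exists_forall_sub_mem_ideal hne (fun Q' => if Q' = Q then (1 : P) else 0)
    exact ⟨e, he⟩
  choose e he using hcrt
  let f : Fin n → P := fun i => ∑ Q, e Q * a Q i
  let J := Ideal.span (Set.range f)
  have hJI : J ≤ I := Ideal.span_le.2 (Set.range_subset_iff.2 fun i => Ideal.sum_mem _ fun Q _ => I.mul_mem_left _ (haI Q i))
  have hg : ∀ Q, ∃ g ∉ q Q, ∀ x ∈ I, g * x ∈ J := by
    intro Q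
    haveI := (hqmax Q).isPrime
    let L := Localization.AtPrime (q Q)
    have hle : I.map (algebraMap P L) ≤ J.map (algebraMap P L) := by
      refine Submodule.le_of_le_smul_of_le_jacobson_bot (I := IsLocalRing.maximalIdeal L)
        (Ideal.FG.map (Submodule.fg_span (Set.finite_range G) : I.FG) _) (IsLocalRing.jacobson_eq_maximalIdeal ⊥ bot_ne_top).ge
        ((hIa Q (q Q) rfl).trans (Ideal.map_le_iff_le_comap.2 (Ideal.span_le.2 ?_)))
      rintro _ ⟨i, rfl⟩
      show algebraMap P L (a Q i) ∈ J.map (algebraMap P L) ⊔ IsLocalRing.maximalIdeal L • I.map (algebraMap P L)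
      have h1 : a Q i - f i ∈ q Q * I := by
        have : a Q i - f i = ∑ Q', ((if Q = Q' then 1 else 0) - e Q') * a Q' i := by
          simp [f, sub_mul, ite_mul, Finset.sum_sub_distrib]
        rw [this]
        exact Ideal.sum_mem _ fun Q' _ => Ideal.mul_mem_mul (by
          rw [← neg_sub]; exact (q Q).neg_mem (he Q' Q)) (haI Q' i)
      have h2 := Ideal.mem_map_of_mem (algebraMap P L) h1
      rw [Ideal.map_mul, Localization.AtPrime.map_eq_maximalIdeal, map_sub] at h2
      rw [show algebraMap P L (a Q i) = algebraMap P L (f i) + (algebraMap P L (a Q i) - algebraMap P L (f i)) by ring]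
      exact Submodule.add_mem_sup (Ideal.mem_map_of_mem _ (Ideal.subset_span ⟨i, rfl⟩)) h2
    exact exists_mul_mem (q Q).primeCompl L (Submodule.fg_span (Set.finite_range G)) hle
  choose g hgq hgI using hg
  let h := ∑ Q, e Q * g Q
  have hhI : ∀ x ∈ I, h * x ∈ J := fun x hx => by
    rw [Finset.sum_mul]
    exact Ideal.sum_mem _ fun Q _ => by rw [mul_assoc]; exact J.mul_mem_left _ (hgI Q x hx)
  have hu : IsUnit (πS h) := by
    by_contra hu
    obtain ⟨M₀, hM₀, hhM⟩ := exists_max_ideal_of_mem_nonunits hu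
    haveI := hM₀
    obtain ⟨Q, hQ⟩ := exists_prime_over (A := A) (p := m) C ⟨M₀, hM₀.isPrime⟩
      (IsLocalRing.eq_maximalIdeal (Ideal.isMaximal_comap_of_isIntegral_of_isMaximal (R := A) M₀)).symm
    have h1 : h ∈ q Q := by
      show πS h ∈ (M Q).asIdeal
      rw [show M Q = _ from hQ]
      exact hhM
    have h2 : h - g Q ∈ q Q := by
      have : h - g Q = ∑ Q', (e Q' - (if Q = Q' then 1 else 0)) * g Q' := by
        simp [h, sub_mul, ite_mul, Finset.sum_sub_distrib]
      rw [this]
      exact Ideal.sum_mem _ fun Q' _ => (q Q).mul_mem_right _ (he Q' Q)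
    exact hgq Q (by simpa using (q Q).sub_mem h1 h2)
  let π₀ : Synt.RelGCIRing A n n f →ₐ[A] B := Ideal.Quotient.liftₐ J πS fun z hz => hG.le (hJI hz)
  have hπ₀ : Function.Surjective π₀ := fun y => by
    obtain ⟨z, rfl⟩ := hπS y
    exact ⟨Ideal.Quotient.mk _ z, rfl⟩
  obtain ⟨e₁⟩ := exists_awayEquiv_of_kills' π₀ hπ₀ (Ideal.Quotient.mk J h) (fun z hz => by
    obtain ⟨z, rfl⟩ := Ideal.Quotient.mk_surjective z
    rw [← map_mul, Ideal.Quotient.eq_zero_iff_mem]
    exact hhI z (hG.ge hz))
  obtain ⟨e₂⟩ := exists_awayEquiv f h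
  let e₀ : B ≃ₐ[A] Localization.Away (π₀ (Ideal.Quotient.mk J h)) :=
    (IsLocalization.atUnits B (Submonoid.powers (π₀ (Ideal.Quotient.mk J h))) (by
      rintro _ ⟨k, rfl⟩; exact hu.pow k)).restrictScalars A
  exact ⟨n + 1, awayRel f h, ⟨(e₀.trans e₁.symm).trans e₂⟩⟩

end Groth.Agent.Synt15
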