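import Groth.Prelude.Def_W4stkdualitygroupp2Univ
import Mathlib

/-! The universal algebra of n equations in n variables is a polynomial ring over ℤ. -/

set_option autoImplicit false

open MvPolynomial

namespace Groth.Agent.Synt15.Univ

variable (n d : ℕ)

/-- The zero multi-index. -/
def z : Synt.UnivIdx n d := ⟨fun _ => 0, by simp⟩

theorem exponent_z : (z n d).exponent = 0 := by
  ext i; rfl

/-- The free variables. -/
abbrev Var : Type := (Fin n × {E : Synt.UnivIdx n d // E ≠ z n d}) ⊕ Fin n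

/-- The polynomial ring on the free variables. -/
abbrev Q : Type := MvPolynomial (Var n d) ℤ

/-- The non-constant part of the `i`-th equation, in the free variables. -/
noncomputable def rest (i : Fin n) : Q n d :=
  ∑ E : {E : Synt.UnivIdx n d // E ≠ z n d}, X (Sum.inl (i, E)) * E.1.exponent.prod fun j e => X (Sum.inr j) ^ e

/-- The values of the coefficients. -/
noncomputable def coef : Fin n × Synt.UnivIdx n d → Q n d := fun p =>
  if h : p.2 = z n d then - rest n d p.1 else X (Sum.inl (p.1, ⟨p.2, h⟩))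

/-- Elimination of the constant coefficients. -/
noncomputable def Φ : MvPolynomial (Fin n) (Synt.UnivBase n d) →+* Q n d :=
  eval₂Hom (aeval (coef n d)).toRingHom fun j => X (Sum.inr j)

theorem Φ_monomial (E : Synt.UnivIdx n d) (i : Fin n) :
    Φ n d (monomial E.exponent (X (i, E))) = coef n d (i, E) * E.exponent.prod fun j e => X (Sum.inr j) ^ e := by
  rw [Φ, eval₂Hom_monomial]
  congr 1
  exact aeval_X _ _

theorem Φ_univPoly (i : Fin n) : Φ n d (Synt.univPoly n d i) = 0 := by
  rw [Synt.univPoly, map_sum]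
  simp_rw [Φ_monomial]
  rw [Fintype.sum_eq_add_sum_subtype_ne _ (z n d), exponent_z, Finsupp.prod_zero_index, mul_one]
  have h1 : coef n d (i, z n d) = - rest n d i := dif_pos rfl
  rw [h1, rest, neg_add_eq_zero]
  exact Finset.sum_congr rfl fun E _ => by rw [coef, dif_neg E.2]

/-- The inverse of the elimination. -/
noncomputable def Ψ : Q n d →+* Synt.UnivAlg n d :=
  eval₂Hom (Int.castRingHom _) (Sum.elim (fun p => Synt.UnivAlg.mk n d (C (X (p.1, p.2.1))))
    fun j => Synt.UnivAlg.mk n d (X j))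

theorem Ψ_rest (i : Fin n) : Ψ n d (rest n d i) = - Synt.UnivAlg.mk n d (C (X (i, z n d))) := by
  have h0 : Synt.UnivAlg.mk n d (Synt.univPoly n d i) = 0 :=
    Ideal.Quotient.eq_zero_iff_mem.2 (Ideal.subset_span ⟨i, rfl⟩)
  rw [Synt.univPoly, map_sum, Fintype.sum_eq_add_sum_subtype_ne _ (z n d), exponent_z] at h0
  rw [eq_neg_iff_add_eq_zero, add_comm]
  refine Eq.trans ?_ h0
  refine congrArg₂ (· + ·) rfl ?_
  rw [rest, map_sum]
  refine Finset.sum_congr rfl fun E _ => ?_
  rw [monomial_eq, map_mul, map_mul]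
  refine congrArg₂ (· * ·) (eval₂Hom_X' _ _ _) ?_
  rw [map_finsuppProd, map_finsuppProd]
  exact Finsupp.prod_congr fun j _ => by rw [map_pow, map_pow]; exact congrArg (· ^ _) (eval₂Hom_X' _ _ _)

theorem Ψ_Φ : (Ψ n d).comp (Φ n d) = (Synt.UnivAlg.mk n d).toRingHom := by
  refine MvPolynomial.ringHom_ext (fun a => ?_) fun j => ?_
  · have h : ((Ψ n d).comp (Φ n d)).comp C = (Synt.UnivAlg.mk n d).toRingHom.comp C := by
      refine MvPolynomial.ringHom_ext (fun r => ?_) fun p => ?_
      · exact DFunLike.congr_fun (Subsingleton.elim (((Ψ n d).comp (Φ n d)).comp C |>.comp C)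
          ((Synt.UnivAlg.mk n d).toRingHom.comp C |>.comp C)) r
      · show Ψ n d (Φ n d (C (X p))) = Synt.UnivAlg.mk n d (C (X p))
        rw [Φ, eval₂Hom_C]
        show Ψ n d (aeval (coef n d) (X p)) = _
        rw [aeval_X, coef]
        obtain ⟨i, E⟩ := p
        by_cases hE : E = z n d
        · subst hE
          rw [dif_pos rfl, map_neg, Ψ_rest, neg_neg]
        · rw [dif_neg hE]
          exact eval₂Hom_X' _ _ _
    exact RingHom.congr_fun h a
  · show Ψ n d (Φ n d (X j)) = _
    rw [Φ, eval₂Hom_X']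
    exact eval₂Hom_X' _ _ _

theorem Φ_surjective : Function.Surjective (Φ n d) := by
  intro q
  induction q using MvPolynomial.induction_on with
  | C a => exact ⟨(a : MvPolynomial (Fin n) (Synt.UnivBase n d)), by rw [map_intCast]; exact (eq_intCast (C : ℤ →+* Q n d) a).symm⟩
  | add p q hp hq =>
    obtain ⟨p, rfl⟩ := hp
    obtain ⟨q, rfl⟩ := hq
    exact ⟨p + q, map_add _ _ _⟩
  | mul_X p v hp =>
    obtain ⟨p, rfl⟩ := hp
    rcases v with ⟨i, E⟩ | j
    · refine ⟨p * C (X (i, E.1)), ?_⟩
      rw [map_mul]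
      congr 1
      rw [Φ, eval₂Hom_C]
      show aeval (coef n d) (X (i, E.1)) = _
      rw [aeval_X, coef, dif_neg E.2]
    · refine ⟨p * X j, ?_⟩
      rw [map_mul]
      congr 1
      exact eval₂Hom_X' _ _ _

theorem ker_Φ : RingHom.ker (Φ n d) = Synt.univIdeal n d := by
  refine le_antisymm (fun p hp => ?_) (Ideal.span_le.2 ?_)
  · refine Ideal.Quotient.eq_zero_iff_mem.1 ?_
    show (Synt.UnivAlg.mk n d).toRingHom p = 0
    rw [← Ψ_Φ, RingHom.comp_apply, show Φ n d p = 0 from hp, map_zero]
  · rintro _ ⟨i, rfl⟩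
    exact Φ_univPoly n d i

/-- The universal algebra is a polynomial ring. -/
noncomputable def equivPoly : Synt.UnivAlg n d ≃+* Q n d :=
  (Ideal.quotEquivOfEq (ker_Φ n d).symm).trans (RingHom.quotientKerEquivOfSurjective (Φ_surjective n d))

end Groth.Agent.Synt15.Univ
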