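import Groth.Agent.Synt15.FieldScheme

/-! The complete intersection locus of the fibres and base change. -/

set_option autoImplicit false
set_option linter.style.haveILetI false
set_option backward.isDefEq.respectTransparency false

universe u

open CategoryTheory CategoryTheory.Limits AlgebraicGeometry IsLocalRing

namespace Groth.Agent.Synt15

variable {X S X' S' : Scheme.{u}} (f : X ⟶ S) [LocallyOfFiniteType f]

theorem ci_fiberStalk_baseChange (g : S' ⟶ S) (g' : X' ⟶ X) (f' : X' ⟶ S') (hsq : IsPullback g' f' f g)
    (x' : X') : Pi1.IsCompleteIntersection (CInt.fiberStalk f' x') ↔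
      Pi1.IsCompleteIntersection (CInt.fiberStalk f (g' x')) := by
  haveI : LocallyOfFiniteType f' := MorphismProperty.of_isPullback hsq ‹_›
  let s' : S' := f' x'
  let s : S := g s'
  letI : Algebra (S.residueField s) (S'.residueField s') := (g.residueFieldMap s').hom.toAlgebra
  let h := Spec.map (CommRingCat.ofHom (algebraMap (S.residueField s) (S'.residueField s')))
  let F := f.fiberToSpecResidueField s
  haveI : LocallyOfFiniteType F := MorphismProperty.pullback_snd _ _ ‹_›
  have hh : h ≫ S.fromSpecResidueField s = S'.fromSpecResidueField s' ≫ g :=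
    Scheme.Hom.SpecMap_residueFieldMap_fromSpecResidueField g s'
  have hbig : IsPullback (f'.fiberι s' ≫ g') (f'.fiberToSpecResidueField s') f
      (h ≫ S.fromSpecResidueField s) := by
    rw [hh]
    exact (IsPullback.of_hasPullback f' (S'.fromSpecResidueField s')).paste_horiz hsq
  let φ : f'.fiber s' ⟶ f.fiber s :=
    pullback.lift (f'.fiberι s' ≫ g') (f'.fiberToSpecResidueField s' ≫ h) (by rw [hbig.w, Category.assoc])
  have hφ1 : φ ≫ f.fiberι s = f'.fiberι s' ≫ g' := pullback.lift_fst _ _ _
  have hφ2 : φ ≫ F = f'.fiberToSpecResidueField s' ≫ h := pullback.lift_snd _ _ _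
  have hsmall : IsPullback φ (f'.fiberToSpecResidueField s') F h :=
    IsPullback.of_right (hφ1 ▸ hbig) hφ2 (IsPullback.of_hasPullback f (S.fromSpecResidueField s))
  let e : f'.fiber s' ≅ pullback F h := hsmall.isoPullback
  have he : e.hom ≫ pullback.fst F h = φ := hsmall.isoPullback_hom_fst
  let w := f'.asFiber x'
  have hw : f.fiberι s (φ w) = g' x' := by
    rw [← Scheme.Hom.comp_apply, hφ1, Scheme.Hom.comp_apply]
    exact congrArg g' (f'.fiberι_asFiber x')
  have hb := CAlgH.CIBaseChange.isCompleteIntersection_iff (k := S.residueField s) (k' := S'.residueField s') F (e.hom w)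
  have hfst : (pullback.fst F h) (e.hom w) = φ w := by rw [← Scheme.Hom.comp_apply, he]
  rw [← hw, CAlgH.CIMorphism.ci_fiberStalk_iff f s (φ w), ← hfst]
  refine Iff.trans ?_ hb.symm
  haveI := CAlgH.CIMorphism.isNoetherianRing_stalk_fiber f' s' w
  haveI := isNoetherianRing_of_ringEquiv _ (asIso (e.hom.stalkMap w)).commRingCatIsoToRingEquiv.symm
  exact (CAlgH.AvramovCI.isCompleteIntersection_iff_of_equiv
    (asIso (e.hom.stalkMap w)).commRingCatIsoToRingEquiv).symm

end Groth.Agent.Synt15
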