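import Groth.Agent.Synt15.RelCI
import Groth.Agent.SmoothLib.Quotient
import Groth.Agent.CAlgH.KoszulRegular
import Groth.Agent.CAlgH.KoszulH1

/-! The Jacobian criterion for relative global complete intersections. -/

set_option autoImplicit false
set_option linter.style.haveILetI false

universe u

open MvPolynomial TensorProduct KaehlerDifferential

namespace Groth.Agent.Synt15

/-- Independent rows have a nonzero maximal minor. -/
theorem exists_minor {K : Type u} [Field K] {c n : ℕ} (M : Matrix (Fin c) (Fin n) K)
    (h : LinearIndependent K M.row) : ∃ I : Fin c ↪ Fin n, (M.submatrix id I).det ≠ 0 := by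
  classical
  have hrank : M.rank = c := h.rank_matrix.trans (Fintype.card_fin c)
  have hcol : Submodule.span K (Set.range M.col) = ⊤ := by
    apply Submodule.eq_top_of_finrank_eq
    rw [← Matrix.rank_eq_finrank_span_cols, hrank, Module.finrank_fin_fun]
  obtain ⟨b, hb, hspan, hli⟩ := exists_linearIndependent K (Set.range M.col)
  haveI := hli.setFinite.fintype
  let bas : Module.Basis b K (Fin c → K) := Module.Basis.mk hli (by rw [Subtype.range_coe]; exact (hspan.trans hcol).ge)
  have hcard : Fintype.card b = c := by
    rw [← Module.finrank_eq_card_basis bas, Module.finrank_fin_fun]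
  choose idx hidx using fun x : b => hb x.2
  let e := (Fintype.equivFinOfCardEq hcard).symm
  refine ⟨⟨fun j => idx (e j), fun j j' hjj => e.injective (Subtype.ext ?_)⟩, ?_⟩
  · rw [← hidx (e j), ← hidx (e j'), show idx (e j) = idx (e j') from hjj]
  · have hI : LinearIndependent K (fun j => M.col (idx (e j))) := by
      have := hli.comp e e.injective
      have hfun : (fun j => M.col (idx (e j))) = (Subtype.val ∘ e : Fin c → Fin c → K) := funext fun j => hidx (e j)
      rw [hfun]
      exact this
    have := (Matrix.linearIndependent_cols_iff_isUnit (A := M.submatrix id fun j => idx (e j))).1 hI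
    rw [Matrix.isUnit_iff_isUnit_det, isUnit_iff_ne_zero] at this
    exact this

theorem rows_independent {K : Type u} [Field K] {c n : ℕ} (M : Matrix (Fin c) (Fin n) K) (I : Fin c ↪ Fin n)
    (h : (M.submatrix id I).det ≠ 0) : LinearIndependent K M.row := by
  have h1 : LinearIndependent K (M.submatrix id I).row :=
    Matrix.linearIndependent_rows_iff_isUnit.2 ((Matrix.isUnit_iff_isUnit_det _).2 (isUnit_iff_ne_zero.2 h))
  exact LinearIndependent.of_comp (LinearMap.funLeft K K I) h1

variable {R : Type u} [CommRing R] {n c : ℕ} {F : Fin c → MvPolynomial (Fin n) R}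

theorem linearIndependent_dF_iff (q : Ideal (MvPolynomial (Fin n) R)) [q.IsPrime] :
    LinearIndependent q.ResidueField
        (fun j : Fin c => (1 : q.ResidueField) ⊗ₜ[MvPolynomial (Fin n) R] D R (MvPolynomial (Fin n) R) (F j)) ↔
      ∃ I : Fin c ↪ Fin n, Matrix.det (Matrix.of fun j i => pderiv (I i) (F j)) ∉ q := by
  classical
  let K := q.ResidueField
  let b := (KaehlerDifferential.mvPolynomialBasis R (Fin n)).baseChange K
  let M : Matrix (Fin c) (Fin n) K := Matrix.of fun j i => algebraMap _ K (pderiv i (F j))
  let v : Fin c → K ⊗[MvPolynomial (Fin n) R] Ω[MvPolynomial (Fin n) R⁄R] :=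
    fun j => 1 ⊗ₜ D R (MvPolynomial (Fin n) R) (F j)
  have hrow : M.row = b.equivFun ∘ v := by
    funext j i
    simp [M, b, v, Matrix.row, Algebra.smul_def]
  have hiff : LinearIndependent K v ↔ LinearIndependent K M.row := by
    rw [hrow]
    exact (LinearMap.linearIndependent_iff b.equivFun.toLinearMap b.equivFun.ker).symm
  have hdet : ∀ I : Fin c ↪ Fin n, (M.submatrix id I).det ≠ 0 ↔
      Matrix.det (Matrix.of fun j i => pderiv (I i) (F j)) ∉ q := fun I => by
    rw [← Ideal.algebraMap_residueField_eq_zero (I := q), RingHom.map_det]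
    exact Iff.rfl
  rw [hiff]
  exact ⟨fun h => (exists_minor M h).imp fun I hI => (hdet I).1 hI,
    fun ⟨I, hI⟩ => rows_independent M I ((hdet I).2 hI)⟩

theorem isSmoothAt_relGCI_iff (hF : Synt.IsRelGCI R n c F) (P : Ideal (Synt.RelGCIRing R n c F)) [P.IsPrime] :
    Algebra.IsSmoothAt R P ↔ ∃ I : Fin c ↪ Fin n,
      Ideal.Quotient.mk (Ideal.span (Set.range F))
        (Matrix.det (Matrix.of fun j i => pderiv (I i) (F j))) ∉ P := by
  classical
  let A := MvPolynomial (Fin n) R
  let q : Ideal A := P.comap (Ideal.Quotient.mk (Ideal.span (Set.range F)))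
  have hFq : Ideal.span (Set.range F) ≤ q := fun x hx => by
    show Ideal.Quotient.mk _ x ∈ P
    rw [Ideal.Quotient.eq_zero_iff_mem.2 hx]
    exact zero_mem _
  haveI : Algebra.FormallySmooth A (Localization.AtPrime q) := Algebra.FormallySmooth.of_isLocalization q.primeCompl
  haveI : Algebra.IsSmoothAt R q := Algebra.FormallySmooth.comp R A (Localization.AtPrime q)
  have h0 : ∀ x ∈ Ideal.span (Set.range F), algebraMap A q.ResidueField x = 0 := fun x hx =>
    Ideal.algebraMap_residueField_eq_zero.2 (hFq hx)
  refine Iff.trans ?_ (linearIndependent_dF_iff (F := F) q)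
  rw [SmoothLib.isSmoothAt_quotient_iff (Ideal.span (Set.range F)) (Submodule.fg_span (Set.finite_range F)) P q rfl]
  constructor
  · rintro ⟨s, hsI, hgen, hli⟩
    let L := Localization.AtPrime q
    let v : Fin c → q.ResidueField ⊗[A] Ω[A⁄R] := fun j => 1 ⊗ₜ D R A (F j)
    have hcs : c ≤ s.card := by
      have hk : CAlgH.KoszulRegular.KReg fun i => algebraMap A L (F i) := by
        refine CAlgH.KoszulH1.kreg_of_isWeaklyRegular ?_
        have := (isRegular_localization hF q hFq).toIsWeaklyRegular
        rwa [List.map_ofFn] at this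
      have hne : (Ideal.span (Set.range F)).map (algebraMap A L) ≠ ⊤ := fun htop =>
        (IsLocalRing.maximalIdeal.isMaximal L).ne_top (top_le_iff.1 (htop.ge.trans (by
          rw [← Localization.AtPrime.map_eq_maximalIdeal]
          exact Ideal.map_mono hFq)))
      refine CAlgH.KoszulRegular.le_of_generators hne hk (by rw [Ideal.map_span, ← Set.range_comp]; rfl)
        (fun i : Fin s.card => algebraMap A L (s.equivFin.symm i).1) ?_
      rw [hgen]
      congr 1
      ext z
      constructor
      · rintro ⟨i, rfl⟩; exact ⟨_, (s.equivFin.symm i).2, rfl⟩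
      · rintro ⟨a, ha, rfl⟩; exact ⟨s.equivFin ⟨a, ha⟩, by simp; rfl⟩
    have hmem : ∀ a ∈ Ideal.span (Set.range F),
        (1 : q.ResidueField) ⊗ₜ[A] D R A a ∈ Submodule.span q.ResidueField (Set.range v) := by
      intro a ha
      induction ha using Submodule.span_induction with
      | mem x hx => obtain ⟨j, rfl⟩ := hx; exact Submodule.subset_span ⟨j, rfl⟩
      | zero => rw [map_zero, tmul_zero]; exact zero_mem _
      | add x y _ _ hx hy => rw [map_add, tmul_add]; exact add_mem hx hy
      | smul r x hxI hx =>
        rw [smul_eq_mul, Derivation.leibniz, tmul_add, ← smul_tmul, ← smul_tmul,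
          Algebra.smul_def, Algebra.smul_def, mul_one, mul_one, h0 x hxI, zero_tmul, add_zero,
          show algebraMap A q.ResidueField r = algebraMap A q.ResidueField r • (1 : q.ResidueField) by rw [smul_eq_mul, mul_one],
          ← smul_tmul']
        exact Submodule.smul_mem _ _ hx
    rw [linearIndependent_iff_card_le_finrank_span, Fintype.card_fin]
    refine hcs.trans ?_
    rw [← Fintype.card_coe, ← finrank_span_eq_card hli]
    haveI : Module.Finite q.ResidueField (Submodule.span q.ResidueField (Set.range v)) :=
      Module.Finite.span_of_finite _ (Set.finite_range v)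
    refine Submodule.finrank_mono (Submodule.span_le.2 ?_)
    rintro _ ⟨g, rfl⟩
    exact hmem g.1 (hsI g.2)
  · intro hli
    have hinj : Function.Injective F := fun i j hij => hli.injective (by simp only [hij])
    refine ⟨Finset.univ.image F, fun a ha => ?_, ?_, ?_⟩
    · obtain ⟨j, -, rfl⟩ := Finset.mem_image.1 ha
      exact Ideal.subset_span ⟨j, rfl⟩
    · rw [Ideal.map_span, Finset.coe_image, Finset.coe_univ, Set.image_univ]
    · let σ : ↥(Finset.univ.image F) → Fin c := fun g => (Finset.mem_image.1 g.2).choose
      have hσ : ∀ g, F (σ g) = g.1 := fun g => (Finset.mem_image.1 g.2).choose_spec.2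
      convert hli.comp σ (fun g g' h => Subtype.ext (by rw [← hσ g, ← hσ g', h])) using 1
      funext g
      show _ = (1 : q.ResidueField) ⊗ₜ[A] D R A (F (σ g))
      rw [hσ]

end Groth.Agent.Synt15
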