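import Groth.Prelude.Def_RegImm
import Groth.Agent.DimLib.Algebra
import Mathlib.RingTheory.RegularLocalRing.Polynomial
import Mathlib.RingTheory.KrullDimension.Polynomial
import Mathlib.RingTheory.Ideal.KrullsHeightTheorem

/-! Dimension theory of quotients of polynomial rings over a field. -/

set_option autoImplicit false
set_option linter.unusedSectionVars false
set_option linter.style.haveILetI false

universe u

open MvPolynomial

namespace Groth.Agent.Synt15

variable {k : Type u} [Field k] {n : ℕ}

theorem isRegularLocalRing_atPrime (p : Ideal (MvPolynomial (Fin n) k)) [p.IsPrime] :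
    IsRegularLocalRing (Localization.AtPrime p) :=
  isRegularRing_iff.mp inferInstance p

theorem ringKrullDim_poly : ringKrullDim (MvPolynomial (Fin n) k) = (n : WithBot ℕ∞) := by
  rw [MvPolynomial.ringKrullDim_of_isNoetherianRing, ringKrullDim_eq_zero_of_field, Nat.card_fin, zero_add]

/-- Numerical values of height and dimension of a prime of a polynomial ring. -/
theorem exists_height_dim (p : Ideal (MvPolynomial (Fin n) k)) [p.IsPrime] :
    ∃ h d : ℕ, p.height = (h : ℕ∞) ∧ ringKrullDim (MvPolynomial (Fin n) k ⧸ p) = (d : WithBot ℕ∞) ∧ h + d = n := by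
  obtain ⟨d, hd⟩ := DimLib.exists_nat_ringKrullDim (k := k) (A := MvPolynomial (Fin n) k ⧸ p)
  obtain ⟨h, hh⟩ := ENat.ne_top_iff_exists.1 (Ideal.height_ne_top_of_isPrime (I := p))
  refine ⟨h, d, hh.symm, hd, ?_⟩
  have := DimLib.height_add_ringKrullDim_quotient (k := k) p
  rw [← hh, hd, ringKrullDim_poly] at this
  exact_mod_cast this

theorem height_le_length {R : Type u} [CommRing R] [IsNoetherianRing R] {c : ℕ} (r : Fin c → R) {p : Ideal R}
    (hp : p ∈ (Ideal.span (Set.range r)).minimalPrimes) : p.height ≤ c := by
  refine (Ideal.height_le_card_of_mem_minimalPrimes_span (Set.finite_range r) hp).trans ?_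
  have := Set.ncard_image_le (f := r) (s := Set.univ)
  rw [Set.image_univ, Set.ncard_univ, Nat.card_fin] at this
  exact_mod_cast this

end Groth.Agent.Synt15
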