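import Groth.Prelude.Def_RegImm
import Groth.Agent.Synt15.PolyDim
import Mathlib.RingTheory.RingHom.Surjective

/-! Local rings of quotients of polynomial rings. -/

set_option autoImplicit false
set_option linter.unusedSectionVars false
set_option linter.style.haveILetI false

universe u

namespace Groth.Agent.Synt15

variable {k : Type u} [CommRing k]

/-- The localisation of a surjection at a prime. -/
theorem exists_localMap {P S : Type u} [CommRing P] [CommRing S] [Algebra k P] [Algebra k S] (π : P →ₐ[k] S)
    (hπ : Function.Surjective π) (q : Ideal S) [q.IsPrime] :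
    ∃ f : Localization.AtPrime (q.comap π.toRingHom) →ₐ[k] Localization.AtPrime q, Function.Surjective f ∧
      RingHom.ker f.toRingHom =
        (RingHom.ker π.toRingHom).map (algebraMap P (Localization.AtPrime (q.comap π.toRingHom))) := by
  let l := Localization.localRingHom (q.comap π.toRingHom) q π.toRingHom rfl
  have hT : Submonoid.map π.toRingHom (q.comap π.toRingHom).primeCompl = q.primeCompl := by
    ext y
    refine ⟨fun ⟨x, hx, hxy⟩ => hxy ▸ hx, fun hy => ?_⟩
    obtain ⟨x, rfl⟩ := hπ y
    exact ⟨x, hy, rfl⟩
  refine ⟨{ l with commutes' := fun r => ?_ }, RingHom.surjective_localRingHom_of_surjective π.toRingHom hπ q,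
    IsLocalization.ker_map (S := Localization.AtPrime (q.comap π.toRingHom)) (Localization.AtPrime q)
      π.toRingHom hT⟩
  show l (algebraMap k _ r) = _
  rw [IsScalarTower.algebraMap_apply k P (Localization.AtPrime (q.comap π.toRingHom)),
    IsScalarTower.algebraMap_apply k S (Localization.AtPrime q)]
  exact (Localization.localRingHom_to_map _ _ _ _ _).trans (congrArg _ (π.commutes r))

variable {K : Type u} [Field K]

/-- A local algebra essentially of finite type over a field is a quotient of a local ring of a polynomial ring. -/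
theorem exists_pres (A : Type u) [CommRing A] [IsLocalRing A] [Algebra K A] [Algebra.EssFiniteType K A] :
    ∃ (n : ℕ) (p : Ideal (MvPolynomial (Fin n) K)) (_ : p.IsPrime) (f : Localization.AtPrime p →ₐ[K] A),
      Function.Surjective f := by
  let B := Algebra.EssFiniteType.subalgebra K A
  obtain ⟨n, g, hg⟩ := Algebra.FiniteType.iff_quotient_mvPolynomial''.1 (inferInstance : Algebra.FiniteType K B)
  let p : Ideal (MvPolynomial (Fin n) K) := (IsLocalRing.maximalIdeal A).comap (B.val.comp g).toRingHom
  have hu : ∀ y : p.primeCompl, IsUnit ((B.val.comp g) y) := fun y => by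
    by_contra h
    exact y.2 ((IsLocalRing.mem_maximalIdeal _).2 h)
  let f : Localization.AtPrime p →ₐ[K] A :=
    IsLocalization.liftAlgHom (M := p.primeCompl) (S := Localization.AtPrime p) (f := B.val.comp g) hu
  refine ⟨n, p, inferInstance, f, fun a => ?_⟩
  obtain ⟨b, s, rfl⟩ := IsLocalization.exists_mk'_eq (Algebra.EssFiniteType.submonoid K A) a
  obtain ⟨x, hx⟩ := hg b
  obtain ⟨y, hy⟩ := hg s.1
  have hsu : IsUnit (algebraMap B A s) := IsLocalization.map_units A s
  have hyp : y ∈ p.primeCompl := fun h => by
    have : (B.val (g y)) ∈ IsLocalRing.maximalIdeal A := h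
    rw [hy] at this
    exact (IsLocalRing.mem_maximalIdeal _).1 this hsu
  refine ⟨IsLocalization.mk' (Localization.AtPrime p) x ⟨y, hyp⟩, ?_⟩
  apply hsu.mul_left_cancel
  rw [IsLocalization.mk'_spec']
  have h1 := IsLocalization.mk'_spec (Localization.AtPrime p) x (⟨y, hyp⟩ : p.primeCompl)
  have h2 := congrArg f h1
  rw [map_mul] at h2
  have hfa : ∀ z, f (algebraMap _ (Localization.AtPrime p) z) = B.val (g z) := fun z => by
    simp [f, IsLocalization.liftAlgHom_apply, IsLocalization.lift_eq]
  rw [hfa, hfa, hy, hx] at h2
  rw [mul_comm]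
  exact h2

end Groth.Agent.Synt15
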