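import Groth.Prelude.Def_RegImm
import Groth.Prelude.Def_CInt
import Groth.Agent.Synt15.Away
import Groth.Agent.Synt15.LocalPres
import Groth.Agent.Synt15.PolyDim
import Groth.Agent.CAlgH.Avramov
import Groth.Agent.CAlgH.CIPresentation
import Groth.Agent.CAlgH3.CMRing
import Groth.Agent.CAlgH3.DimIneq

/-! Complete intersections of finite type over a field. -/

set_option autoImplicit false
set_option linter.unusedSectionVars false
set_option linter.style.haveILetI false

universe u

open MvPolynomial IsLocalRing RingTheory.Sequence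

namespace Groth.Agent.Synt15

/-! ### Invariance -/

theorem isGlobalCI_congr {k S T : Type u} [Field k] [CommRing S] [Algebra k S] [CommRing T] [Algebra k T]
    (e : S ≃ₐ[k] T) (h : Synt.IsGlobalCI k S) : Synt.IsGlobalCI k T := by
  rcases h with h | ⟨n, c, hc, φ, r, hφ, hker, hdim⟩
  · exact Or.inl e.symm.injective.subsingleton
  · refine Or.inr ⟨n, c, hc, e.toAlgHom.comp φ, r, e.surjective.comp hφ, ?_, ?_⟩
    · rw [← hker]
      ext x
      exact map_eq_zero_iff e e.injective
    · rw [← hdim]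
      exact (ringKrullDim_eq_of_ringEquiv e.toRingEquiv).symm

theorem isCIOver_congr {k S T : Type u} [Field k] [CommRing S] [IsLocalRing S] [Algebra k S] [CommRing T]
    [IsLocalRing T] [Algebra k T] (e : S ≃ₐ[k] T) (h : Synt.IsCIOver k S) : Synt.IsCIOver k T := by
  obtain ⟨R, i₁, i₂, i₃, hR, rs, hm, hrs, ⟨f⟩⟩ := h
  exact ⟨R, i₁, i₂, i₃, hR, rs, hm, hrs, ⟨e.symm.trans f⟩⟩

variable {k : Type u} [Field k]

/-- A surjection from a regular local algebra with kernel generated by a regular sequence. -/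
theorem isCIOver_of_surjective {A : Type u} [CommRing A] [IsLocalRing A] [Algebra k A] {R : Type u} [CommRing R]
    [IsRegularLocalRing R] [Algebra k R] [Algebra.EssFiniteType k R] (π : R →ₐ[k] A)
    (hπ : Function.Surjective π) (h : CInt.IsRegularIdeal (RingHom.ker π.toRingHom)) : Synt.IsCIOver k A := by
  obtain ⟨rs, hrs, hker⟩ := h
  exact ⟨R, inferInstance, inferInstance, inferInstance, inferInstance, rs,
    CAlgH.RegularIdealLocal.mem_of_isRegular hrs, hrs,
    ⟨((Ideal.quotientEquivAlgOfEq k (show Ideal.ofList rs = RingHom.ker π from hker)).trans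
      (Ideal.quotientKerAlgEquivOfSurjective hπ)).symm⟩⟩

/-- The notion over a field agrees with the absolute one. -/
theorem isCIOver_iff (A : Type u) [CommRing A] [IsLocalRing A] [Algebra k A] [Algebra.EssFiniteType k A] :
    Synt.IsCIOver k A ↔ Pi1.IsCompleteIntersection A := by
  have : IsNoetherianRing A := Algebra.EssFiniteType.isNoetherianRing k A
  constructor
  · rintro ⟨R, _, _, _, _, rs, -, hrs, ⟨e⟩⟩
    let f : R →+* A := e.symm.toRingHom.comp (Ideal.Quotient.mk _)
    refine (CAlgH.CIPresentation.isCompleteIntersection_iff f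
      (e.symm.surjective.comp Ideal.Quotient.mk_surjective)).2 ⟨rs, hrs, ?_⟩
    ext x
    show _ ↔ e.symm (Ideal.Quotient.mk _ x) = 0
    rw [map_eq_zero_iff _ e.symm.injective, Ideal.Quotient.eq_zero_iff_mem]
  · intro h
    obtain ⟨n, p, _, f, hf⟩ := exists_pres (K := k) A
    have := isRegularLocalRing_atPrime p
    exact isCIOver_of_surjective f hf
      ((CAlgH.CIPresentation.isCompleteIntersection_iff f.toRingHom hf).1 h)

/-- A regular local algebra essentially of finite type is a complete intersection. -/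
theorem isCIOver_of_regular (A : Type u) [CommRing A] [IsRegularLocalRing A] [Algebra k A]
    [Algebra.EssFiniteType k A] : Synt.IsCIOver k A :=
  ⟨A, inferInstance, inferInstance, inferInstance, inferInstance, [], by simp, IsRegular.nil A A,
    ⟨((Ideal.quotientEquivAlgOfEq k (Ideal.ofList_nil (R := A))).trans (AlgEquiv.quotientBot k A)).symm⟩⟩

/-! ### Global complete intersections are complete intersections at all primes -/

theorem ofList_ofFn {R : Type u} [CommRing R] {c : ℕ} (r : Fin c → R) :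
    Ideal.ofList (List.ofFn r) = Ideal.span (Set.range r) := by
  simp only [Ideal.ofList]
  congr 1
  ext x
  simp [List.mem_ofFn, Set.mem_range]

theorem isCIOver_of_isGlobalCI {S : Type u} [CommRing S] [Algebra k S] (h : Synt.IsGlobalCI k S) (q : Ideal S)
    [hq : q.IsPrime] : Synt.IsCIOver k (Localization.AtPrime q) := by
  rcases h with h | ⟨n, c, hcn, φ, r, hφ, hker, hdim⟩
  · exact absurd (Subsingleton.elim (1 : S) 0) fun h1 => hq.ne_top ((Ideal.eq_top_iff_one q).2 (h1 ▸ q.zero_mem))
  have : IsNoetherianRing S := isNoetherianRing_of_surjective _ _ φ.toRingHom hφ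
  let q' := q.comap φ.toRingHom
  let R := Localization.AtPrime q'
  have : IsRegularLocalRing R := isRegularLocalRing_atPrime q'
  obtain ⟨f, hf, hfk⟩ := exists_localMap φ hφ q
  refine isCIOver_of_surjective f hf ?_
  let rs : List R := List.ofFn fun i => algebraMap _ R (r i)
  have hl : Ideal.ofList rs = RingHom.ker f.toRingHom := by
    rw [hfk, hker, ofList_ofFn, Ideal.map_span, ← Set.range_comp]
    rfl
  refine ⟨rs, CAlgH.Avramov.isRegular_of_dim (fun x hx => le_maximalIdeal (RingHom.ker_ne_top f.toRingHom)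
    (hl ▸ Ideal.subset_span hx)) ?_, hl⟩
  rw [ringKrullDim_eq_of_ringEquiv ((Ideal.quotEquivOfEq hl).trans (RingHom.quotientKerEquivOfSurjective hf)),
    IsLocalization.AtPrime.ringKrullDim_eq_height q' R,
    IsLocalization.AtPrime.ringKrullDim_eq_height q (Localization.AtPrime q), List.length_ofFn]
  obtain ⟨h', d, hh', hd, hhd⟩ := exists_height_dim q'
  obtain ⟨a, ha⟩ := ENat.ne_top_iff_exists.1 (Ideal.height_ne_top_of_isPrime (I := q))
  let ψ : MvPolynomial (Fin n) k →+* S ⧸ q := (Ideal.Quotient.mk q).comp φ.toRingHom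
  have hψ : Function.Surjective ψ := Ideal.Quotient.mk_surjective.comp hφ
  have hψk : RingHom.ker ψ = q' := by
    ext x
    exact Ideal.Quotient.eq_zero_iff_mem
  have h1 := CAlgH3.height_add_ringKrullDim_quotient_le q
  rw [← ha, hdim, ← ringKrullDim_eq_of_ringEquiv
    ((Ideal.quotEquivOfEq hψk.symm).trans (RingHom.quotientKerEquivOfSurjective hψ)), hd] at h1
  rw [hh', ← ha]
  norm_cast at h1 ⊢
  have h1' : a + d ≤ n - c := by exact_mod_cast h1
  exact_mod_cast (by omega : a + c ≤ h')

/-! ### A criterion for global complete intersections -/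

theorem le_ringKrullDim_relGCI {n c : ℕ} (F : Fin c → MvPolynomial (Fin n) k)
    [hA : Nontrivial (Synt.RelGCIRing k n c F)] :
    ((n - c : ℕ) : WithBot ℕ∞) ≤ ringKrullDim (Synt.RelGCIRing k n c F) := by
  classical
  let A := Synt.RelGCIRing k n c F
  obtain ⟨M, hM⟩ := Ideal.exists_maximal A
  let π : MvPolynomial (Fin n) k →ₐ[k] A := Ideal.Quotient.mkₐ k _
  have hπ : Function.Surjective π := Ideal.Quotient.mkₐ_surjective k _
  let M' := M.comap π.toRingHom
  have hM' : M'.IsMaximal := Ideal.comap_isMaximal_of_surjective _ hπ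
  let R := Localization.AtPrime M'
  obtain ⟨f, hf, hfk⟩ := exists_localMap π hπ M
  obtain ⟨h', d, hh', hd, hhd⟩ := exists_height_dim M'
  let _ := Ideal.Quotient.field M'
  have hd0 : d = 0 := by
    rw [ringKrullDim_eq_zero_of_field] at hd
    exact_mod_cast hd.symm
  let s : Finset R := Finset.univ.image fun i => algebraMap _ R (F i)
  have hs : Ideal.span (s : Set R) = RingHom.ker f.toRingHom := by
    rw [hfk, show RingHom.ker π.toRingHom = Ideal.span (Set.range F) from Ideal.Quotient.mkₐ_ker k _,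
      Ideal.map_span, Finset.coe_image, Finset.coe_univ, Set.image_univ, ← Set.range_comp]
    rfl
  have h1 := ringKrullDim_le_ringKrullDim_quotient_add_card s (by
    rw [IsLocalRing.ringJacobson_eq_maximalIdeal]
    exact fun x hx => le_maximalIdeal (RingHom.ker_ne_top f.toRingHom) (hs ▸ Ideal.subset_span hx))
  let e₀ : (R ⧸ Ideal.span (s : Set R)) ≃+* Localization.AtPrime M :=
    (Ideal.quotEquivOfEq hs).trans (RingHom.quotientKerEquivOfSurjective hf)
  have he₀ : ringKrullDim (R ⧸ Ideal.span (s : Set R)) = ringKrullDim (Localization.AtPrime M) :=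
    ringKrullDim_eq_of_ringEquiv e₀
  rw [he₀,
    IsLocalization.AtPrime.ringKrullDim_eq_height M' R, hh',
    IsLocalization.AtPrime.ringKrullDim_eq_height M (Localization.AtPrime M)] at h1
  obtain ⟨a, ha⟩ := ENat.ne_top_iff_exists.1 (Ideal.height_ne_top_of_isPrime (I := M))
  have h2 : s.card ≤ c := Finset.card_image_le.trans (by simp)
  rw [← ha] at h1
  have h3 : h' ≤ a + s.card := by exact_mod_cast h1
  refine le_trans ?_ (Ideal.height_le_ringKrullDim_of_ne_top hM.ne_top)
  rw [← ha]
  have h5 : n - c ≤ a := by omega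
  exact WithBot.coe_le_coe.2 (Nat.cast_le.2 h5)

theorem isGlobalCI_of_dim_le {n c : ℕ} (hc : c ≤ n) (F : Fin c → MvPolynomial (Fin n) k)
    (h : ringKrullDim (Synt.RelGCIRing k n c F) ≤ ((n - c : ℕ) : WithBot ℕ∞)) :
    Synt.IsGlobalCI k (Synt.RelGCIRing k n c F) := by
  classical
  let A := Synt.RelGCIRing k n c F
  rcases subsingleton_or_nontrivial A with hA | hA
  · exact Or.inl hA
  exact Or.inr ⟨n, c, hc, Ideal.Quotient.mkₐ k _, F, Ideal.Quotient.mkₐ_surjective k _,
    Ideal.Quotient.mkₐ_ker k _, le_antisymm h (le_ringKrullDim_relGCI F)⟩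

theorem krullDim_le_of_strictMono {α β : Type*} [Preorder α] [Preorder β] (i : α → β) (hi : StrictMono i)
    {n c : ℕ} (hlo : ∀ x, (c : ℕ∞) ≤ Order.height (i x)) (hhi : ∀ y : β, Order.height y ≤ n) :
    Order.krullDim α ≤ ((n - c : ℕ) : WithBot ℕ∞) := by
  refine iSup_le fun l => ?_
  obtain ⟨L, hL, hLl⟩ := Order.exists_series_of_le_height (i l.head) (hlo l.head)
  have h1 : ((c + l.length : ℕ) : ℕ∞) ≤ (n : ℕ∞) := by
    refine le_trans (le_of_eq ?_) ((Order.length_le_height_last (p := L.smash (l.map i hi) ?_)).trans (hhi _))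
    · simp [hLl, RelSeries.smash, LTSeries.map]
    · rw [hL, LTSeries.head_map]
  have h2 : c + l.length ≤ n := by exact_mod_cast h1
  exact_mod_cast (by omega : l.length ≤ n - c)

theorem isGlobalCI_localizationAway {S : Type u} [CommRing S] [Algebra k S] (hS : Synt.IsGlobalCI k S) (g : S) :
    Synt.IsGlobalCI k (Localization.Away g) := by
  rcases hS with hS | ⟨n, c, hc, φ, r, hφ, hker, hdim⟩
  · have h1 : (1 : S) = 0 := Subsingleton.elim _ _
    exact Or.inl (subsingleton_of_zero_eq_one
      (by rw [← map_zero (algebraMap S (Localization.Away g)), ← h1, map_one]))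
  let e : Synt.RelGCIRing k n c r ≃ₐ[k] S :=
    (Ideal.quotientEquivAlgOfEq k hker.symm).trans (Ideal.quotientKerAlgEquivOfSurjective hφ)
  obtain ⟨h, hh⟩ := hφ g
  let g' : Synt.RelGCIRing k n c r := Ideal.Quotient.mk _ h
  have hg' : e g' = g := hh
  obtain ⟨e'⟩ := exists_awayEquiv r h
  let e'' : Localization.Away g' ≃ₐ[k] Localization.Away g :=
    IsLocalization.algEquivOfAlgEquiv (M := Submonoid.powers g') (T := Submonoid.powers g)
      (Localization.Away g') (Localization.Away g) e ((Submonoid.map_powers _ g').trans (congrArg Submonoid.powers hg'))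
  refine isGlobalCI_congr (e'.symm.trans e'') (isGlobalCI_of_dim_le (Nat.add_le_add_right hc 1) _ ?_)
  rw [Nat.add_sub_add_right, ← hdim, ringKrullDim_eq_of_ringEquiv (e'.symm.trans e'').toRingEquiv]
  exact Order.krullDim_le_of_strictMono (PrimeSpectrum.comap (algebraMap S (Localization.Away g)))
    (fun a b hab => lt_of_le_of_ne (Ideal.comap_mono hab.le) fun heq => hab.ne
      (PrimeSpectrum.localization_comap_injective _ (Submonoid.powers g) heq))

/-! ### A complete intersection point has a global complete intersection neighbourhood -/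

/-- Localising kills the part of the kernel killed by the inverted element. -/
theorem exists_awayEquiv_of_kills {T S : Type u} [CommRing T] [Algebra k T] [CommRing S] [Algebra k S]
    (π : T →ₐ[k] S) (hπ : Function.Surjective π) (a : T) (ha : ∀ z, π z = 0 → a * z = 0) :
    Nonempty (Localization.Away a ≃ₐ[k] Localization.Away (π a)) := by
  let ψ : Localization.Away a →ₐ[k] Localization.Away (π a) := IsLocalization.Away.mapₐ _ _ π a
  have hψa : ∀ t, ψ (algebraMap T _ t) = algebraMap S _ (π t) := fun t => by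
    simp [ψ, IsLocalization.Away.map]
  refine ⟨AlgEquiv.ofBijective ψ ⟨?_, fun s => ?_⟩⟩
  · refine (injective_iff_map_eq_zero _).2 fun z hz => ?_
    obtain ⟨t, s, rfl⟩ := IsLocalization.exists_mk'_eq (Submonoid.powers a) z
    have h1 := congrArg ψ (IsLocalization.mk'_spec (Localization.Away a) t s)
    rw [map_mul, hz, zero_mul, hψa] at h1
    obtain ⟨⟨_, m, rfl⟩, hm⟩ := (IsLocalization.map_eq_zero_iff (Submonoid.powers (π a)) _ _).1 h1.symm
    rw [IsLocalization.mk'_eq_zero_iff]
    refine ⟨⟨a ^ (m + 1), m + 1, rfl⟩, ?_⟩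
    show a ^ (m + 1) * t = 0
    rw [pow_succ', mul_assoc]
    exact ha _ (by rw [map_mul, map_pow]; exact hm)
  · obtain ⟨b, ⟨_, m, rfl⟩, rfl⟩ := IsLocalization.exists_mk'_eq (Submonoid.powers (π a)) s
    obtain ⟨t, rfl⟩ := hπ b
    refine ⟨IsLocalization.mk' _ t (⟨a ^ m, m, rfl⟩ : Submonoid.powers a), ?_⟩
    refine IsLocalization.eq_mk'_iff_mul_eq.2 ?_
    have h1 := congrArg ψ (IsLocalization.mk'_spec (Localization.Away a) t (⟨a ^ m, m, rfl⟩ : Submonoid.powers a))
    rw [map_mul, hψa, hψa, map_pow] at h1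
    exact h1

theorem exists_mul_mem {P : Type u} [CommRing P] (M : Submonoid P) (A : Type u) [CommRing A] [Algebra P A]
    [IsLocalization M A] {I J : Ideal P} (hI : I.FG) (h : I.map (algebraMap P A) ≤ J.map (algebraMap P A)) :
    ∃ g ∈ M, ∀ a ∈ I, g * a ∈ J := by
  classical
  obtain ⟨s, rfl⟩ := hI
  have : ∀ a : s, ∃ t ∈ M, t * (a : P) ∈ J := fun a => by
    have h1 := h (Ideal.mem_map_of_mem _ (Submodule.subset_span a.2))
    rwa [IsLocalization.algebraMap_mem_map_algebraMap_iff M] at h1
  choose t ht htm using this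
  refine ⟨∏ a, t a, prod_mem fun a _ => ht a, fun a ha => ?_⟩
  refine (Submodule.span_le.2 ?_ : Submodule.span P (s : Set P) ≤
    Submodule.comap (LinearMap.mulLeft P (∏ a, t a)) J) ha
  intro a ha
  show (∏ b, t b) * a ∈ J
  rw [← Finset.mul_prod_erase _ _ (Finset.mem_univ (⟨a, ha⟩ : s)), mul_comm (t _), mul_assoc]
  exact J.mul_mem_left _ (htm ⟨a, ha⟩)

theorem exists_nat_dim (A : Type u) [CommRing A] [IsLocalRing A] [IsNoetherianRing A] :
    ∃ x : ℕ, ringKrullDim A = (x : WithBot ℕ∞) := by
  obtain ⟨x, hx⟩ := ENat.ne_top_iff_exists.1 (Ideal.height_ne_top_of_isPrime (I := maximalIdeal A))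
  exact ⟨x, by rw [← IsLocalRing.maximalIdeal_height_eq_ringKrullDim, ← hx]; rfl⟩

theorem height_ge_of_regular {P R : Type u} [CommRing P] [CommRing R] [Algebra P R] [IsRegularLocalRing R]
    (M : Submonoid P) [IsLocalization M R] {rs : List R} (hrs : IsRegular R rs) {p : Ideal P} [p.IsPrime]
    (hd : Disjoint (M : Set P) p) (hle : Ideal.ofList rs ≤ p.map (algebraMap P R)) :
    (rs.length : ℕ∞) ≤ p.height := by
  let p' := p.map (algebraMap P R)
  have : p'.IsPrime := IsLocalization.isPrime_of_isPrime_disjoint M R p inferInstance hd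
  have hu : p'.under P = p := IsLocalization.under_map_of_isPrime_disjoint M R inferInstance hd
  rw [← hu, IsLocalization.height_under M p']
  have : _root_.LocCoh.IsCohenMacaulayLocalRing R := CAlgH3.isCohenMacaulayLocalRing_of_regular R
  have h1 := CAlgH3.height_add_ringKrullDim_quotient p'
  have h2 := ringKrullDim_add_length_eq_ringKrullDim_of_isRegular rs hrs
  have h3 : ringKrullDim (R ⧸ p') ≤ ringKrullDim (R ⧸ Ideal.ofList rs) :=
    ringKrullDim_le_of_surjective (Ideal.Quotient.factor hle) (Ideal.Quotient.factor_surjective hle)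
  obtain ⟨a, ha⟩ := ENat.ne_top_iff_exists.1 (Ideal.height_ne_top_of_isPrime (I := p'))
  have h4 : (p'.height : WithBot ℕ∞) + ringKrullDim (R ⧸ p') =
      ringKrullDim (R ⧸ Ideal.ofList rs) + rs.length := h1.trans h2.symm
  have hQ : Nontrivial (R ⧸ p') := Ideal.Quotient.nontrivial_iff.2 (Ideal.IsPrime.ne_top ‹_›)
  have hQ' : Nontrivial (R ⧸ Ideal.ofList rs) :=
    Ideal.Quotient.nontrivial_iff.2 (ne_top_of_le_ne_top (Ideal.IsPrime.ne_top ‹_›) hle)
  haveI : IsLocalRing (R ⧸ p') := .of_surjective' _ Ideal.Quotient.mk_surjective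
  haveI : IsLocalRing (R ⧸ Ideal.ofList rs) := .of_surjective' _ Ideal.Quotient.mk_surjective
  obtain ⟨x, hx⟩ := exists_nat_dim (R ⧸ p')
  obtain ⟨y, hy⟩ := exists_nat_dim (R ⧸ Ideal.ofList rs)
  rw [← ha, hx, hy] at h4
  rw [hx, hy] at h3
  rw [← ha]
  have h5 : a + x = y + rs.length := by exact_mod_cast h4
  have h6 : x ≤ y := by exact_mod_cast h3
  exact_mod_cast (by omega : rs.length ≤ a)

theorem exists_isGlobalCI_of_isCIOver {S : Type u} [CommRing S] [Algebra k S] [Algebra.FiniteType k S] (q : Ideal S)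
    [q.IsPrime] (h : Synt.IsCIOver k (Localization.AtPrime q)) :
    ∃ g : S, g ∉ q ∧ Synt.IsGlobalCI k (Localization.Away g) := by
  classical
  obtain ⟨n, φ, hφ⟩ := Algebra.FiniteType.iff_quotient_mvPolynomial''.1 (inferInstance : Algebra.FiniteType k S)
  let q' := q.comap φ.toRingHom
  let R := Localization.AtPrime q'
  have hR : IsRegularLocalRing R := isRegularLocalRing_atPrime q'
  obtain ⟨π, hπ, hπk⟩ := exists_localMap φ hφ q
  have : IsNoetherianRing (Localization.AtPrime q) := isNoetherianRing_of_surjective _ _ π.toRingHom hπ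
  obtain ⟨rs, hrs, hl⟩ := (CAlgH.CIPresentation.isCompleteIntersection_iff π.toRingHom hπ).1
    ((isCIOver_iff _).1 h)
  let I := RingHom.ker φ.toRingHom
  have hch : ∀ i : Fin rs.length, ∃ x : I × q'.primeCompl,
      rs.get i * algebraMap _ R (x.2 : MvPolynomial (Fin n) k) = algebraMap _ R (x.1 : MvPolynomial (Fin n) k) := fun i => by
    rw [← IsLocalization.mem_map_algebraMap_iff q'.primeCompl, ← hπk, ← hl]
    exact Ideal.subset_span (List.get_mem _ _)
  choose x hx using hch
  let f : Fin rs.length → MvPolynomial (Fin n) k := fun i => (x i).1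
  let J := Ideal.span (Set.range f)
  have hJI : J ≤ I := Ideal.span_le.2 (Set.range_subset_iff.2 fun i => (x i).1.2)
  have hJR : J.map (algebraMap _ R) = Ideal.ofList rs := by
    apply le_antisymm
    · rw [hl, hπk]
      exact Ideal.map_mono hJI
    · refine Ideal.span_le.2 fun a ha => ?_
      obtain ⟨i, rfl⟩ := List.mem_iff_get.1 ha
      show rs.get i ∈ _
      show rs.get i ∈ J.map (algebraMap _ R)
      rw [← Ideal.mul_unit_mem_iff_mem _ (IsLocalization.map_units R (x i).2), hx i]
      exact Ideal.mem_map_of_mem _ (Ideal.subset_span ⟨i, rfl⟩)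
  obtain ⟨g₀, hg₀, hg₀m⟩ := exists_mul_mem q'.primeCompl R (IsNoetherian.noetherian I) (J := J)
    (by rw [hJR, hl, hπk])
  -- avoid the components not through the point
  let B := {p ∈ J.minimalPrimes | ¬ p ≤ q'}
  have hB : B.Finite := (Ideal.finite_minimalPrimes_of_isNoetherianRing _ J).subset fun p hp => hp.1
  have hb : ∀ p ∈ B, ∃ a ∈ p, a ∉ q' := fun p hp => Set.not_subset.1 hp.2
  choose a ha ha' using hb
  let g₁ := ∏ p ∈ hB.toFinset.attach, a p.1 (hB.mem_toFinset.1 p.2)
  have hg₁ : g₁ ∈ q'.primeCompl := prod_mem fun p _ => ha' _ _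
  let g := g₀ * g₁
  have hg : g ∈ q'.primeCompl := mul_mem hg₀ hg₁
  refine ⟨φ g, hg, ?_⟩
  let T := Synt.RelGCIRing k n rs.length f
  let π₀ : T →ₐ[k] S := Ideal.Quotient.liftₐ J φ (fun z hz => hJI hz)
  have hπ₀ : Function.Surjective π₀ := fun s => by
    obtain ⟨z, rfl⟩ := hφ s
    exact ⟨Ideal.Quotient.mk _ z, rfl⟩
  let gT : T := Ideal.Quotient.mk _ g
  obtain ⟨e⟩ := exists_awayEquiv_of_kills π₀ hπ₀ gT (fun z hz => by
    obtain ⟨z, rfl⟩ := Ideal.Quotient.mk_surjective z
    show Ideal.Quotient.mk J g * Ideal.Quotient.mk J z = 0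
    rw [← map_mul, Ideal.Quotient.eq_zero_iff_mem, show g * z = g₁ * (g₀ * z) by ring]
    exact J.mul_mem_left _ (hg₀m _ hz))
  obtain ⟨e'⟩ := exists_awayEquiv f g
  refine isGlobalCI_congr (e'.symm.trans e)
    (isGlobalCI_of_dim_le ?_ _ ?_)
  · have h1 := ringKrullDim_add_length_eq_ringKrullDim_of_isRegular rs hrs
    obtain ⟨h', d, hh', hd, hhd⟩ := exists_height_dim q'
    rw [IsLocalization.AtPrime.ringKrullDim_eq_height q' R, hh'] at h1
    have hQ' : Nontrivial (R ⧸ Ideal.ofList rs) :=
      Ideal.Quotient.nontrivial_iff.2 (hl ▸ RingHom.ker_ne_top _)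
    have h2 : (0 : WithBot ℕ∞) ≤ ringKrullDim (R ⧸ Ideal.ofList rs) := ringKrullDim_nonneg_of_nontrivial
    have h3 := add_le_add_left h2 (rs.length : WithBot ℕ∞)
    rw [h1, zero_add] at h3
    have h4 : rs.length ≤ h' := by exact_mod_cast h3
    exact Nat.succ_le_succ (by omega)
  rw [Nat.add_sub_add_right, ← ringKrullDim_eq_of_ringEquiv e'.toRingEquiv]
  let i : PrimeSpectrum (Localization.Away gT) → PrimeSpectrum (MvPolynomial (Fin n) k) :=
    fun p => PrimeSpectrum.comap (Ideal.Quotient.mk J) (PrimeSpectrum.comap (algebraMap T _) p)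
  have hi : StrictMono i := fun p₁ p₂ hp => lt_of_le_of_ne (Ideal.comap_mono (Ideal.comap_mono hp.le)) fun heq =>
    hp.ne (PrimeSpectrum.localization_comap_injective _ (Submonoid.powers gT)
      (PrimeSpectrum.comap_injective_of_surjective _ Ideal.Quotient.mk_surjective heq))
  refine krullDim_le_of_strictMono i hi (fun p => ?_) (fun y => ?_)
  · rw [← PrimeSpectrum.height_eq_orderHeight]
    have hJp : J ≤ (i p).asIdeal := fun z hz => by
      show algebraMap T (Localization.Away gT) (Ideal.Quotient.mk J z) ∈ p.asIdeal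
      rw [Ideal.Quotient.eq_zero_iff_mem.2 hz, map_zero]
      exact zero_mem _
    have hgp : g ∉ (i p).asIdeal := fun hgp => p.2.ne_top (Ideal.eq_top_of_isUnit_mem _ hgp
      (IsLocalization.Away.algebraMap_isUnit gT))
    obtain ⟨P, hP, hPle⟩ := Ideal.exists_minimalPrimes_le hJp
    have : P.IsPrime := hP.1.1
    refine le_trans ?_ (Ideal.height_mono hPle)
    have hPq : P ≤ q' := by
      by_contra hPq
      refine hgp (hPle (P.mul_mem_left _ ?_))
      exact P.mem_of_dvd (Finset.dvd_prod_of_mem _ (Finset.mem_attach _ ⟨P, hB.mem_toFinset.2 ⟨hP, hPq⟩⟩)) (ha _ _)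
    refine height_ge_of_regular q'.primeCompl hrs
      (Set.disjoint_left.2 fun z hz hzP => hz (hPq hzP)) ?_
    rw [← hJR]
    exact Ideal.map_mono hP.1.2
  · obtain ⟨h', d, hh', hd, hhd⟩ := exists_height_dim y.asIdeal
    rw [← PrimeSpectrum.height_eq_orderHeight, hh']
    exact_mod_cast (by omega : h' ≤ n)

end Groth.Agent.Synt15
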